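import Cfsg.Agent.Lib.TensorOrth.Main
import Cfsg.Agent.Lib.TensorForm.SympMain
import Cfsg.Agent.Lib.Forms.CharTwoPoints

/-!
The maximality statement in the coordinates of a tensor decomposition.
-/

set_option autoImplicit false
set_option linter.unusedSectionVars false

namespace Cfsg.Agent.Lib.TensorOrth

open Matrix QuadraticMap Cfsg.Agent.Lib Cfsg.Agent.Lib.TensorMax Cfsg.Agent.Lib.TensorForm
open scoped Kronecker

variable {F : Type*} [Field F] [Finite F] {ι : Type} [Fintype ι] [DecidableEq ι]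

theorem isSym_of_symmetricForm {n : ℕ} {f : (Fin n → F) → (Fin n → F) → F} (hf : Cfsg.Geo.IsSymmetricForm f)
    (h2 : (2 : F) ≠ 0) {c : F} (hc : c ≠ 0) : IsSym fun v w => c * f v w :=
  ⟨⟨fun x y v => by simp only [hf.bilinear.add_left, mul_add],
    fun t x v => by simp only [hf.bilinear.smul_left]; ring,
    fun v w => by simp only [RingHom.id_apply, one_mul, hf.symm v w],
    fun v hv => (hf.nondegenerate v hv).2.imp fun w hw => mul_ne_zero hc hw, fun s => rfl, by simp⟩, h2⟩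

omit [Finite F] in
theorem two_ne_zero_of_odd [Fintype F] (h : Odd (Fintype.card F)) : (2 : F) ≠ 0 :=
  Ring.two_ne_zero fun e =>
    Nat.not_even_iff_odd.2 h (Nat.even_iff.2 (FiniteField.even_card_iff_char_two.1 e))

omit [Finite F] [DecidableEq ι] in
/-- The factors of a tensor structure may be swapped. -/
theorem tensorStructure_swap [DecidableEq ι] {f : (ι → F) → (ι → F) → F} {n₁ n₂ : ℕ}
    {f₁ : (Fin n₁ → F) → (Fin n₁ → F) → F} {f₂ : (Fin n₂ → F) → (Fin n₂ → F) → F}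
    {e : ι ≃ Fin n₁ × Fin n₂} {P : GL ι F} (h : Cfsg.Geo.IsTensorFormStructure id f f₁ f₂ e P) :
    Cfsg.Geo.IsTensorFormStructure id f f₂ f₁ (e.trans (Equiv.prodComm _ _)) P := by
  obtain ⟨c, hc0, hc⟩ := h
  refine ⟨c, hc0, fun x y => (hc (x ∘ Prod.swap) (y ∘ Prod.swap)).trans ?_⟩
  congr 1
  simp only [Cfsg.Geo.formOfGram, id_eq]
  refine Fintype.sum_equiv (Equiv.prodComm _ _) _ _ fun p => Fintype.sum_equiv (Equiv.prodComm _ _) _ _ fun q => ?_
  simp only [kroneckerMap_apply, Function.comp_apply, Equiv.prodComm_apply, Prod.fst_swap, Prod.snd_swap]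
  ring

omit [Finite F] in
/-- The tensor product subgroup does not see the order of the factors. -/
theorem tensorProductSubgroup_swap {n₁ n₂ : ℕ} (e : ι ≃ Fin n₁ × Fin n₂) (P : GL ι F) :
    Cfsg.Geo.tensorProductSubgroup n₂ n₁ (e.trans (Equiv.prodComm _ _)) P =
      Cfsg.Geo.tensorProductSubgroup n₁ n₂ e P := by
  suffices key : ∀ {n₁ n₂ : ℕ} (e : ι ≃ Fin n₁ × Fin n₂),
      Cfsg.Geo.tensorProductSubgroup n₂ n₁ (e.trans (Equiv.prodComm _ _)) P ≤
        Cfsg.Geo.tensorProductSubgroup n₁ n₂ e P by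
    refine le_antisymm (key e) ?_
    have h := key (e.trans (Equiv.prodComm _ _))
    rwa [show (e.trans (Equiv.prodComm _ _)).trans (Equiv.prodComm _ _) = e from Equiv.ext fun i => Prod.swap_swap _]
      at h
  intro n₁ n₂ e
  rintro _ ⟨_, ⟨g, ⟨A, C, hAC⟩, rfl⟩, rfl⟩
  obtain ⟨g₁, hg₁⟩ : ∃ g₁ : GL (Fin n₁ × Fin n₂) F, (g₁ : Matrix (Fin n₁ × Fin n₂) (Fin n₁ × Fin n₂) F) =
      (C : Matrix (Fin n₁) (Fin n₁) F) ⊗ₖ (A : Matrix (Fin n₂) (Fin n₂) F) :=
    ⟨⟨(C : Matrix (Fin n₁) (Fin n₁) F) ⊗ₖ (A : Matrix (Fin n₂) (Fin n₂) F),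
      ((C⁻¹ : GL (Fin n₁) F) : Matrix (Fin n₁) (Fin n₁) F) ⊗ₖ ((A⁻¹ : GL (Fin n₂) F) : Matrix (Fin n₂) (Fin n₂) F),
      by rw [← mul_kronecker_mul, Units.mul_inv, Units.mul_inv, one_kronecker_one],
      by rw [← mul_kronecker_mul, Units.inv_mul, Units.inv_mul, one_kronecker_one]⟩, rfl⟩
  refine ⟨_, ⟨g₁, ⟨C, A, hg₁⟩, rfl⟩, congrArg (MulAut.conj P) (Units.ext (Matrix.ext fun i j => ?_))⟩
  show (g₁ : Matrix (Fin n₁ × Fin n₂) (Fin n₁ × Fin n₂) F) (e i) (e j) =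
    (g : Matrix (Fin n₂ × Fin n₁) (Fin n₂ × Fin n₁) F) (e i).swap (e j).swap
  rw [hg₁, hAC, kroneckerMap_apply, kroneckerMap_apply]
  exact mul_comm _ _

theorem isMaximalIn_map {G H : Type*} [Group G] [Group H] (Φ : G ≃* H) {K L : Subgroup G}
    (h : Cfsg.Geo.IsMaximalIn K L) :
    Cfsg.Geo.IsMaximalIn (K.map Φ.toMonoidHom) (L.map Φ.toMonoidHom) := by
  obtain ⟨hlt, hmax⟩ := h
  have hinj : Function.Injective Φ.toMonoidHom := Φ.injective
  refine ⟨lt_of_le_of_ne (Subgroup.map_mono hlt.le) fun e => hlt.ne (Subgroup.map_injective hinj e),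
    fun M h1 h2 => ?_⟩
  have hM : M = (M.comap Φ.toMonoidHom).map Φ.toMonoidHom :=
    (Subgroup.map_comap_eq_self_of_surjective Φ.surjective M).symm
  rw [hM] at h1 h2 ⊢
  rw [Subgroup.map_le_map_iff_of_injective hinj] at h1 h2
  rcases hmax _ h1 h2 with e | e
  · exact Or.inl (by rw [e])
  · exact Or.inr (by rw [e])

/-- Maximality for any tensor decomposition with admissible sizes. -/
theorem isMaximalIn_of_structure (q : QuadraticForm F (ι → F)) {a b : ℕ} (h2 : (2 : F) ≠ 0)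
    {e : ι ≃ Fin a × Fin b} {P : GL ι F} {f₁ : (Fin a → F) → (Fin a → F) → F}
    {f₂ : (Fin b → F) → (Fin b → F) → F} (hf₁ : Cfsg.Geo.IsSymmetricForm f₁) (hf₂ : Cfsg.Geo.IsSymmetricForm f₂)
    (hT : Cfsg.Geo.IsTensorFormStructure id (QuadraticMap.polar ⇑q) f₁ f₂ e P)
    (three_le : 3 ≤ a) (five_le : 5 ≤ b) (field : 5 ≤ Nat.card F ∨ 4 ≤ a)
    (minus : a = 4 → ∀ z y, z ≠ 0 → f₁ z z = 0 → f₁ y y = 0 → f₁ z y = 0 → y ∈ F ∙ z)
    (sizes : a + 2 ≤ b ∨ (Even a ∧ Odd b ∧ (b = a + 1 ∨ a = b + 1))) :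
    Cfsg.Geo.IsMaximalIn (Cfsg.Geo.omegaGL ⇑q)
      (Cfsg.Geo.tensorProductSubgroup a b e P ⊓ Cfsg.Geo.omegaGL ⇑q) := by
  classical
  obtain ⟨c, hc0, hc⟩ := hT
  have hW : IsSym f₂ := by
    have := isSym_of_symmetricForm hf₂ h2 (one_ne_zero (α := F))
    simpa using this
  have g₁₀ : IsSym f₁ := by
    have := isSym_of_symmetricForm hf₁ h2 (one_ne_zero (α := F))
    simpa using this
  let fU : (Fin a → F) → (Fin a → F) → F := fun v w => c * f₁ v w
  have hU : IsSym fU := isSym_of_symmetricForm hf₁ h2 hc0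
  let Lv : (Fin a × Fin b → F) →ₗ[F] (ι → F) :=
    (Matrix.mulVecLin (P : Matrix ι ι F)) ∘ₗ LinearMap.funLeft F F e
  have hLv : ∀ v, Lv v = (P : Matrix ι ι F) *ᵥ (v ∘ e) := fun v => rfl
  have hsur : Function.Surjective Lv := fun v => by
    refine ⟨(((P⁻¹ : GL ι F) : Matrix ι ι F) *ᵥ v) ∘ e.symm, ?_⟩
    rw [hLv, Function.comp_assoc, Equiv.symm_comp_self, Function.comp_id, Matrix.mulVec_mulVec,
      ← Units.val_mul, mul_inv_cancel, Units.val_one, Matrix.one_mulVec]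
  let Q' : QuadraticForm F (Fin a × Fin b → F) := q.comp Lv
  have hQ' : ∀ v, Q' v = q (Lv v) := fun v => rfl
  have hpol : ∀ X Y, QuadraticMap.polar ⇑Q' (ev X) (ev Y) = tB fU f₂ X Y := fun X Y => by
    have : QuadraticMap.polar ⇑Q' (ev X) (ev Y) = QuadraticMap.polar ⇑q (Lv (ev X)) (Lv (ev Y)) := by
      simp only [QuadraticMap.polar, hQ', map_add]
    rw [this, hLv, hLv, hc]
    have hg := tB_gram g₁₀.form hW.form X Y
    rw [show tB fU f₂ X Y = c * tB f₁ f₂ X Y by rw [tB, tB, Finset.mul_sum], ← hg]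
    rfl
  have S : OOSetup fU f₂ Q' (Cfsg.Geo.kroneckerSubgroup a b F ⊓ Cfsg.Geo.omegaGL ⇑Q') :=
    { symU := hU, symW := hW, polarQ := hpol, three_le := three_le, five_le := five_le, field := field
      minus := fun h z y hz0 hz hy hzy => minus h z y hz0 ((mul_eq_zero.1 hz).resolve_left hc0)
        ((mul_eq_zero.1 hy).resolve_left hc0) ((mul_eq_zero.1 hzy).resolve_left hc0)
      sizes := by rcases sizes with h | ⟨-, -, h | h⟩ <;> omega
      le_omega := inf_le_right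
      kron := fun g hg hgΩ => ⟨hg, hgΩ⟩ }
  have h := S.isMaximalIn_tensor fun hab => by
    rcases sizes with h | ⟨ha, hb, -⟩
    · exact absurd h hab
    · exact S.hasInvol ha hb
  let Φ : GL (Fin a × Fin b) F ≃* GL ι F := (Cfsg.Geo.glReindex e.symm).trans (MulAut.conj P)
  have hL : ∀ (g : GL (Fin a × Fin b) F) v,
      Lv ((g : Matrix (Fin a × Fin b) (Fin a × Fin b) F) *ᵥ v) = (Φ g : Matrix ι ι F) *ᵥ Lv v := fun g v => by
    have hΦ : (Φ g : Matrix ι ι F) = (P : Matrix ι ι F) *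
        (g : Matrix (Fin a × Fin b) (Fin a × Fin b) F).submatrix e e * ((P⁻¹ : GL ι F) : Matrix ι ι F) := rfl
    rw [hLv, hLv, hΦ, Matrix.mulVec_mulVec, Matrix.mul_assoc, ← Units.val_mul, inv_mul_cancel,
      Units.val_one, Matrix.mul_one, ← Matrix.mulVec_mulVec, Matrix.submatrix_mulVec_equiv,
      Function.comp_assoc, Equiv.self_comp_symm, Function.comp_id]
  have hΩ := map_omegaGL (Q₁ := ⇑Q') (Q₂ := ⇑q) Φ fun g => by
    rw [Orth.mem_isometryGroup_iff, Orth.mem_isometryGroup_iff]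
    refine ⟨fun hg v => ?_, fun hg v => ?_⟩
    · obtain ⟨w, rfl⟩ := hsur v
      rw [← hL]; exact hg w
    · rw [hQ', hQ', hL]; exact hg (Lv v)
  have hmap := isMaximalIn_map Φ h
  rw [Subgroup.map_inf _ _ _ Φ.injective, hΩ] at hmap
  rw [Cfsg.Geo.tensorProductSubgroup, Subgroup.map_map]
  exact hmap

end Cfsg.Agent.Lib.TensorOrth
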