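import Cfsg.Agent.Lib.TensorOrth.Space
import Cfsg.Agent.Lib.TensorForm.Levi
import Cfsg.Agent.Lib.TensorForm.SympBasic

/-!
The tensor product of two symmetric forms, `q` odd, and a subgroup of `Ω` containing the Kronecker elements.
-/

set_option autoImplicit false
set_option linter.unusedSectionVars false

namespace Cfsg.Agent.Lib.TensorOrth

open Matrix QuadraticMap Cfsg.Agent.Lib Cfsg.Agent.Lib.TensorMax Cfsg.Agent.Lib.TensorForm

variable {F : Type*} [Field F] {a b : ℕ}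

/-- Contraction of the second factor with a vector. -/
def kap (f : (Fin b → F) → (Fin b → F) → F) (c : Fin b → F) :
    Matrix (Fin a) (Fin b) F →ₗ[F] (Fin a → F) where
  toFun X := X *ᵥ cov f c
  map_add' X Y := add_mulVec X Y _
  map_smul' l X := smul_mulVec l X _

theorem rows_sum (X : Matrix (Fin a) (Fin b) F) : X = ∑ i, vecMulVec (Pi.single i 1) (X i) := by
  ext p q
  simp [Matrix.sum_apply, vecMulVec_apply, Pi.single_apply]

theorem lin_ext {W : Type*} [AddCommGroup W] [Module F W] {L L' : Matrix (Fin a) (Fin b) F →ₗ[F] W}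
    (h : ∀ u e, L (vecMulVec u e) = L' (vecMulVec u e)) (X : Matrix (Fin a) (Fin b) F) : L X = L' X := by
  rw [rows_sum X, map_sum, map_sum]
  exact Finset.sum_congr rfl fun i _ => h _ _

theorem det_ne_zero_of_injective {n : ℕ} {L : (Fin n → F) →ₗ[F] (Fin n → F)} (h : Function.Injective L) :
    (LinearMap.toMatrix' L).det ≠ 0 := by
  intro h0
  obtain ⟨v, hv, hv0⟩ := Matrix.exists_mulVec_eq_zero_iff.2 h0
  rw [LinearMap.toMatrix'_mulVec] at hv0
  exact hv (h (hv0.trans (map_zero L).symm))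

theorem IsSym.injective {n : ℕ} {f : (Fin n → F) → (Fin n → F) → F} (hf : IsSym f)
    {α : (Fin n → F) →ₗ[F] (Fin n → F)} (h : IsIso f α) : Function.Injective α := fun x y e =>
  hf.ext fun u => by rw [← h x u, ← h y u, e]

/-- A property closed under composition and holding for Siegel maps moves any singular vector to any other, up to
a scalar. -/
theorem IsSym.exists_move [Finite F] {n : ℕ} {f : (Fin n → F) → (Fin n → F) → F} (hf : IsSym f) (hn : 3 ≤ n)
    {P : ((Fin n → F) →ₗ[F] (Fin n → F)) → Prop} (hid : P LinearMap.id)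
    (hcomp : ∀ α β, P α → P β → P (α.comp β)) (hsieg : ∀ z w, f z z = 0 → f z w = 0 → P (sieg hf z w))
    {x y : Fin n → F} (hx0 : x ≠ 0) (hx : f x x = 0) (hy0 : y ≠ 0) (hy : f y y = 0) :
    ∃ α, P α ∧ ∃ t : F, t ≠ 0 ∧ α x = t • y := by
  classical
  have key : ∀ p q, f p p = 0 → f q q = 0 → f p q ≠ 0 → ∃ α, P α ∧ ∃ t : F, t ≠ 0 ∧ α p = t • q := by
    intro p q₀ hp hq₀ hpq₀
    obtain ⟨q, hq, hpq, hqdef⟩ : ∃ q, f q q = 0 ∧ f p q = 1 ∧ q = (f p q₀)⁻¹ • q₀ := ⟨_,
      by rw [hf.form.smul_left, hf.smul_right, hq₀, mul_zero, mul_zero],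
      by rw [hf.smul_right, inv_mul_cancel₀ hpq₀], rfl⟩
    have hqp : f q p = 1 := by rw [hf.symm p q]; exact hpq
    obtain ⟨w, hwp, hwq, hw⟩ : ∃ w, f w p = 0 ∧ f w q = 0 ∧ f w w ≠ 0 := by
      by_contra hno
      push Not at hno
      obtain ⟨w, hw, hw0⟩ := hf.exists_orth ![p, q] ⊥ (by rw [finrank_bot]; omega)
      refine hw0 ((Submodule.mem_bot F).2 (hf.ext fun u => ?_))
      have hwp : f w p = 0 := hw 0
      have hwq : f w q = 0 := hw 1
      set u' := u - f u q • p - f u p • q with hu'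
      have h1 : f u' p = 0 := by
        rw [hu', hf.form.sub_left, hf.form.sub_left, hf.form.smul_left, hf.form.smul_left, hp, hqp]; ring
      have h2 : f u' q = 0 := by
        rw [hu', hf.form.sub_left, hf.form.sub_left, hf.form.smul_left, hf.form.smul_left, hq, hpq]; ring
      have h3 := hf.polarise (hno w hwp hwq) (hno u' h1 h2)
        (hno _ (by rw [hf.form.add_left, hwp, h1, add_zero]) (by rw [hf.form.add_left, hwq, h2, add_zero]))
      rw [hu', hf.form.sub_right, hf.form.sub_right, hf.smul_right, hf.smul_right, hwp, hwq, mul_zero, mul_zero,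
        sub_zero, sub_zero] at h3
      rw [hf.form.zero_left]; exact h3
    set h := f w w / 2 with hh
    have hh0 : h ≠ 0 := div_ne_zero hw hf.two
    have hpw : f p w = 0 := by rw [hf.symm w p]; exact hwp
    have hqw : f q w = 0 := by rw [hf.symm w q]; exact hwq
    set w₂ := (-h⁻¹) • w with hw₂
    refine ⟨(sieg hf p (-w₂)).comp (sieg hf q w), hcomp _ _
        (hsieg p _ hp (by rw [← neg_one_smul F w₂, hf.smul_right, hw₂, hf.smul_right, hpw, mul_zero, mul_zero]))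
        (hsieg q w hq hqw), -h * (f p q₀)⁻¹, mul_ne_zero (neg_ne_zero.2 hh0) (inv_ne_zero hpq₀), ?_⟩
    have e1 : sieg hf q w p = p + w - h • q := by
      rw [hf.sieg_apply, hpq, hpw, ← hh]; module
    have e2 : sieg hf p w₂ q = q + w₂ - (f w₂ w₂ / 2) • p := by
      rw [hf.sieg_apply, hqp, show f q w₂ = 0 by rw [hw₂, hf.smul_right, hqw, mul_zero]]; module
    have e3 : p + w - h • q = (-h) • sieg hf p w₂ q := by
      rw [e2, hw₂, hf.form.smul_left, hf.smul_right]
      have h2 := hf.two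
      match_scalars <;> field_simp [hh0] <;> (rw [hh]; field_simp)
    rw [LinearMap.comp_apply, e1, e3, map_smul, hf.sieg_neg hp (by rw [hw₂, hf.smul_right, hpw, mul_zero]), hqdef,
      smul_smul]
  by_cases hxy : f x y = 0
  swap
  · exact key x y hx hy hxy
  by_cases hdep : x ∈ F ∙ y
  · obtain ⟨t, ht⟩ := Submodule.mem_span_singleton.1 hdep
    exact ⟨LinearMap.id, hid, t, fun e => hx0 (by rw [← ht, e, zero_smul]), ht.symm⟩
  have hdep' : y ∉ F ∙ x := fun hmem => by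
    obtain ⟨t, ht⟩ := Submodule.mem_span_singleton.1 hmem
    exact hdep (Submodule.mem_span_singleton.2 ⟨t⁻¹, by
      rw [← ht, smul_smul, inv_mul_cancel₀ (fun e => hy0 (by rw [← ht, e, zero_smul])), one_smul]⟩)
  obtain ⟨v₁, h10, h11⟩ := hf.exists_dual_out hdep
  obtain ⟨v₂, h20, h21⟩ := hf.exists_dual_out hdep'
  set v := v₁ + v₂ with hv
  have hvx : f v x = 1 := by rw [hv, hf.form.add_left, h11, h20 x (Submodule.mem_span_singleton_self x), add_zero]
  have hvy : f v y = 1 := by rw [hv, hf.form.add_left, h21, h10 y (Submodule.mem_span_singleton_self y), zero_add]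
  set z := v - (f v v / 2) • x with hzdef
  have hzx : f z x = 1 := by rw [hzdef, hf.form.sub_left, hf.form.smul_left, hvx, hx, mul_zero, sub_zero]
  have hzy : f z y = 1 := by rw [hzdef, hf.form.sub_left, hf.form.smul_left, hvy, hxy, mul_zero, sub_zero]
  have hz : f z z = 0 := by
    simp only [hzdef, hf.form.sub_left, hf.form.sub_right, hf.form.smul_left, hf.smul_right, hx]
    rw [hf.symm v x, hvx]
    linear_combination -div_mul_cancel₀ (f v v) hf.two
  obtain ⟨α, hα, t, ht, hαx⟩ := key x z hx hz (by rw [hf.symm z x, hzx]; exact one_ne_zero)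
  obtain ⟨β, hβ, t', ht', hβz⟩ := key z y hz hy (by rw [hzy]; exact one_ne_zero)
  exact ⟨β.comp α, hcomp _ _ hβ hα, t * t', mul_ne_zero ht ht', by
    rw [LinearMap.comp_apply, hαx, map_smul, hβz, smul_smul]⟩

/-- The setting. -/
structure OOSetup (fU : (Fin a → F) → (Fin a → F) → F) (fW : (Fin b → F) → (Fin b → F) → F)
    (Q : QuadraticForm F (Fin a × Fin b → F)) (M : Subgroup (GL (Fin a × Fin b) F)) : Prop where
  symU : IsSym fU
  symW : IsSym fW
  polarQ : ∀ X Y, polar ⇑Q (ev X) (ev Y) = tB fU fW X Y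
  three_le : 3 ≤ a
  five_le : 5 ≤ b
  field : 5 ≤ Nat.card F ∨ 4 ≤ a
  minus : a = 4 → ∀ z y, z ≠ 0 → fU z z = 0 → fU y y = 0 → fU z y = 0 → y ∈ F ∙ z
  sizes : b = a + 1 ∨ a = b + 1 ∨ a < b
  le_omega : M ≤ Cfsg.Geo.omegaGL ⇑Q
  kron : ∀ g ∈ Cfsg.Geo.kroneckerSubgroup a b F, g ∈ Cfsg.Geo.omegaGL ⇑Q → g ∈ M

namespace OOSetup

variable {fU : (Fin a → F) → (Fin a → F) → F} {fW : (Fin b → F) → (Fin b → F) → F}
  {Q : QuadraticForm F (Fin a × Fin b → F)} {M : Subgroup (GL (Fin a × Fin b) F)}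
  (S : OOSetup fU fW Q M)
include S

theorem two : (2 : F) ≠ 0 := S.symU.two

theorem kap_pure (c : Fin b → F) (u : Fin a → F) (e : Fin b → F) :
    kap fW c (vecMulVec u e) = fW e c • u := by
  show vecMulVec u e *ᵥ cov fW c = _
  rw [pure_mulVec, S.symW.form.dot_cov]

theorem kap_add (c d : Fin b → F) (X : Matrix (Fin a) (Fin b) F) :
    kap fW (c + d) X = kap fW c X + kap fW d X := by
  show X *ᵥ cov fW (c + d) = _
  rw [S.symW.form.cov_add, mulVec_add]; rfl

theorem kap_smul (l : F) (c : Fin b → F) (X : Matrix (Fin a) (Fin b) F) :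
    kap fW (l • c) X = l • kap fW c X := by
  show X *ᵥ cov fW (l • c) = _
  rw [S.symW.form.cov_smul, mulVec_smul]; rfl

theorem kap_neg (c : Fin b → F) (X : Matrix (Fin a) (Fin b) F) : kap fW (-c) X = -kap fW c X := by
  rw [← neg_one_smul F c, S.kap_smul, neg_one_smul]

/-! The form. -/

theorem B_add_left (X Y Z : Matrix (Fin a) (Fin b) F) :
    tB fU fW (X + Y) Z = tB fU fW X Z + tB fU fW Y Z := tB_add_left S.symU.form S.symW.form X Y Z

theorem B_smul_left (l : F) (X Z : Matrix (Fin a) (Fin b) F) : tB fU fW (l • X) Z = l * tB fU fW X Z :=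
  tB_smul_left S.symU.form S.symW.form l X Z

theorem B_add_right (X Y Z : Matrix (Fin a) (Fin b) F) :
    tB fU fW X (Y + Z) = tB fU fW X Y + tB fU fW X Z := tB_add_right S.symU.form S.symW.form X Y Z

theorem B_swap (X Y : Matrix (Fin a) (Fin b) F) : tB fU fW Y X = tB fU fW X Y := by
  rw [tB_herm S.symU.form S.symW.form, one_mul, one_mul, RingHom.id_apply]

theorem B_smul_right (l : F) (X Z : Matrix (Fin a) (Fin b) F) : tB fU fW X (l • Z) = l * tB fU fW X Z := by
  rw [S.B_swap (l • Z), S.B_smul_left, S.B_swap Z]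

/-- The form as a bilinear map. -/
noncomputable def Bl : LinearMap.BilinForm F (Matrix (Fin a) (Fin b) F) :=
  LinearMap.mk₂ F (tB fU fW) S.B_add_left S.B_smul_left S.B_add_right S.B_smul_right

theorem Bl_apply (X Y : Matrix (Fin a) (Fin b) F) : S.Bl X Y = tB fU fW X Y := rfl

theorem B_sub_left (X Y Z : Matrix (Fin a) (Fin b) F) :
    tB fU fW (X - Y) Z = tB fU fW X Z - tB fU fW Y Z := by
  simp only [← S.Bl_apply, map_sub, LinearMap.sub_apply]

theorem B_sub_right (X Y Z : Matrix (Fin a) (Fin b) F) :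
    tB fU fW X (Y - Z) = tB fU fW X Y - tB fU fW X Z := by
  simp only [← S.Bl_apply, map_sub]

theorem B_zero_left (Z : Matrix (Fin a) (Fin b) F) : tB fU fW 0 Z = 0 := tB_zero_left S.symU.form S.symW.form Z

theorem B_pure (X : Matrix (Fin a) (Fin b) F) (y : Fin a → F) (c : Fin b → F) :
    tB fU fW X (vecMulVec y c) = fU (kap fW c X) y := tB_pure S.symU.form S.symW.form X y c

theorem B_pure_left (X : Matrix (Fin a) (Fin b) F) (y : Fin a → F) (c : Fin b → F) :
    tB fU fW (vecMulVec y c) X = fU (kap fW c X) y := by rw [S.B_swap X, S.B_pure]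

theorem B_pure_pure (u v : Fin a → F) (e c : Fin b → F) :
    tB fU fW (vecMulVec u e) (vecMulVec v c) = fW e c * fU u v :=
  tB_pure_pure S.symU.form S.symW.form u v e c

theorem B_nondeg {X : Matrix (Fin a) (Fin b) F} (h : ∀ Y, tB fU fW X Y = 0) : X = 0 := by
  refine Matrix.ext fun i => ?_
  have hi : X i = 0 := by
    by_contra hne
    obtain ⟨c, hc⟩ := S.symW.form.nondeg _ hne
    have h1 : kap fW c X = 0 := S.symU.ext fun u => by rw [S.symU.form.zero_left, ← S.B_pure, h]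
    refine hc ?_
    rw [← S.symW.form.dot_cov]
    exact congrFun h1 i
  exact fun j => congrFun hi j

theorem polar_self (X : Matrix (Fin a) (Fin b) F) : 2 * Q (ev X) = tB fU fW X X := by
  rw [← S.polarQ, QuadraticMap.polar_self]; ring

theorem Q_pure {u : Fin a → F} {c : Fin b → F} (h : fW c c * fU u u = 0) : Q (ev (vecMulVec u c)) = 0 := by
  refine (mul_eq_zero.1 ?_).resolve_left S.two
  rw [S.polar_self, S.B_pure_pure, h]

theorem nondegQ : (QuadraticMap.polarBilin Q).Nondegenerate := by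
  have key : ∀ X, (∀ Y, polar ⇑Q (ev X) (ev Y) = 0) → ev X = 0 := fun X h => by
    have hX : X = 0 := S.B_nondeg fun Y => by rw [← S.polarQ]; exact h Y
    rw [hX, map_zero]
  constructor
  · intro v hv
    obtain ⟨X, rfl⟩ := ev_surjective v
    exact key X fun Y => hv (ev Y)
  · intro v hv
    obtain ⟨X, rfl⟩ := ev_surjective v
    exact key X fun Y => by rw [polar_comm]; exact hv (ev Y)

theorem seven_le : 7 ≤ Fintype.card (Fin a × Fin b) := by
  rw [Fintype.card_prod, Fintype.card_fin, Fintype.card_fin]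
  have := Nat.mul_le_mul S.three_le S.five_le
  omega

theorem iso {g : GL (Fin a × Fin b) F} (hg : g ∈ M) (X Y : Matrix (Fin a) (Fin b) F) :
    tB fU fW (op g X) (op g Y) = tB fU fW X Y := by
  obtain ⟨g', -, rfl⟩ := S.le_omega hg
  rw [← S.polarQ, ← S.polarQ, ev_op, ev_op]
  exact SingMax.polar_of_iso (Orth.mem_isometryGroup_iff.1 g'.2) _ _

/-- A Kronecker product of isometries. -/
theorem exists_isom {α : (Fin a → F) →ₗ[F] (Fin a → F)} {β : (Fin b → F) →ₗ[F] (Fin b → F)}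
    (hα : IsIso fU α) (hβ : IsIso fW β) :
    ∃ g ∈ Cfsg.isometryGroup F ⇑Q, g ∈ Cfsg.Geo.kroneckerSubgroup a b F ∧
      ∀ u e, op g (vecMulVec u e) = vecMulVec (α u) (β e) := by
  obtain ⟨g, hg, -, hgX⟩ := exists_kron_of (LinearMap.toMatrix' α) (LinearMap.toMatrix' β)
    (det_ne_zero_of_injective (S.symU.injective hα)) (det_ne_zero_of_injective (S.symW.injective hβ))
  have e : ∀ u e, op g (vecMulVec u e) = vecMulVec (α u) (β e) := fun u e => by
    rw [hgX, LinearMap.toMatrix'_mulVec, LinearMap.toMatrix'_mulVec]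
  refine ⟨g, Orth.mem_isometryGroup_iff.2 fun v => ?_, hg, e⟩
  obtain ⟨X, rfl⟩ := ev_surjective v
  refine mul_left_cancel₀ S.two ?_
  rw [← ev_op, S.polar_self, S.polar_self]
  exact tB_iso_of_pure S.symU.form S.symW.form (fun x y p q => by rw [e, e, S.B_pure_pure, hα, hβ]) X X

theorem exists_comm {pU qU αU : (Fin a → F) →ₗ[F] (Fin a → F)} {pW qW αW : (Fin b → F) →ₗ[F] (Fin b → F)}
    (h1 : IsIso fU pU) (h2 : IsIso fU qU) (h3 : IsIso fW pW) (h4 : IsIso fW qW)
    (hU : ∀ x, αU (qU (pU x)) = pU (qU x)) (hW : ∀ x, αW (qW (pW x)) = pW (qW x)) :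
    ∃ g ∈ M, g ∈ Cfsg.Geo.kroneckerSubgroup a b F ∧
      ∀ u e, op g (vecMulVec u e) = vecMulVec (αU u) (αW e) := by
  obtain ⟨p, hp, hpk, hpX⟩ := S.exists_isom h1 h3
  obtain ⟨q, hq, hqk, hqX⟩ := S.exists_isom h2 h4
  have hk : p * q * p⁻¹ * q⁻¹ ∈ Cfsg.Geo.kroneckerSubgroup a b F :=
    mul_mem (mul_mem (mul_mem hpk hqk) (inv_mem hpk)) (inv_mem hqk)
  refine ⟨p * q * p⁻¹ * q⁻¹, S.kron _ hk ?_, hk, fun u e => ?_⟩
  · rw [Cfsg.Geo.omegaGL]
    let P : ↥(Cfsg.isometryGroup F ⇑Q) := ⟨p, hp⟩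
    let R : ↥(Cfsg.isometryGroup F ⇑Q) := ⟨q, hq⟩
    refine Subgroup.mem_map.2 ⟨P * R * P⁻¹ * R⁻¹, ?_, by
      simp only [Subgroup.coe_subtype, Subgroup.coe_mul, Subgroup.coe_inv, P, R]⟩
    rw [Cfsg.Omega, commutator_def]
    exact Subgroup.commutator_mem_commutator (Subgroup.mem_top P) (Subgroup.mem_top R)
  · obtain ⟨u', rfl⟩ : ∃ u', qU (pU u') = u :=
      (LinearMap.injective_iff_surjective.1 (show Function.Injective (qU.comp pU) from
        (S.symU.injective h2).comp (S.symU.injective h1))) u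
    obtain ⟨e', rfl⟩ : ∃ e', qW (pW e') = e :=
      (LinearMap.injective_iff_surjective.1 (show Function.Injective (qW.comp pW) from
        (S.symW.injective h4).comp (S.symW.injective h3))) e
    rw [hU, hW, op_mul, op_mul, ← hqX, op_inv_op, ← hpX, op_inv_op, op_mul, hqX, hpX]

theorem exists_commU {α : (Fin a → F) →ₗ[F] (Fin a → F)} (h : IsComm fU α) :
    ∃ g ∈ M, g ∈ Cfsg.Geo.kroneckerSubgroup a b F ∧ (∀ u e, op g (vecMulVec u e) = vecMulVec (α u) e) ∧
      ∀ c X, kap fW c (op g X) = α (kap fW c X) := by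
  obtain ⟨p, q, hp, hq, hpq⟩ := h
  obtain ⟨g, hg, hgk, hgX⟩ := S.exists_comm (αW := LinearMap.id) (pW := LinearMap.id) (qW := LinearMap.id)
    hp hq (fun _ _ => rfl) (fun _ _ => rfl) hpq fun x => rfl
  refine ⟨g, hg, hgk, hgX, fun c => ?_⟩
  refine lin_ext (L := (kap fW c).comp (op g)) (L' := α.comp (kap fW c)) fun u e => ?_
  rw [LinearMap.comp_apply, LinearMap.comp_apply, hgX, LinearMap.id_apply, S.kap_pure, S.kap_pure, map_smul]

theorem exists_commW {β : (Fin b → F) →ₗ[F] (Fin b → F)} (h : IsComm fW β) :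
    ∃ g ∈ M, g ∈ Cfsg.Geo.kroneckerSubgroup a b F ∧ ∀ u e, op g (vecMulVec u e) = vecMulVec u (β e) := by
  obtain ⟨p, q, hp, hq, hpq⟩ := h
  exact S.exists_comm (αU := LinearMap.id) (pU := LinearMap.id) (qU := LinearMap.id)
    (fun _ _ => rfl) (fun _ _ => rfl) hp hq (fun x => rfl) hpq

variable [Finite F]

/-- The Siegel elements of `W` lie in `M`. -/
theorem exists_E {c v : Fin b → F} (hc : fW c c = 0) (hcv : fW c v = 0) :
    ∃ g ∈ M, g ∈ Cfsg.Geo.kroneckerSubgroup a b F ∧ ∀ X, op g X =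
      X + vecMulVec (kap fW c X) v - vecMulVec (kap fW v X) c - (fW v v / 2) • vecMulVec (kap fW c X) c := by
  obtain ⟨g, hg, hgk, hgX⟩ := S.exists_commW (S.symW.sieg_comm hc hcv)
  refine ⟨g, hg, hgk, lin_ext (L := op g) (L' := LinearMap.id + (pl a v).comp (kap fW c) - (pl a c).comp (kap fW v)
    - (fW v v / 2) • (pl a c).comp (kap fW c)) fun u e => ?_⟩
  simp only [hgX, LinearMap.sub_apply, LinearMap.add_apply, LinearMap.id_apply, LinearMap.smul_apply,
    LinearMap.comp_apply, pl_apply, S.kap_pure, S.symW.sieg_apply, pure_smul_left]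
  simp only [sub_eq_add_neg, ← neg_smul, pure_add_right, pure_smul_right, smul_smul, neg_mul, neg_neg]

theorem exists_moveW {x y : Fin b → F} (hx0 : x ≠ 0) (hx : fW x x = 0) (hy0 : y ≠ 0) (hy : fW y y = 0) :
    ∃ g ∈ M, g ∈ Cfsg.Geo.kroneckerSubgroup a b F ∧ ∃ β : (Fin b → F) →ₗ[F] (Fin b → F), IsIso fW β ∧
      (∀ u e, op g (vecMulVec u e) = vecMulVec u (β e)) ∧ ∃ t : F, t ≠ 0 ∧ β x = t • y := by
  obtain ⟨β, ⟨g, hg, hgk, hi, hX⟩, ht⟩ := S.symW.exists_move (by have := S.five_le; omega)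
    (P := fun β => ∃ g ∈ M, g ∈ Cfsg.Geo.kroneckerSubgroup a b F ∧ IsIso fW β ∧
      ∀ u e, op g (vecMulVec u e) = vecMulVec u (β e))
    ⟨1, M.one_mem, one_mem _, fun _ _ => rfl, fun u e => op_one _⟩
    (fun α β ⟨g, hg, hgk, hi, hX⟩ ⟨g', hg', hgk', hi', hX'⟩ => ⟨g * g', M.mul_mem hg hg', mul_mem hgk hgk',
      fun p q => by rw [LinearMap.comp_apply, LinearMap.comp_apply, hi, hi'],
      fun u e => by rw [op_mul, hX', hX]; rfl⟩)
    (fun z w hz hzw => by
      obtain ⟨g, hg, hgk, hX⟩ := S.exists_commW (S.symW.sieg_comm hz hzw)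
      exact ⟨g, hg, hgk, S.symW.sieg_iso hz hzw, hX⟩) hx0 hx hy0 hy
  exact ⟨g, hg, hgk, β, hi, hX, ht⟩

theorem exists_moveU {x y : Fin a → F} (hx0 : x ≠ 0) (hx : fU x x = 0) (hy0 : y ≠ 0) (hy : fU y y = 0) :
    ∃ g ∈ M, g ∈ Cfsg.Geo.kroneckerSubgroup a b F ∧ ∃ α : (Fin a → F) →ₗ[F] (Fin a → F), IsIso fU α ∧
      (∀ u e, op g (vecMulVec u e) = vecMulVec (α u) e) ∧ ∃ t : F, t ≠ 0 ∧ α x = t • y := by
  obtain ⟨α, ⟨g, hg, hgk, hi, hX⟩, ht⟩ := S.symU.exists_move S.three_le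
    (P := fun α => ∃ g ∈ M, g ∈ Cfsg.Geo.kroneckerSubgroup a b F ∧ IsIso fU α ∧
      ∀ u e, op g (vecMulVec u e) = vecMulVec (α u) e)
    ⟨1, M.one_mem, one_mem _, fun _ _ => rfl, fun u e => op_one _⟩
    (fun α β ⟨g, hg, hgk, hi, hX⟩ ⟨g', hg', hgk', hi', hX'⟩ => ⟨g * g', M.mul_mem hg hg', mul_mem hgk hgk',
      fun p q => by rw [LinearMap.comp_apply, LinearMap.comp_apply, hi, hi'],
      fun u e => by rw [op_mul, hX', hX]; rfl⟩)
    (fun z w hz hzw => by
      obtain ⟨g, hg, hgk, hX, -⟩ := S.exists_commU (S.symU.sieg_comm hz hzw)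
      exact ⟨g, hg, hgk, S.symU.sieg_iso hz hzw, hX⟩) hx0 hx hy0 hy
  exact ⟨g, hg, hgk, α, hi, hX, ht⟩

end OOSetup

end Cfsg.Agent.Lib.TensorOrth
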