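import Cfsg.Agent.Lib.TensorOrth.Stab
import Cfsg.Agent.Lib.TensorMixed.Stab

/-!
A conjugator of a long root element of the second factor into the Kronecker group is Kronecker.
-/

set_option autoImplicit false
set_option linter.unusedSectionVars false

namespace Cfsg.Agent.Lib.TensorOrth

open Matrix Cfsg.Agent.Lib Cfsg.Agent.Lib.TensorMax Cfsg.Agent.Lib.TensorForm

variable {F : Type*} [Field F] {a b : ℕ}

namespace OOSetup

variable {fU : (Fin a → F) → (Fin a → F) → F} {fW : (Fin b → F) → (Fin b → F) → F}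
  {Q : QuadraticForm F (Fin a × Fin b → F)} {M : Subgroup (GL (Fin a × Fin b) F)}
  (S : OOSetup fU fW Q M)
include S

variable [Finite F]

/-- The long root element at an orthogonal pair of singular vectors. -/
theorem exists_rho {c d : Fin b → F} (hc : fW c c = 0) (hd : fW d d = 0) (hcd : fW c d = 0) (l : F) :
    ∃ g ∈ M, g ∈ Cfsg.Geo.kroneckerSubgroup a b F ∧ ∀ X, op g X =
      X + l • (vecMulVec (kap fW c X) d - vecMulVec (kap fW d X) c) := by
  obtain ⟨g, hg, hgk, hX⟩ := S.exists_E (c := c) (v := l • d) hc (by rw [S.symW.smul_right, hcd, mul_zero])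
  refine ⟨g, hg, hgk, fun X => ?_⟩
  rw [hX, S.kap_smul, pure_smul_left, pure_smul_right, S.symW.form.smul_left, S.symW.smul_right, hd, mul_zero,
    mul_zero, zero_div, zero_smul, sub_zero, smul_sub, add_sub_assoc]

theorem exists_pair_duals {c d : Fin b → F} (hc0 : c ≠ 0) (hdc : d ∉ F ∙ c) :
    ∃ e e', fW e c = 1 ∧ fW e d = 0 ∧ fW e' c = 0 ∧ fW e' d = 1 := by
  have hcd : c ∉ F ∙ d := fun hmem => by
    obtain ⟨t, ht⟩ := Submodule.mem_span_singleton.1 hmem
    exact hdc (Submodule.mem_span_singleton.2 ⟨t⁻¹, by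
      rw [← ht, smul_smul, inv_mul_cancel₀ (fun e => hc0 (by rw [← ht, e, zero_smul])), one_smul]⟩)
  obtain ⟨e, he, hec⟩ := S.symW.exists_dual_out hcd
  obtain ⟨e', he', hed⟩ := S.symW.exists_dual_out hdc
  exact ⟨e, e', hec, he d (Submodule.mem_span_singleton_self d), he' c (Submodule.mem_span_singleton_self c), hed⟩

/-- A conjugate of a long root element of `W` that is Kronecker has a Kronecker conjugator. -/
theorem kron_of_conj (K : FixKron fW M) {c d : Fin b → F} (hc0 : c ≠ 0) (hc : fW c c = 0) (hd : fW d d = 0)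
    (hcd : fW c d = 0) (hdc : d ∉ F ∙ c) {g t : GL (Fin a × Fin b) F} (hg : g ∈ M)
    (htX : ∀ X, op t X = X + (vecMulVec (kap fW c X) d - vecMulVec (kap fW d X) c))
    (hy : g * t * g⁻¹ ∈ Cfsg.Geo.kroneckerSubgroup a b F) : g ∈ Cfsg.Geo.kroneckerSubgroup a b F := by
  classical
  have ha := S.three_le
  have hb := S.five_le
  have hdc' : fW d c = 0 := by rw [S.symW.symm c d]; exact hcd
  obtain ⟨ec, ed, h11, h12, h21, h22⟩ := S.exists_pair_duals hc0 hdc
  set y := g * t * g⁻¹ with hydef
  let D : Matrix (Fin a) (Fin b) F →ₗ[F] Matrix (Fin a) (Fin b) F :=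
    (pl a d).comp (kap fW c) - (pl a c).comp (kap fW d)
  have hD : ∀ X, D X = vecMulVec (kap fW c X) d - vecMulVec (kap fW d X) c := fun X => rfl
  have hyX : ∀ X, op y X = X + op g (D (op g⁻¹ X)) := fun X => by
    rw [hydef, op_mul, op_mul, htX, map_add, op_op_inv, hD]
  have hDk : ∀ w, fW c w = 0 → fW d w = 0 → ∀ X, kap fW w (D X) = 0 := fun w h1 h2 X => by
    rw [hD, map_sub, S.kap_pure, S.kap_pure, h1, h2, zero_smul, zero_smul, sub_zero]
  have hDD : ∀ X, D (D X) = 0 := fun X => by
    rw [hD (D X), hDk c hc hdc', hDk d hcd hd, pure_zero_left, pure_zero_left, sub_zero]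
  have hquad : ∀ X, op y (op y X) - (2 : F) • op y X + X = 0 := fun X => by
    rw [hyX (op y X)]
    conv_lhs => arg 1; arg 1; arg 2; rw [hyX X, map_add, op_inv_op, map_add, hDD, add_zero]
    rw [hyX X]
    module
  have hDc : ∀ u, D (vecMulVec u ec) = vecMulVec u d := fun u => by
    rw [hD, S.kap_pure, S.kap_pure, h11, h12, one_smul, zero_smul, pure_zero_left, sub_zero]
  have hDd : ∀ u, D (vecMulVec (-u) ed) = vecMulVec u c := fun u => by
    rw [hD, S.kap_pure, S.kap_pure, h21, h22, one_smul, zero_smul, pure_zero_left, zero_sub, pure_neg_left, neg_neg]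
  have hgD : ∀ Y, op g (D Y) = op y (op g Y) - op g Y := fun Y => by
    rw [hyX, op_inv_op, add_sub_cancel_left]
  have hDB : ∀ X Y, tB fU fW (D X) (D Y) = 0 := fun X Y => by
    rw [hD Y, S.B_sub_right, S.B_pure, S.B_pure, hDk d hcd hd, hDk c hc hdc', S.symU.form.zero_left,
      S.symU.form.zero_left, sub_zero]
  obtain ⟨u₀, u₁, huu⟩ := S.exists_uu
  have hu₀ : u₀ ≠ 0 := fun e => huu (by rw [e, S.symU.form.zero_left])
  obtain ⟨A, C, hAC⟩ := hy
  have hpure : ∀ u e, op y (vecMulVec u e) =
      vecMulVec ((A : Matrix (Fin a) (Fin a) F) *ᵥ u) ((C : Matrix (Fin b) (Fin b) F) *ᵥ e) := fun u e => by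
    rw [op_kron hAC, mul_vecMulVec, vecMulVec_mul, vecMul_transpose]
  by_cases hA : ∀ u, ∃ t : F, (A : Matrix (Fin a) (Fin a) F) *ᵥ u = t • u
  · -- `y` is `1 ⊗ G`
    obtain ⟨a₀, ha₀⟩ := exists_scalar_of_eigen (Matrix.mulVecLin (A : Matrix (Fin a) (Fin a) F)) hA
    simp only [Matrix.mulVecLin_apply] at ha₀
    let jf : (Fin b → F) →ₗ[F] (Fin b → F) :=
      a₀ • Matrix.mulVecLin (C : Matrix (Fin b) (Fin b) F) - LinearMap.id
    have hyj : ∀ u e, op y (vecMulVec u e) - vecMulVec u e = vecMulVec u (jf e) := fun u e => by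
      rw [hpure, ha₀, pure_smul_left, ← pure_smul_right, ← pure_sub_right]; rfl
    have hk : ∀ w, (∀ j ∈ LinearMap.range jf, fW w j = 0) → ∀ Y, kap fW w (op y Y - Y) = 0 := by
      intro w hw
      refine lin_ext (L := (kap fW w).comp (op y - LinearMap.id)) (L' := 0) fun u e => ?_
      rw [LinearMap.comp_apply, LinearMap.sub_apply, LinearMap.id_apply, hyj, S.kap_pure, LinearMap.zero_apply,
        S.symW.symm w (jf e), hw _ ⟨e, rfl⟩, zero_smul]
    have hjD : ∀ u e, vecMulVec u (jf e) = op g (D (op g⁻¹ (vecMulVec u e))) := fun u e => by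
      rw [← hyj, hyX, add_sub_cancel_left]
    obtain ⟨e₁, he₁⟩ : ∃ e, jf e ≠ 0 := by
      by_contra hno
      push Not at hno
      have hid : ∀ X, op y X = X := lin_ext (L := op y) (L' := LinearMap.id) fun u e => by
        rw [LinearMap.id_apply]
        exact sub_eq_zero.1 (by rw [hyj, hno, pure_zero_right])
      have h := hgD (vecMulVec u₀ ec)
      rw [hid, sub_self, hDc, ← map_zero (op g)] at h
      have hd0 : d ≠ 0 := fun e => hdc (by rw [e]; exact Submodule.zero_mem _)
      exact hu₀ (pl_injective hd0 ((op_injective g h).trans (map_zero (pl a d)).symm))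
    obtain ⟨v, hv, hvℓ⟩ := S.symW.exists_orth ![c, d] (F ∙ c ⊔ F ∙ d) (by
      have := Submodule.finrank_add_le_finrank_add_finrank (F ∙ c) (F ∙ d)
      have h1 : Module.finrank F (F ∙ c) ≤ 1 := (finrank_span_le_card ({c} : Set (Fin b → F))).trans (by simp)
      have h2 : Module.finrank F (F ∙ d) ≤ 1 := (finrank_span_le_card ({d} : Set (Fin b → F))).trans (by simp)
      omega)
    have hℓ : ∀ x ∈ F ∙ c ⊔ F ∙ d, ∃ s r : F, x = s • c + r • d := fun x hx => by
      obtain ⟨p, hp, q, hq, rfl⟩ := Submodule.mem_sup.1 hx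
      obtain ⟨s, rfl⟩ := Submodule.mem_span_singleton.1 hp
      obtain ⟨r, rfl⟩ := Submodule.mem_span_singleton.1 hq
      exact ⟨s, r, rfl⟩
    refine S.kron_of_planes K (ℓ := F ∙ c ⊔ F ∙ d) (J := LinearMap.range jf) (c := c) (c' := jf e₁) (v := v)
      (Submodule.mem_sup_left (Submodule.mem_span_singleton_self c)) hc0 ?_ ⟨e₁, rfl⟩ he₁ ?_ ?_ hvℓ hg ?_ ?_
    · intro x hx x' hx'
      obtain ⟨s, r, rfl⟩ := hℓ x hx
      obtain ⟨s', r', rfl⟩ := hℓ x' hx'
      simp only [S.symW.form.add_left, S.symW.form.add_right, S.symW.form.smul_left, S.symW.smul_right, hc, hd, hcd,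
        hdc', mul_zero, add_zero]
    · have h := hDB (op g⁻¹ (vecMulVec u₀ e₁)) (op g⁻¹ (vecMulVec u₁ e₁))
      rw [← S.iso hg, ← hjD, ← hjD, S.B_pure_pure] at h
      exact (mul_eq_zero.1 h).resolve_right huu
    · intro x hx
      obtain ⟨s, r, rfl⟩ := hℓ x hx
      rw [S.symW.form.add_right, S.symW.smul_right, S.symW.smul_right, show fW v c = 0 from hv 0,
        show fW v d = 0 from hv 1, mul_zero, mul_zero, add_zero]
    · intro u x hx w hw
      obtain ⟨s, r, rfl⟩ := hℓ x hx
      rw [pure_add_right, pure_smul_right, pure_smul_right, ← hDd u, ← hDc u, map_add, map_smul, map_smul, hgD, hgD,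
        map_add, map_smul, map_smul, hk w hw, hk w hw, smul_zero, smul_zero, add_zero]
    · rintro u _ ⟨e, rfl⟩ w hw
      rw [hjD, op_inv_op]
      refine hDk w ?_ ?_ _ <;> rw [S.symW.symm w]
      · exact hw c (Submodule.mem_sup_left (Submodule.mem_span_singleton_self c))
      · exact hw d (Submodule.mem_sup_right (Submodule.mem_span_singleton_self d))
  · -- `y` is `A ⊗ 1`: impossible
    exfalso
    push Not at hA
    obtain ⟨u₂, hu₂⟩ := hA
    obtain ⟨φ, hφ0, hφ1⟩ := exists_sep (T := F ∙ u₂) (x := (A : Matrix (Fin a) (Fin a) F) *ᵥ u₂)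
      (fun hm => by
        obtain ⟨t, ht⟩ := Submodule.mem_span_singleton.1 hm
        exact hu₂ t ht.symm)
    set β := ((A : Matrix (Fin a) (Fin a) F) *ᵥ ((A : Matrix (Fin a) (Fin a) F) *ᵥ u₂)) ⬝ᵥ φ
    have hCinj : Function.Injective fun e => (C : Matrix (Fin b) (Fin b) F) *ᵥ e := fun p q e => by
      have := congrArg (fun z => ((C⁻¹ : GL (Fin b) F) : Matrix (Fin b) (Fin b) F) *ᵥ z) e
      simpa [mulVec_mulVec] using this
    have hC : ∀ e, β • ((C : Matrix (Fin b) (Fin b) F) *ᵥ e) = (2 : F) • e := fun e => by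
      refine hCinj ?_
      show (C : Matrix (Fin b) (Fin b) F) *ᵥ _ = (C : Matrix (Fin b) (Fin b) F) *ᵥ _
      have h := congrArg (fun Z => φ ᵥ* Z) (hquad (vecMulVec u₂ e))
      simp only [hpure, vecMul_add, vecMul_sub, vecMul_smul, vecMul_pure, vecMul_zero, dotProduct_comm φ,
        hφ1, hφ0 _ (Submodule.mem_span_singleton_self u₂), one_smul, zero_smul, add_zero] at h
      rw [mulVec_smul, mulVec_smul]
      exact sub_eq_zero.1 h
    have hβ : β ≠ 0 := by
      intro e0
      have h := hC ec
      rw [e0, zero_smul] at h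
      have he' : ec = 0 := (smul_eq_zero.1 h.symm).resolve_left S.two
      rw [he', S.symW.form.zero_left] at h11
      exact zero_ne_one h11
    let L : (Fin a → F) →ₗ[F] (Fin a → F) :=
      (2 / β) • Matrix.mulVecLin (A : Matrix (Fin a) (Fin a) F) - LinearMap.id
    have hyL : ∀ u e, op y (vecMulVec u e) - vecMulVec u e = vecMulVec (L u) e := fun u e => by
      have h2 : (C : Matrix (Fin b) (Fin b) F) *ᵥ e = (2 / β) • e := by
        rw [div_eq_inv_mul, mul_smul, ← hC e, smul_smul, inv_mul_cancel₀ hβ, one_smul]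
      rw [hpure, h2, pure_smul_right, ← pure_smul_left, ← pure_sub_left]
      rfl
    have hyl : ∀ Y, op y Y - Y = lft L Y := lin_ext (L := op y - LinearMap.id) (L' := lft L) fun u e => by
      rw [LinearMap.sub_apply, LinearMap.id_apply, hyL, lft_pure]
    let Φ : (Fin a → F) × (Fin a → F) →ₗ[F] Matrix (Fin a) (Fin b) F :=
      (op g).comp ((pl a c).coprod (pl a d))
    have hΦ : Function.Injective Φ := by
      refine (op_injective g).comp ?_
      intro x x' h
      have h1 := congrArg (kap fW ec) h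
      have h2 := congrArg (kap fW ed) h
      simp only [LinearMap.coprod_apply, map_add, pl_apply, S.kap_pure] at h1 h2
      simp only [S.symW.symm ec c, S.symW.symm ec d, S.symW.symm ed c, S.symW.symm ed d, h11, h12, h21, h22, one_smul,
        zero_smul, add_zero, zero_add] at h1 h2
      exact Prod.ext h1 h2
    have hrange : LinearMap.range Φ = LinearMap.range (TensorMixed.ofCols (s := b) (LinearMap.range L)) := by
      refine le_antisymm ?_ ?_
      · rintro _ ⟨⟨p, q⟩, rfl⟩
        show op g (vecMulVec p c + vecMulVec q d) ∈ _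
        rw [← hDd p, ← hDc q, map_add, hgD, hgD, hyl, hyl, ← map_add]
        exact TensorMixed.mem_range_ofCols fun j => TensorMixed.col_mem_range L _ j
      · rintro _ ⟨f, rfl⟩
        choose z hz using fun j => LinearMap.mem_range.1 (f j).2
        have e1 : TensorMixed.ofCols (LinearMap.range L) f = lft L (Matrix.of fun i j => z j i) := by
          ext i j
          show (f j : Fin a → F) i = _
          rw [← hz j, ← LinearMap.toMatrix'_mulVec L]
          rfl
        rw [e1, ← hyl, hyX, add_sub_cancel_left]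
        refine ⟨(-kap fW d (op g⁻¹ (Matrix.of fun i j => z j i)), kap fW c (op g⁻¹ (Matrix.of fun i j => z j i))),
          congrArg (op g) (?_ : ((pl a c).coprod (pl a d)) _ = D (op g⁻¹ (Matrix.of fun i j => z j i)))⟩
        rw [LinearMap.coprod_apply, pl_apply, pl_apply, pure_neg_left, neg_add_eq_sub, hD]
    have hdim : b * Module.finrank F (LinearMap.range L) = 2 * a := by
      rw [← TensorMixed.finrank_range_ofCols (s := b) (LinearMap.range L), ← hrange,
        LinearMap.finrank_range_of_inj hΦ, Module.finrank_prod, Module.finrank_fin_fun, two_mul]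
    have hk : Module.finrank F (LinearMap.range L) = 1 := by
      rcases Nat.lt_or_ge (Module.finrank F (LinearMap.range L)) 2 with h | h
      · rcases Nat.eq_zero_or_pos (Module.finrank F (LinearMap.range L)) with h0 | h0
        · rw [h0, mul_zero] at hdim; omega
        · omega
      · exfalso
        have h2 : b * 2 ≤ b * Module.finrank F (LinearMap.range L) := Nat.mul_le_mul_left b h
        have hab : a = b + 1 := by rcases S.sizes with h' | h' | h' <;> omega
        rcases Nat.lt_or_ge (Module.finrank F (LinearMap.range L)) 3 with h3 | h3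
        · rw [show Module.finrank F (LinearMap.range L) = 2 by omega] at hdim; omega
        · have := Nat.mul_le_mul_left b h3
          omega
    obtain ⟨⟨p, hp⟩, hp0, hspan⟩ := finrank_eq_one_iff'.1 hk
    have hLp : ∀ u, ∃ s : F, L u = s • p := fun u => by
      obtain ⟨s, hs⟩ := hspan ⟨L u, ⟨u, rfl⟩⟩
      exact ⟨s, (congrArg Subtype.val hs).symm⟩
    choose s hs using hLp
    obtain ⟨e, -, hee⟩ := S.symW.exists_aniso_orth (by omega) hc0 hc
    have hcross : ∀ u v, s u * fU p v + s v * fU u p + s u * s v * fU p p = 0 := fun u v => by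
      have h := S.iso (g := y) (M.mul_mem (M.mul_mem hg (by
        obtain ⟨t', ht', -, ht'X⟩ := S.exists_rho hc hd hcd 1
        rw [show t = t' from ext_op fun X => by rw [htX, ht'X, one_smul]]; exact ht')) (M.inv_mem hg))
        (vecMulVec u e) (vecMulVec v e)
      rw [eq_add_of_sub_eq' (hyL u e), eq_add_of_sub_eq' (hyL v e), hs, hs, ← pure_add_left, ← pure_add_left,
        S.B_pure_pure, S.B_pure_pure, S.symU.form.add_left, S.symU.form.add_right, S.symU.form.add_right,
        S.symU.form.smul_left, S.symU.form.smul_left, S.symU.smul_right, S.symU.smul_right] at h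
      refine mul_left_cancel₀ hee ?_
      linear_combination h
    obtain ⟨q, hq⟩ := hp
    have hpp : fU p p = 0 := by
      have h := hDB (op g⁻¹ (vecMulVec q e)) (op g⁻¹ (vecMulVec q e))
      rw [← S.iso hg, ← show op y (vecMulVec q e) - vecMulVec q e = op g (D (op g⁻¹ (vecMulVec q e))) by
        rw [hyX, add_sub_cancel_left], hyL, hq, S.B_pure_pure] at h
      exact (mul_eq_zero.1 h).resolve_left hee
    have hp' : p ≠ 0 := fun e0 => hp0 (Subtype.ext e0)
    have hdiag : ∀ u, s u = 0 ∨ fU p u = 0 := fun u => by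
      have h := hcross u u
      rw [hpp, S.symU.symm p u] at h
      exact mul_eq_zero.1 (mul_left_cancel₀ S.two (by linear_combination h))
    obtain ⟨v, hv⟩ := S.symU.form.nondeg p hp'
    have hsq : s q ≠ 0 := fun e0 => hp' (by rw [← hq, hs, e0, zero_smul])
    have h1 : fU p q = 0 := (hdiag q).resolve_left hsq
    have h2 : s v = 0 := (hdiag v).resolve_right hv
    have h := hcross q v
    rw [h2, hpp, zero_mul, mul_zero, add_zero, add_zero] at h
    exact (mul_ne_zero hsq hv) h

end OOSetup

end Cfsg.Agent.Lib.TensorOrth
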