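import Cfsg.Agent.Lib.TensorOrth.Radical

/-!
A central element gives Eichler elements at pairs of pure tensors; these generate `Ω`.
-/

set_option autoImplicit false
set_option linter.unusedSectionVars false

namespace Cfsg.Agent.Lib.TensorOrth

open Matrix QuadraticMap Cfsg.Agent.Lib Cfsg.Agent.Lib.TensorMax Cfsg.Agent.Lib.TensorForm
open Cfsg.Agent.Lib.FormMax.OrthSL (eichlerGL eichlerGL_mulVec Q_eichlerGL)
open Cfsg.Agent.Lib.SingMax (RootIn)

variable {F : Type*} [Field F] {a b : ℕ}

namespace IsSym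

variable {n : ℕ} {f : (Fin n → F) → (Fin n → F) → F} (hf : IsSym f)
include hf

theorem secd_skew {Z : (Fin n → F) →ₗ[F] (Fin n → F)} (hsk : ∀ u v, f (Z u) v + f u (Z v) = 0) {z w : Fin n → F}
    (hz : f z z = 0) (hzw : f z w = 0) :
    hf.secd z Z w = (-2 : F) • (rk1 hf.form ((f w w / 2) • Z z - f (Z z) w • w) z
      - rk1 hf.form z ((f w w / 2) • Z z - f (Z z) w • w)) := by
  have e1 : ∀ u v, f (Z u) v = -f u (Z v) := fun u v => by linear_combination hsk u v
  have hzz : f (Z z) z = 0 := by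
    have h := hsk z z
    rw [hf.symm (Z z) z] at h
    exact (mul_eq_zero.1 (show 2 * f (Z z) z = 0 by linear_combination h)).resolve_left hf.two
  have hww : f (Z w) w = 0 := by
    have h := hsk w w
    rw [hf.symm (Z w) w] at h
    exact (mul_eq_zero.1 (show 2 * f (Z w) w = 0 by linear_combination h)).resolve_left hf.two
  have hwz : f (Z w) z = -f (Z z) w := by rw [e1 w z, hf.symm (Z z) w]
  refine LinearMap.ext fun x => ?_
  have hxz : f (Z x) z = -f x (Z z) := e1 x z
  have hxw : f (Z x) w = -f x (Z w) := e1 x w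
  simp only [secd, LinearMap.sub_apply, LinearMap.add_apply, LinearMap.smul_apply, LinearMap.comp_apply, rk1_apply,
    hf.sieg_apply, ← neg_one_smul F w, map_add, map_sub, map_smul, hf.form.add_left, hf.form.sub_left,
    hf.form.sub_right, hf.form.smul_left, hf.smul_right, hzz, hww, hwz, hxz, hxw, smul_smul]
  have h2 := hf.two
  match_scalars <;> field_simp <;> ring

variable [Finite F]

/-- Singular vectors not orthogonal to a given one span. -/
theorem span_nonorth (hn : 3 ≤ n) {c : Fin n → F} (hc0 : c ≠ 0) (hc : f c c = 0)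
    {T : Submodule F (Fin n → F)} (h : ∀ r, f r r = 0 → f r c ≠ 0 → r ∈ T) (u : Fin n → F) : u ∈ T := by
  obtain ⟨c', hc', hcc'⟩ := hf.exists_partner_self hc0 hc
  have hc'c : f c' c = 1 := by rw [hf.symm c c']; exact hcc'
  have hc'T : c' ∈ T := h c' hc' (by rw [hc'c]; exact one_ne_zero)
  have key : ∀ x, f x c = 0 → f x c' = 0 → x ∈ T ∧ (f x x / 2) • c ∈ T := by
    intro x hxc hxc'
    have hcx : f c x = 0 := by rw [hf.symm x c]; exact hxc
    have hc'x : f c' x = 0 := by rw [hf.symm x c']; exact hxc'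
    have hs : ∀ s : F, s * s = 1 → c' + s • x - (f x x / 2) • c ∈ T := fun s hs => by
      refine h _ ?_ ?_
      · simp only [hf.form.sub_left, hf.form.sub_right, hf.form.add_left, hf.form.add_right, hf.form.smul_left,
          hf.smul_right, hc, hc', hc'c, hcc', hxc, hxc', hcx, hc'x]
        linear_combination (f x x) * hs - div_mul_cancel₀ (f x x) hf.two
      · rw [hf.form.sub_left, hf.form.add_left, hf.form.smul_left, hf.form.smul_left, hc'c, hxc, hc, mul_zero,
          mul_zero, add_zero, sub_zero]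
        exact one_ne_zero
    have h1 := hs 1 (mul_one 1)
    have h2 := hs (-1) (by ring)
    have h2' := hf.two
    constructor
    · have h3 := T.smul_mem (2 : F)⁻¹ (T.sub_mem h1 h2)
      convert h3 using 1
      match_scalars <;> field_simp <;> ring
    · have h3 := T.smul_mem (2 : F)⁻¹ (T.sub_mem (T.sub_mem (T.smul_mem (2 : F) hc'T) h1) h2)
      convert h3 using 1
      match_scalars <;> field_simp <;> ring
  obtain ⟨w, hwc, hwc', hw⟩ := hf.exists_aniso_pair hn hc hc' hcc'
  have hcT : c ∈ T := by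
    have h3 := T.smul_mem (f w w / 2)⁻¹ (key w hwc hwc').2
    rwa [inv_smul_smul₀ (div_ne_zero hw hf.two)] at h3
  have hx := (key (u - f u c • c' - f u c' • c)
    (by rw [hf.form.sub_left, hf.form.sub_left, hf.form.smul_left, hf.form.smul_left, hc'c, hc]; ring)
    (by rw [hf.form.sub_left, hf.form.sub_left, hf.form.smul_left, hf.form.smul_left, hc', hcc']; ring)).1
  have h4 := T.add_mem (T.add_mem hx (T.smul_mem (f u c') hcT)) (T.smul_mem (f u c) hc'T)
  convert h4 using 1
  module

end IsSym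

namespace OOSetup

variable {fU : (Fin a → F) → (Fin a → F) → F} {fW : (Fin b → F) → (Fin b → F) → F}
  {Q : QuadraticForm F (Fin a × Fin b → F)} {M : Subgroup (GL (Fin a × Fin b) F)}
  (S : OOSetup fU fW Q M)
include S

theorem Q_iso {g : GL (Fin a × Fin b) F} (hg : g ∈ M) (v : Fin a × Fin b → F) :
    Q ((g : Matrix (Fin a × Fin b) (Fin a × Fin b) F) *ᵥ v) = Q v := by
  obtain ⟨g', -, rfl⟩ := S.le_omega hg
  exact Orth.mem_isometryGroup_iff.1 g'.2 v

theorem pure_map {g : GL (Fin a × Fin b) F} {z y : Fin a → F} {c d : Fin b → F}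
    {α : (Fin a → F) →ₗ[F] (Fin a → F)} {β : (Fin b → F) →ₗ[F] (Fin b → F)}
    (hgX : ∀ u e, op g (vecMulVec u e) = vecMulVec (α u) (β e)) (hg : g ∈ M)
    (h : RootIn Q M (ev (vecMulVec z c)) (ev (vecMulVec y d))) :
    RootIn Q M (ev (vecMulVec (α z) (β c))) (ev (vecMulVec (α y) (β d))) := by
  have h' := h.map hg (S.Q_iso hg)
  rwa [← ev_op, ← ev_op, hgX, hgX] at h'

theorem rootIn_scale {z y : Fin a → F} {c : Fin b → F} {s : F} (hs : s ≠ 0)
    (h : RootIn Q M (ev (vecMulVec (s • z) c)) (ev (vecMulVec y c))) :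
    RootIn Q M (ev (vecMulVec z c)) (ev (vecMulVec (s • y) c)) := by
  rw [pure_smul_left, map_smul] at h ⊢
  exact (SingMax.rootIn_smul_iff hs).1 h

/-- The image of one pair under the Eichler element of another. -/
theorem el_apply {p q : Fin a → F} {r s : Fin b → F} (hq : fW s s * fU q q = 0)
    (he : Q (ev (vecMulVec p r)) = 0) (hv : polar ⇑Q (ev (vecMulVec p r)) (ev (vecMulVec q s)) = 0)
    (u : Fin a → F) (e : Fin b → F) :
    (eichlerGL Q (ev (vecMulVec p r)) (ev (vecMulVec q s)) he hv : Matrix _ _ F) *ᵥ ev (vecMulVec u e) =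
      ev (vecMulVec u e + (fW r e * fU p u) • vecMulVec q s - (fW s e * fU q u) • vecMulVec p r) := by
  rw [eichlerGL_mulVec, S.polarQ, S.polarQ, S.B_pure_pure, S.B_pure_pure, S.Q_pure hq, zero_mul, add_zero,
    map_sub, map_add, map_smul, map_smul]

variable [Finite F]

theorem exists_root (h : CentNZ M fW) :
    ∃ (z y : Fin a → F) (c : Fin b → F), z ≠ 0 ∧ fU z z = 0 ∧ c ≠ 0 ∧ fW c c = 0 ∧ fU z y = 0 ∧ y ∉ F ∙ z ∧
      RootIn Q M (ev (vecMulVec z c)) (ev (vecMulVec y c)) := by
  have hU := S.symU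
  have ha := S.three_le
  obtain ⟨c, hc0, hc, Z, hZ0, hZ⟩ := h
  have hsk := S.cent_skew hc0 hZ hc
  obtain ⟨z, hz0, hz, hy0⟩ : ∃ z, z ≠ 0 ∧ fU z z = 0 ∧ Z z ∉ F ∙ z := by
    by_contra hall
    push Not at hall
    have heig : ∀ z, z ≠ 0 → fU z z = 0 → ∃ l : F, Z z = l • z := fun z h1 h2 => by
      obtain ⟨l, hl⟩ := Submodule.mem_span_singleton.1 (hall z h1 h2)
      exact ⟨l, hl.symm⟩
    refine hZ0 (LinearMap.ext fun v => hU.ext_sing ha (L' := 0) (fun z hz0 hz => ?_) v)
    obtain ⟨z', hz', hzz'⟩ := hU.exists_partner_self hz0 hz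
    have hz'z : fU z' z = 1 := by rw [hU.symm z z']; exact hzz'
    obtain ⟨w, hwz, hwz', hw⟩ := hU.exists_aniso_pair ha hz hz' hzz'
    have hzw : fU z w = 0 := by rw [hU.symm w z]; exact hwz
    have hz'w : fU z' w = 0 := by rw [hU.symm w z']; exact hwz'
    set s := z + w - (fU w w / 2) • z' with hs
    have hzs : fU z s = -(fU w w / 2) := by
      rw [hs, hU.form.sub_right, hU.form.add_right, hU.smul_right, hz, hzw, hzz']; ring
    have hz's : fU z' s = 1 := by
      rw [hs, hU.form.sub_right, hU.form.add_right, hU.smul_right, hz', hz'w, hz'z]; ring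
    have hss : fU s s = 0 := by
      simp only [hs, hU.form.sub_left, hU.form.sub_right, hU.form.add_left, hU.form.add_right, hU.form.smul_left,
        hU.smul_right, hz, hz', hzz', hz'z, hzw, hz'w, hwz, hwz']
      linear_combination -div_mul_cancel₀ (fU w w) hU.two
    have hs0 : s ≠ 0 := fun e => by rw [e, hU.form.zero_right] at hz's; exact zero_ne_one hz's
    have hz'0 : z' ≠ 0 := fun e => by rw [e, hU.form.zero_right] at hzz'; exact zero_ne_one hzz'
    obtain ⟨l, hl⟩ := heig z hz0 hz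
    obtain ⟨m, hm⟩ := heig z' hz'0 hz'
    obtain ⟨k, hk⟩ := heig s hs0 hss
    have h1 := hsk z z'
    rw [hl, hm, hU.form.smul_left, hU.smul_right, hzz'] at h1
    have h2 := hsk z s
    rw [hl, hk, hU.form.smul_left, hU.smul_right, hzs] at h2
    have h3 := hsk z' s
    rw [hm, hk, hU.form.smul_left, hU.smul_right, hz's] at h3
    have hh : fU w w / 2 ≠ 0 := div_ne_zero hw hU.two
    have h2' : l + k = 0 := by
      refine mul_right_cancel₀ hh ?_
      linear_combination -h2
    have hl0 : l = 0 := by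
      refine mul_left_cancel₀ hU.two ?_
      linear_combination h1 + h2' - h3
    rw [hl, hl0, zero_smul, LinearMap.zero_apply]
  obtain ⟨z', hz', hzz'⟩ := hU.exists_partner_self hz0 hz
  obtain ⟨w, hwz, -, hw⟩ := hU.exists_aniso_pair ha hz hz' hzz'
  have hzw : fU z w = 0 := by rw [hU.symm w z]; exact hwz
  have hzw' : fU z (-w) = 0 := by rw [← neg_one_smul F w, hU.smul_right, hzw, mul_zero]
  -- the second difference
  have hconj : ∀ v, fU z v = 0 → Cent M fW c ((sieg hU z v).comp (Z.comp (sieg hU z (-v)))) := fun v hv => by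
    obtain ⟨k, hk, -, hkp, -⟩ := S.exists_commU (hU.sieg_comm hz hv)
    exact S.cent_conj hk (fun x y => (hU.sieg_adj z v x y).symm) (fun u => hkp u c) hZ
  have hneg : Cent M fW c (-Z) := by
    obtain ⟨g, hg, hX⟩ := hZ
    refine ⟨g⁻¹, M.inv_mem hg, fun X => op_injective g ?_⟩
    rw [op_op_inv, hX, map_add, S.kap_pure, hc, zero_smul, add_zero, LinearMap.neg_apply, pure_neg_left,
      neg_add_cancel_right]
  have hC : Cent M fW c (hU.secd z Z w) := by
    have h1 := hconj (-w) hzw'
    rw [neg_neg] at h1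
    have h2 := S.cent_add hc (S.cent_add hc (hconj w hzw) h1) (S.cent_add hc hneg hneg)
    convert h2 using 1
    rw [IsSym.secd, two_smul]
    abel
  rw [hU.secd_skew hsk hz hzw] at hC
  set y₀ := (fU w w / 2) • Z z - fU (Z z) w • w with hy₀
  have hzz : fU (Z z) z = 0 := by
    have h := hsk z z
    rw [hU.symm (Z z) z] at h
    exact (mul_eq_zero.1 (show 2 * fU (Z z) z = 0 by linear_combination h)).resolve_left hU.two
  have hy₀z : fU z y₀ = 0 := by
    rw [hy₀, hU.form.sub_right, hU.smul_right, hU.smul_right, hU.symm (Z z) z, hzz, hzw, mul_zero, mul_zero, sub_zero]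
  set y := (-2 : F) • y₀ with hy
  have hyz : fU z y = 0 := by rw [hy, hU.smul_right, hy₀z, mul_zero]
  have hynot : y ∉ F ∙ z := by
    intro hmem
    obtain ⟨t, ht⟩ := Submodule.mem_span_singleton.1 hmem
    have h1 := congrArg (fun x => fU x w) ht
    simp only [hy, hy₀, hU.form.smul_left, hU.form.sub_left, hzw, mul_zero] at h1
    have h2 : fU w w * fU (Z z) w = 0 := by
      linear_combination -h1 + fU (Z z) w * div_mul_cancel₀ (fU w w) hU.two
    have h3 : fU (Z z) w = 0 := (mul_eq_zero.1 h2).resolve_left hw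
    rw [hy, hy₀, h3, zero_smul, sub_zero, smul_smul] at ht
    have hne : (-2 : F) * (fU w w / 2) ≠ 0 := mul_ne_zero (neg_ne_zero.2 hU.two) (div_ne_zero hw hU.two)
    exact hy0 (Submodule.mem_span_singleton.2 ⟨((-2 : F) * (fU w w / 2))⁻¹ * t, by
      rw [mul_smul, ht, inv_smul_smul₀ hne]⟩)
  refine ⟨z, y, c, hz0, hz, hc0, hc, hyz, hynot, S.Q_pure (by rw [hc, zero_mul]),
    by rw [S.polarQ, S.B_pure_pure, hc, zero_mul], ?_⟩
  obtain ⟨g, hg, hX⟩ := hC
  rw [show eichlerGL Q (ev (vecMulVec z c)) (ev (vecMulVec y c)) _ _ = g from ?_]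
  · exact hg
  refine SingMax.gl_ext' fun v => ?_
  obtain ⟨X, rfl⟩ := ev_surjective v
  rw [← ev_op g, eichlerGL_mulVec, S.polarQ, S.polarQ, S.B_pure_left, S.B_pure_left, S.Q_pure (by rw [hc, zero_mul]),
    zero_mul, add_zero, ← map_smul, ← map_smul, ← map_add, ← map_sub, hX]
  congr 1
  simp only [LinearMap.smul_apply, LinearMap.sub_apply, rk1_apply, hy, hU.smul_right, pure_smul_left, pure_sub_left,
    smul_sub, smul_smul]
  module

/-- A pair spanning a totally singular plane does not exist in dimension `3`. -/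
theorem not_plane_three (h3 : a = 3) {z y : Fin a → F} (hz0 : z ≠ 0) (hz : fU z z = 0) (hy : fU y y = 0)
    (hzy : fU z y = 0) (hynot : y ∉ F ∙ z) : False := by
  have hU := S.symU
  obtain ⟨z', hz', hzz', hyz'⟩ := hU.exists_partner hz hzy (fun hmem => by
    obtain ⟨t, ht⟩ := Submodule.mem_span_singleton.1 hmem
    exact hynot (Submodule.mem_span_singleton.2 ⟨t⁻¹, by
      rw [← ht, smul_smul, inv_mul_cancel₀ (fun e => hz0 (by rw [← ht, e, zero_smul])), one_smul]⟩))
  have hy0 : y ≠ 0 := fun e => hynot (by rw [e]; exact Submodule.zero_mem _)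
  have hyz : fU y z = 0 := by rw [hU.symm z y]; exact hzy
  have hli : LinearIndependent F ![z, z', y] := by
    rw [Fintype.linearIndependent_iff]
    intro g hg
    simp only [Fin.sum_univ_three, Matrix.cons_val_zero, Matrix.cons_val_one, Matrix.cons_val_two, Matrix.tail_cons,
      Matrix.head_cons] at hg
    have h1 := congrArg (fun x => fU x z) hg
    have h2 := congrArg (fun x => fU x z') hg
    simp only [hU.form.add_left, hU.form.smul_left, hU.form.zero_left, hz, hz', hyz, hyz', hzz', hU.symm z z',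
      mul_zero, mul_one, add_zero, zero_add] at h1 h2
    have h3 : g 2 = 0 := by
      rw [h1, h2, zero_smul, zero_smul, zero_add, zero_add] at hg
      exact (smul_eq_zero.1 hg).resolve_right hy0
    intro i
    fin_cases i
    · exact h2
    · exact h1
    · exact h3
  have htop := hli.span_eq_top_of_card_eq_finrank (by rw [Fintype.card_fin, Module.finrank_fin_fun, h3])
  refine hy0 (hU.ext fun u => ?_)
  rw [hU.form.zero_left]
  have hle : Submodule.span F (Set.range ![z, z', y]) ≤ LinearMap.ker (hU.bil y) := by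
    rw [Submodule.span_le]
    rintro _ ⟨i, rfl⟩
    fin_cases i
    · exact hyz
    · exact hyz'
    · exact hy
  exact hle (htop ▸ Submodule.mem_top : u ∈ Submodule.span F (Set.range ![z, z', y]))

/-- A central element gives all of `Ω`. -/
theorem omega_le_of_cent (h : CentNZ M fW) : Cfsg.Geo.omegaGL ⇑Q ≤ M := by
  classical
  have hU := S.symU
  have hW := S.symW
  have ha := S.three_le
  have hb := S.five_le
  obtain ⟨z₁, y₁, c₁, hz₁0, hz₁, hc₁0, hc₁, hzy₁, hy₁, hr₁⟩ := S.exists_root h
  have hflip : ∀ z y : Fin a → F, z ≠ 0 → y ∉ F ∙ z → z ∉ F ∙ y := fun z y hz0 hyn hmem => by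
    obtain ⟨t, ht⟩ := Submodule.mem_span_singleton.1 hmem
    exact hyn (Submodule.mem_span_singleton.2 ⟨t⁻¹, by
      rw [← ht, smul_smul, inv_mul_cancel₀ (fun e => hz0 (by rw [← ht, e, zero_smul])), one_smul]⟩)
  have hQz : ∀ (z : Fin a → F) (c : Fin b → F), fW c c = 0 → Q (ev (vecMulVec z c)) = 0 := fun z c hc =>
    S.Q_pure (by rw [hc, zero_mul])
  -- the root space of a pure singular pair
  let T : ∀ (z : Fin a → F) (c : Fin b → F), fW c c = 0 → Submodule F (Matrix (Fin a) (Fin b) F) :=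
    fun z c hc => (rootSpace M (hQz z c hc)).comap ev
  have hT : ∀ z c hc X, X ∈ T z c hc ↔ ∀ t : F, RootIn Q M (ev (vecMulVec z c)) (t • ev X) :=
    fun z c hc X => Iff.rfl
  have hscale : ∀ z y c (hc : fW c c = 0), z ≠ 0 → fU z z = 0 → fU z y = 0 → y ∉ F ∙ z →
      RootIn Q M (ev (vecMulVec z c)) (ev (vecMulVec y c)) → vecMulVec y c ∈ T z c hc := by
    intro z y c hc hz0 hz hzy hyn hr
    obtain ⟨z', hz', hzz', hyz'⟩ := hU.exists_partner hz hzy (hflip z y hz0 hyn)
    have hsq : ∀ ν : F, RootIn Q M (ev (vecMulVec z c)) ((ν * ν) • ev (vecMulVec y c)) := by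
      intro ν
      by_cases hν : ν = 0
      · rw [hν, mul_zero, zero_smul]; exact SingMax.rootIn_zero (hQz z c hc)
      obtain ⟨α, hα, -, hαz, hαfix⟩ := hU.exists_torus hz hz' hzz' hν
      obtain ⟨g, hg, -, hgX, -⟩ := S.exists_commU hα
      have h' := S.pure_map (β := LinearMap.id) hgX hg hr
      rw [hαz, hαfix y (by rw [hU.symm z y]; exact hzy) hyz', LinearMap.id_apply] at h'
      have h'' := S.rootIn_scale (mul_ne_zero hν hν) h'
      rwa [pure_smul_left, map_smul] at h''
    rw [hT z c hc]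
    intro t
    have h2 := hU.two
    rw [show t = (t + 1) / 2 * ((t + 1) / 2) - (t - 1) / 2 * ((t - 1) / 2) by field_simp; ring, sub_smul]
    exact rootIn_sub (hsq _) (hsq _)
  -- a pair at every singular pair
  have hall : ∀ z c (hc : fW c c = 0), z ≠ 0 → fU z z = 0 → c ≠ 0 →
      ∃ y, fU z y = 0 ∧ y ∉ F ∙ z ∧ vecMulVec y c ∈ T z c hc := by
    intro z c hc hz0 hz hc0
    obtain ⟨k₁, hk₁, -, α, hα, hk₁X, s, hs, hαz⟩ := S.exists_moveU hz₁0 hz₁ hz0 hz
    obtain ⟨k₂, hk₂, -, β, -, hk₂X, t, ht, hβc⟩ := S.exists_moveW hc₁0 hc₁ hc0 hc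
    have h1 := S.pure_map (β := LinearMap.id) hk₁X hk₁ hr₁
    have h2 := S.pure_map (α := LinearMap.id) hk₂X hk₂ h1
    simp only [LinearMap.id_apply, hαz, hβc] at h2
    rw [pure_smul_right, pure_smul_right, ← pure_smul_left, ← pure_smul_left, smul_smul] at h2
    have h3 := S.rootIn_scale (mul_ne_zero ht hs) h2
    rw [smul_smul] at h3
    have hu : t * s * t ≠ 0 := mul_ne_zero (mul_ne_zero ht hs) ht
    have hzy : fU z ((t * s * t) • α y₁) = 0 := by
      have h4 := hα z₁ y₁
      rw [hαz, hzy₁, hU.form.smul_left] at h4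
      rw [hU.smul_right, (mul_eq_zero.1 h4).resolve_left hs, mul_zero]
    have hyn : (t * s * t) • α y₁ ∉ F ∙ z := fun hmem => by
      obtain ⟨r, hr⟩ := Submodule.mem_span_singleton.1 hmem
      refine hy₁ (Submodule.mem_span_singleton.2 ⟨(t * s * t)⁻¹ * r * s⁻¹, hU.injective' hα ?_⟩)
      rw [map_smul, hαz, smul_smul, mul_assoc ((t * s * t)⁻¹ * r), inv_mul_cancel₀ hs, mul_one, mul_smul, hr,
        inv_smul_smul₀ hu]
    exact ⟨_, hzy, hyn, hscale _ _ _ hc hz0 hz hzy hyn h3⟩
  -- moving in `W`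
  have hYW : ∀ z y c c' (hc : fW c c = 0) (hc' : fW c' c' = 0), c ≠ 0 → c' ≠ 0 → vecMulVec y c ∈ T z c hc →
      vecMulVec y c' ∈ T z c' hc' := by
    intro z y c c' hc hc' hc0 hc'0 hy
    obtain ⟨k, hk, -, β, -, hkX, t, ht, hβc⟩ := S.exists_moveW hc0 hc hc'0 hc'
    rw [hT z c hc] at hy
    rw [hT z c' hc']
    intro r
    have h := hy (r / (t * t))
    rw [← map_smul, ← pure_smul_left] at h
    have h1 := S.pure_map (α := LinearMap.id) hkX hk h
    simp only [LinearMap.id_apply, hβc] at h1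
    rw [pure_smul_right, pure_smul_right, ← pure_smul_left, ← pure_smul_left, smul_smul] at h1
    have h2 := S.rootIn_scale ht h1
    rw [smul_smul, show t * (t * (r / (t * t))) = r by field_simp] at h2
    rwa [← map_smul, ← pure_smul_left]
  -- two non-orthogonal ones
  have hpair : ∀ z c (hc : fW c c = 0), z ≠ 0 → fU z z = 0 → c ≠ 0 → ∃ y y', fU z y = 0 ∧ fU z y' = 0 ∧
      fU y' y ≠ 0 ∧ vecMulVec y c ∈ T z c hc ∧ vecMulVec y' c ∈ T z c hc := by
    intro z c hc hz0 hz hc0
    obtain ⟨y, hzy, hyn, hy⟩ := hall z c hc hz0 hz hc0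
    by_cases hyy : fU y y = 0
    swap
    · exact ⟨y, y, hzy, hzy, hyy, hy, hy⟩
    have ha5 : 5 ≤ a := by
      rcases Nat.lt_or_ge a 5 with h5 | h5
      · exfalso
        rcases (show a = 3 ∨ a = 4 by omega) with h | h
        · exact S.not_plane_three h hz0 hz hyy hzy hyn
        · exact hyn (S.minus h z y hz0 hz hyy hzy)
      · exact h5
    have hyz : fU y z = 0 := by rw [hU.symm z y]; exact hzy
    obtain ⟨u, hu, hyu, hzu⟩ := hU.exists_partner (z := y) (w := z) hyy hyz hyn
    obtain ⟨w, hwu, hwz, hw⟩ : ∃ w, fU w u = 0 ∧ fU w z = 0 ∧ fU w w ≠ 0 := by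
      by_contra hno
      push Not at hno
      obtain ⟨p, hp, hpn⟩ := hU.exists_orth ![u, z] (F ∙ u ⊔ F ∙ z) (by
        have := Submodule.finrank_add_le_finrank_add_finrank (F ∙ u) (F ∙ z)
        have h1 : Module.finrank F (F ∙ u) ≤ 1 := (finrank_span_le_card ({u} : Set (Fin a → F))).trans (by simp)
        have h2 : Module.finrank F (F ∙ z) ≤ 1 := (finrank_span_le_card ({z} : Set (Fin a → F))).trans (by simp)
        omega)
      obtain ⟨w, hw0, hw1⟩ := hU.exists_dual_out hpn
      have hwu := hw0 u (Submodule.mem_sup_left (Submodule.mem_span_singleton_self u))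
      have hwz := hw0 z (Submodule.mem_sup_right (Submodule.mem_span_singleton_self z))
      have hpu : fU p u = 0 := hp 0
      have hpz : fU p z = 0 := hp 1
      have := hU.polarise (hno w hwu hwz) (hno p hpu hpz) (hno _ (by rw [hU.form.add_left, hwu, hpu, add_zero])
        (by rw [hU.form.add_left, hwz, hpz, add_zero]))
      rw [this] at hw1
      exact zero_ne_one hw1
    have huw : fU u w = 0 := by rw [hU.symm w u]; exact hwu
    have hzw : fU z w = 0 := by rw [hU.symm w z]; exact hwz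
    obtain ⟨g, hg, -, hgX, -⟩ := S.exists_commU (hU.sieg_comm hu huw)
    have hαz : sieg hU u w z = z := by
      rw [hU.sieg_apply, hzu, hzw]; simp
    refine ⟨y, sieg hU u w y, hzy, ?_, ?_, hy, ?_⟩
    · rw [← hαz, hU.sieg_iso hu huw, hzy]
    · rw [hU.sieg_apply, hyu]
      simp only [hU.form.sub_left, hU.form.add_left, hU.form.smul_left, hyy, hU.symm y w, hU.symm y u, hyu]
      intro e
      exact hw (by
        linear_combination -2 * e - div_mul_cancel₀ (fU w w) hU.two)
    · rw [hT z c hc] at hy ⊢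
      intro r
      have h := hy r
      rw [← map_smul, ← pure_smul_left] at h
      have h' := S.pure_map (β := LinearMap.id) hgX hg h
      rw [hαz, map_smul, LinearMap.id_apply] at h'
      rwa [← map_smul, ← pure_smul_left]
  -- conjugation by a root
  have hconj : ∀ (p q : Fin a → F) (r s : Fin b → F), fW s s * fU q q = 0 →
      RootIn Q M (ev (vecMulVec p r)) (ev (vecMulVec q s)) → ∀ z c (hc : fW c c = 0) u e,
      fW r c * fU p z = 0 → fW s c * fU q z = 0 → vecMulVec u e ∈ T z c hc →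
      (fW r e * fU p u) • vecMulVec q s - (fW s e * fU q u) • vecMulVec p r ∈ T z c hc := by
    intro p q r s hq hroot z c hc u e h1 h2 hu
    obtain ⟨he, hv, hm⟩ := hroot
    suffices hs : vecMulVec u e + (fW r e * fU p u) • vecMulVec q s - (fW s e * fU q u) • vecMulVec p r ∈ T z c hc by
      have := (T z c hc).sub_mem hs hu
      convert this using 1
      abel
    rw [hT z c hc] at hu ⊢
    intro t
    have h' := (hu t).map hm (Q_eichlerGL he hv)
    rw [mulVec_smul, S.el_apply hq, S.el_apply hq, h1, h2, zero_smul, zero_smul, add_zero, sub_zero] at h'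
    exact h'
  -- step 1
  have step1 : ∀ z c (hc : fW c c = 0), z ≠ 0 → fU z z = 0 → c ≠ 0 → ∀ x, vecMulVec z x ∈ T z c hc := by
    intro z c hc hz0 hz hc0 x
    obtain ⟨y, y', hzy, hzy', hyy', hy, hy'⟩ := hpair z c hc hz0 hz hc0
    refine hW.span_nonorth (by omega) hc0 hc (T := (T z c hc).comap (plL b z)) (fun c' hc' hcc' => ?_) x
    have hc'0 : c' ≠ 0 := fun e => hcc' (by rw [e, hW.form.zero_left])
    have hr := (hT z c' hc' _).1 (hYW z y' c c' hc hc' hc0 hc'0 hy') 1
    rw [one_smul] at hr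
    have hy'z : fU y' z = 0 := by rw [hU.symm z y']; exact hzy'
    have h := hconj z y' c' c' (by rw [hc', zero_mul]) hr z c hc y c (by rw [hz, mul_zero]) (by rw [hy'z, mul_zero]) hy
    rw [hzy, mul_zero, zero_smul, zero_sub, Submodule.neg_mem_iff,
      Submodule.smul_mem_iff _ (mul_ne_zero hcc' hyy')] at h
    exact h
  have hb3 : 3 ≤ b := by omega
  -- step 2
  have step2 : ∀ z c (hc : fW c c = 0), z ≠ 0 → fU z z = 0 → c ≠ 0 → ∀ s, fW s c = 0 → ∀ u,
      vecMulVec u s ∈ T z c hc := by
    intro z c hc hz0 hz hc0 s hsc u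
    obtain ⟨e₀, he₀, hce⟩ := hW.exists_partner_self hc0 hc
    have hec : fW e₀ c = 1 := by rw [hW.symm c e₀]; exact hce
    obtain ⟨r₀, hr₀K, hr₀0, hr₀⟩ := hW.exists_sing (K := LinearMap.ker (dots ![cov fW c, cov fW e₀])) (by
      have h1 := (dots ![cov fW c, cov fW e₀] : (Fin b → F) →ₗ[F] _).finrank_range_add_finrank_ker
      have h2 := Submodule.finrank_le (LinearMap.range (dots ![cov fW c, cov fW e₀] : (Fin b → F) →ₗ[F] _))
      rw [Module.finrank_fin_fun] at h1 h2
      omega)
    rw [LinearMap.mem_ker] at hr₀K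
    have hr₀c : fW r₀ c = 0 := by rw [← hW.form.dot_cov, dotProduct_comm]; exact congrFun hr₀K 0
    have hr₀e : fW r₀ e₀ = 0 := by rw [← hW.form.dot_cov, dotProduct_comm]; exact congrFun hr₀K 1
    obtain ⟨p, -, hrp⟩ := hW.exists_partner_self hr₀0 hr₀
    set p' := p - fW p e₀ • c - fW p c • e₀ with hp'
    set r₁ := p' - (fW p' p' / 2) • r₀ with hr₁
    have hp'c : fW p' c = 0 := by
      rw [hp', hW.form.sub_left, hW.form.sub_left, hW.form.smul_left, hW.form.smul_left, hc, hec]; ring
    have hr₀p' : fW r₀ p' = 1 := by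
      rw [hp', hW.form.sub_right, hW.form.sub_right, hW.smul_right, hW.smul_right, hr₀c, hr₀e, hrp]; ring
    have hr₁c : fW r₁ c = 0 := by rw [hr₁, hW.form.sub_left, hW.form.smul_left, hp'c, hr₀c, mul_zero, sub_zero]
    have hr₁₁ : fW r₁ r₁ = 0 := by
      simp only [hr₁, hW.form.sub_left, hW.form.sub_right, hW.form.smul_left, hW.smul_right, hr₀, hr₀p',
        hW.symm r₀ p']
      linear_combination -div_mul_cancel₀ (fW p' p') hW.two
    have hr₁r₀ : fW r₁ r₀ = 1 := by
      rw [hr₁, hW.form.sub_left, hW.form.smul_left, hr₀, mul_zero, sub_zero, hW.symm r₀ p', hr₀p']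
    obtain ⟨r, hr0, hrr, hrc, hrn⟩ : ∃ r, r ≠ 0 ∧ fW r r = 0 ∧ fW r c = 0 ∧ r ∉ F ∙ c ⊔ F ∙ s := by
      by_contra hno
      push Not at hno
      have hr₁0 : r₁ ≠ 0 := fun e => by rw [e, hW.form.zero_left] at hr₁r₀; exact zero_ne_one hr₁r₀
      have hmem0 := hno r₀ hr₀0 hr₀ hr₀c
      have hmem1 := hno r₁ hr₁0 hr₁₁ hr₁c
      have hli : LinearIndependent F ![c, r₀, r₁] := by
        rw [Fintype.linearIndependent_iff]
        intro g hg
        simp only [Fin.sum_univ_three, Matrix.cons_val_zero, Matrix.cons_val_one, Matrix.cons_val_two, Matrix.tail_cons,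
          Matrix.head_cons] at hg
        have h1 := congrArg (fun x => fW x r₀) hg
        have h2 := congrArg (fun x => fW x r₁) hg
        simp only [hW.form.add_left, hW.form.smul_left, hW.form.zero_left, hr₀, hr₁₁, hr₁r₀, hW.symm r₁ r₀,
          show fW c r₀ = 0 by rw [hW.symm r₀ c]; exact hr₀c, show fW c r₁ = 0 by rw [hW.symm r₁ c]; exact hr₁c,
          mul_zero, mul_one, add_zero, zero_add] at h1 h2
        have h3 : g 0 = 0 := by
          rw [h1, h2, zero_smul, zero_smul, add_zero, add_zero] at hg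
          exact (smul_eq_zero.1 hg).resolve_right hc0
        intro i
        fin_cases i
        · exact h3
        · exact h2
        · exact h1
      have h1 := Submodule.finrank_mono (show Submodule.span F (Set.range ![c, r₀, r₁]) ≤ F ∙ c ⊔ F ∙ s by
        rw [Submodule.span_le]
        rintro _ ⟨i, rfl⟩
        fin_cases i
        · exact Submodule.mem_sup_left (Submodule.mem_span_singleton_self c)
        · exact hmem0
        · exact hmem1)
      rw [finrank_span_eq_card hli, Fintype.card_fin] at h1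
      have := Submodule.finrank_add_le_finrank_add_finrank (F ∙ c) (F ∙ s)
      have h2 : Module.finrank F (F ∙ c) ≤ 1 := (finrank_span_le_card ({c} : Set (Fin b → F))).trans (by simp)
      have h3 : Module.finrank F (F ∙ s) ≤ 1 := (finrank_span_le_card ({s} : Set (Fin b → F))).trans (by simp)
      omega
    obtain ⟨x, hx0, hxr⟩ := hW.exists_dual_out hrn
    have hxs : fW s x = 0 := by
      rw [hW.symm x s]; exact hx0 s (Submodule.mem_sup_right (Submodule.mem_span_singleton_self s))
    have hrx : fW r x = 1 := by rw [hW.symm x r]; exact hxr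
    refine hU.span_nonorth ha hz0 hz (T := (T z c hc).comap (pl a s)) (fun p hp hpz => ?_) u
    have hp0 : p ≠ 0 := fun e => hpz (by rw [e, hU.form.zero_left])
    have hroot := (hT p r hrr _).1 (step1 p r hrr hp0 hp hr0 s) 1
    rw [one_smul] at hroot
    have h := hconj p p r s (by rw [hp, mul_zero]) hroot z c hc z x (by rw [hrc, zero_mul]) (by rw [hsc, zero_mul])
      (step1 z c hc hz0 hz hc0 x)
    rw [hrx, hxs, zero_mul, zero_smul, sub_zero, one_mul, Submodule.smul_mem_iff _ hpz] at h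
    exact h
  -- fullness
  have hfull : ∀ z c, z ≠ 0 → fU z z = 0 → c ≠ 0 → fW c c = 0 → SingMax.Full Q M (ev (vecMulVec z c)) := by
    intro z c hz0 hz hc0 hc A he hA
    obtain ⟨X, rfl⟩ := ev_surjective A
    obtain ⟨y, hy, hzy⟩ := hU.exists_partner_self hz0 hz
    have step3 : ∀ s, fU z s = 0 → ∀ x, vecMulVec s x ∈ T z c hc := by
      intro s hzs x
      refine hW.span_nonorth hb3 hc0 hc (T := (T z c hc).comap (plL b s)) (fun r hr hrc => ?_) x
      have hr0 : r ≠ 0 := fun e => hrc (by rw [e, hW.form.zero_left])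
      have hroot := (hT z r hr _).1 (step2 z r hr hz0 hz hr0 r hr s) 1
      rw [one_smul] at hroot
      have hsz : fU s z = 0 := by rw [hU.symm z s]; exact hzs
      have h := hconj z s r r (by rw [hr, zero_mul]) hroot z c hc y c (by rw [hz, mul_zero]) (by rw [hsz, mul_zero])
        (step2 z c hc hz0 hz hc0 c hc y)
      rw [hzy, mul_one] at h
      have h' := (T z c hc).add_mem h ((T z c hc).smul_mem (fW r c * fU s y) (step1 z c hc hz0 hz hc0 r))
      rw [sub_add_cancel, Submodule.smul_mem_iff _ hrc] at h'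
      exact h'
    obtain ⟨e₀, -, hce⟩ := hW.exists_partner_self hc0 hc
    have hec : fW e₀ c = 1 := by rw [hW.symm c e₀]; exact hce
    have hmem : X ∈ T z c hc := by
      have hkz : fU z (kap fW c X) = 0 := by
        rw [hU.symm (kap fW c X) z, ← S.B_pure, S.B_swap, ← S.polarQ]
        exact hA
      set X' := X - vecMulVec (kap fW c X) e₀ with hX'
      have hk : kap fW c X' = 0 := by rw [hX', map_sub, S.kap_pure, hec, one_smul, sub_self]
      have hrow : ∀ i, fW (X' i) c = 0 := fun i => by rw [← hW.form.dot_cov]; exact congrFun hk i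
      have h1 : X' ∈ T z c hc := by
        rw [rows_sum X']
        exact (T z c hc).sum_mem fun i _ => step2 z c hc hz0 hz hc0 (X' i) (hrow i) _
      have h2 := (T z c hc).add_mem h1 (step3 (kap fW c X) hkz e₀)
      rwa [hX', sub_add_cancel] at h2
    obtain ⟨he', ha', hm⟩ := (hT z c hc X).1 hmem 1
    rwa [eichler_congr he hA he' ha' rfl (one_smul F (ev X)).symm]
  obtain ⟨z, -, hz0, hz⟩ := hU.exists_sing (K := ⊤) (by rw [finrank_top, Module.finrank_fin_fun]; exact ha)
  obtain ⟨z', hz', hzz'⟩ := hU.exists_partner_self hz0 hz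
  obtain ⟨c, -, hc0, hc⟩ := hW.exists_sing (K := ⊤) (by rw [finrank_top, Module.finrank_fin_fun]; omega)
  obtain ⟨c', hc', hcc'⟩ := hW.exists_partner_self hc0 hc
  have hz'0 : z' ≠ 0 := fun e => by rw [e, hU.form.zero_right] at hzz'; exact zero_ne_one hzz'
  have hc'0 : c' ≠ 0 := fun e => by rw [e, hW.form.zero_right] at hcc'; exact zero_ne_one hcc'
  refine SingMax.omega_le_of_eichler S.nondegQ S.seven_le fun e v he hv => ?_
  by_cases he0 : e = 0
  · subst he0
    convert M.one_mem
    refine SingMax.gl_ext' fun x => ?_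
    rw [eichlerGL_mulVec]; simp
  refine SingMax.full_all S.nondegQ (hfull z c hz0 hz hc0 hc) (hfull z' c' hz'0 hz' hc'0 hc') (hQz z c hc)
    (hQz z' c' hc') ?_ he he0 v he hv
  rw [S.polarQ, S.B_pure_pure, hcc', hzz', mul_one]
  exact one_ne_zero

end OOSetup

end Cfsg.Agent.Lib.TensorOrth
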