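import Cfsg.Agent.Lib.TensorOrth.Minimal
import Cfsg.Agent.Lib.TensorOrth.Roots
import Cfsg.Agent.Lib.Orth.Centre
import Cfsg.Agent.Lib.Orth.Spinor

/-!
The stabiliser in `Ω` of a tensor product of two orthogonal spaces is maximal.
-/

set_option autoImplicit false
set_option linter.unusedSectionVars false

namespace Cfsg.Agent.Lib.TensorOrth

open Matrix QuadraticMap Cfsg.Agent.Lib Cfsg.Agent.Lib.TensorMax Cfsg.Agent.Lib.TensorForm
open Cfsg.Agent.Lib.FormMax.OrthSL (eichlerGL)

variable {F : Type*} [Field F] [Finite F] {a b : ℕ}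

namespace OOSetup

variable {fU : (Fin a → F) → (Fin a → F) → F} {fW : (Fin b → F) → (Fin b → F) → F}
  {Q : QuadraticForm F (Fin a × Fin b → F)} {M : Subgroup (GL (Fin a × Fin b) F)}
  (S : OOSetup fU fW Q M)
include S

/-- The setting for another group. -/
theorem change {N : Subgroup (GL (Fin a × Fin b) F)}
    (hN : Cfsg.Geo.kroneckerSubgroup a b F ⊓ Cfsg.Geo.omegaGL ⇑Q ≤ N) (hNΩ : N ≤ Cfsg.Geo.omegaGL ⇑Q) :
    OOSetup fU fW Q N :=
  { symU := S.symU, symW := S.symW, polarQ := S.polarQ, three_le := S.three_le, five_le := S.five_le,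
    field := S.field, minus := S.minus, sizes := S.sizes, le_omega := hNΩ,
    kron := fun g hg hgΩ => hN ⟨hg, hgΩ⟩ }

/-- `-(1 ⊗ r_w)` lies in `Ω` if `a` is even and `b` is odd. -/
theorem hasInvol (ha : Even a) (hb : Odd b) :
    HasInvol fW (Cfsg.Geo.kroneckerSubgroup a b F ⊓ Cfsg.Geo.omegaGL ⇑Q) := by
  classical
  haveI := Fintype.ofFinite F
  intro w hw
  have h2 := S.two
  have hU := S.symU
  have hW := S.symW
  haveI : Invertible (2 : F) := invertibleOfNonzero h2
  -- orthogonal bases
  obtain ⟨bU, hbU⟩ := LinearMap.BilinForm.exists_orthogonal_basis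
    (B := hU.bil) ⟨fun x y => by rw [hU.bil_apply, hU.bil_apply]; exact (hU.symm x y).symm⟩
  set K := LinearMap.ker (hW.bil w) with hKdef
  obtain ⟨bK, hbK⟩ := LinearMap.BilinForm.exists_orthogonal_basis (B := hW.bil.domRestrict₁₂ K K)
    ⟨fun x y => by
      show fW (x : Fin b → F) y = fW y x
      exact (hW.symm _ _).symm⟩
  change ∀ i j, i ≠ j → _ at hbU hbK
  have hK : ∀ x ∈ K, fW w x = 0 := fun x hx => hx
  have hwK : w ∉ K := fun h => hw (hK w h)
  have hne : LinearMap.range (hW.bil w) = ⊤ := by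
    refine LinearMap.range_eq_top.2 fun t => ⟨(t / fW w w) • w, ?_⟩
    rw [hW.bil_apply, hW.smul_right, div_mul_cancel₀ t hw]
  have hdimK : Module.finrank F K + 1 = b := by
    have h := (hW.bil w).finrank_range_add_finrank_ker
    rw [hne, finrank_top, Module.finrank_self, Module.finrank_fin_fun, ← hKdef] at h
    omega
  have hdimU : Module.finrank F (Fin a → F) = a := Module.finrank_fin_fun F
  set α := fun i => fU (bU i) (bU i) with hαdef
  set β := fun j => fW (bK j : Fin b → F) (bK j) with hβdef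
  have horthU : ∀ i i', i ≠ i' → fU (bU i) (bU i') = 0 := fun i i' h => hbU i i' h
  have horthK : ∀ j j', j ≠ j' → fW (bK j : Fin b → F) (bK j') = 0 := fun j j' h => hbK j j' h
  have hα : ∀ i, α i ≠ 0 := fun i e => bU.ne_zero i (hU.ext fun u => by
    rw [hU.form.zero_left, ← bU.sum_repr u, ← hU.bil_apply, map_sum]
    refine Finset.sum_eq_zero fun k _ => ?_
    rw [map_smul, hU.bil_apply, smul_eq_mul]
    by_cases hk : i = k
    · subst hk; exact mul_eq_zero_of_right _ e
    · rw [horthU i k hk, mul_zero])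
  have hβ : ∀ j, β j ≠ 0 := fun j e => bK.ne_zero j (Subtype.ext (hW.ext fun u => by
    rw [Submodule.coe_zero, hW.form.zero_left]
    have hu : u - (fW w u / fW w w) • w ∈ K := by
      show fW w _ = 0
      rw [hW.form.sub_right, hW.smul_right, div_mul_cancel₀ _ hw, sub_self]
    have h0 : fW (bK j : Fin b → F) (⟨_, hu⟩ : K) = 0 := by
      rw [← bK.sum_repr ⟨_, hu⟩, AddSubmonoidClass.coe_finsetSum, ← hW.bil_apply, map_sum]
      refine Finset.sum_eq_zero fun k _ => ?_
      rw [Submodule.coe_smul, map_smul, hW.bil_apply, smul_eq_mul]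
      by_cases hk : j = k
      · subst hk; exact mul_eq_zero_of_right _ e
      · rw [horthK j k hk, mul_zero]
    rw [show ((⟨_, hu⟩ : K) : Fin b → F) = u - (fW w u / fW w w) • w from rfl, hW.form.sub_right,
      hW.smul_right, hW.symm w (bK j), hK _ (bK j).2, mul_zero, sub_zero] at h0
    exact h0))
  -- the family
  let eI : Fin (Module.finrank F (Fin a → F) * Module.finrank F K) ≃
      Fin (Module.finrank F (Fin a → F)) × Fin (Module.finrank F K) := finProdFinEquiv.symm
  let v := fun k => ev (vecMulVec (bU (eI k).1) (bK (eI k).2 : Fin b → F))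
  have hQv : ∀ k, 2 * Q (v k) = α (eI k).1 * β (eI k).2 := fun k => by
    rw [S.polar_self, S.B_pure_pure, mul_comm]
  have hv' : ∀ k, Q (v k) ≠ 0 := fun k e => mul_ne_zero (hα _) (hβ _) (by rw [← hQv, e, mul_zero])
  have hv : ∀ k l, k ≠ l → polar ⇑Q (v k) (v l) = 0 := fun k l hkl => by
    rw [S.polarQ, S.B_pure_pure]
    by_cases h : (eI k).1 = (eI l).1
    · rw [horthK _ _ (fun h' => hkl (eI.injective (Prod.ext h h'))), zero_mul]
    · rw [horthU _ _ h, mul_zero]
  obtain ⟨g, hgv, hfix, -, hgχ⟩ := Orth.exists_negate h2 S.nondegQ hv hv'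
  have hact : ∀ u e, op (g : GL (Fin a × Fin b) F) (vecMulVec u e) =
      vecMulVec u ((2 / fW w w * fW e w) • w - e) := by
    have hneg : ∀ (i) (j), op (g : GL (Fin a × Fin b) F) (vecMulVec (bU i) (bK j : Fin b → F)) =
        vecMulVec (bU i) (-(bK j : Fin b → F)) := fun i j => by
      refine ev_injective ?_
      have h := hgv (eI.symm (i, j))
      simp only [v, Equiv.apply_symm_apply] at h
      rw [ev_op, ← neg_one_smul F (bK j : Fin b → F), pure_smul_right, map_smul, neg_one_smul]
      exact h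
    have hposw : ∀ u, op (g : GL (Fin a × Fin b) F) (vecMulVec u w) = vecMulVec u w := fun u => by
      refine ev_injective ?_
      rw [ev_op]
      refine hfix _ fun k => ?_
      rw [S.polarQ, S.B_pure_pure, hW.symm w (bK _), hK _ (bK _).2, zero_mul]
    intro u e
    let T : (Fin b → F) →ₗ[F] Matrix (Fin a) (Fin b) F :=
      { toFun := fun x => op (g : GL (Fin a × Fin b) F) (vecMulVec u x) + vecMulVec u x
        map_add' := fun x y => by rw [pure_add_right, map_add]; abel
        map_smul' := fun t x => by rw [pure_smul_right, map_smul, RingHom.id_apply, smul_add] }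
    have hT : ∀ x ∈ K, T x = 0 := by
      intro x hx
      have hsum := congrArg (fun y : K => T (y : Fin b → F)) (bK.sum_repr ⟨x, hx⟩)
      simp only [AddSubmonoidClass.coe_finsetSum, Submodule.coe_smul, map_sum, map_smul] at hsum
      rw [← hsum]
      refine Finset.sum_eq_zero fun j _ => ?_
      have hj : T (bK j : Fin b → F) = 0 := by
        show op (g : GL (Fin a × Fin b) F) (pl a (bK j : Fin b → F) u) + pl a (bK j : Fin b → F) u = 0
        rw [← bU.sum_repr u, map_sum, map_sum, ← Finset.sum_add_distrib]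
        refine Finset.sum_eq_zero fun i _ => ?_
        rw [map_smul, map_smul, pl_apply, hneg, ← neg_one_smul F (bK j : Fin b → F), pure_smul_right,
          neg_one_smul, smul_neg, neg_add_cancel]
      rw [hj, smul_zero]
    have he : e - (fW w e / fW w w) • w ∈ K := by
      show fW w _ = 0
      rw [hW.form.sub_right, hW.smul_right, div_mul_cancel₀ _ hw, sub_self]
    have h := hT _ he
    rw [map_sub, map_smul, sub_eq_zero] at h
    have h' : op (g : GL (Fin a × Fin b) F) (vecMulVec u e) + vecMulVec u e =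
        (fW w e / fW w w) • (vecMulVec u w + vecMulVec u w) := by
      rw [← hposw u] at *
      simpa [T, hposw] using h
    rw [pure_sub_right, pure_smul_right, eq_sub_iff_add_eq, h', smul_add, hW.symm e w, ← add_smul]
    congr 1
    ring
  refine ⟨g, ⟨?_, ?_⟩, hact⟩
  · obtain ⟨g', -, hk, hg'⟩ := S.exists_isom (α := LinearMap.id) (β := (-1 : F) • refl hW w) (fun _ _ => rfl)
      (fun x y => by
        rw [LinearMap.smul_apply, LinearMap.smul_apply, hW.form.smul_left, hW.smul_right, hW.refl_iso hw]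
        ring)
    rw [show (g : GL (Fin a × Fin b) F) = g' from ext_op fun X => lin_ext (L := op _) (L' := op g') (fun u e => by
      rw [hact, hg', LinearMap.id_apply, LinearMap.smul_apply, hW.refl_apply, neg_one_smul, neg_sub]) X]
    exact hk
  · refine Subgroup.mem_map.2 ⟨g, (Orth.mem_omega_iff h2 S.nondegQ (by have := S.seven_le; omega) g).2 ⟨?_, ?_⟩, rfl⟩
    · rw [hgχ, Finset.prod_congr rfl fun k _ => Orth.detSign_refl h2 S.nondegQ (hv' k), Finset.prod_const,
        Finset.card_univ, Fintype.card_fin, hdimU]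
      exact ((ha.mul_right _).neg_one_pow)
    · refine Units.ext ?_
      rw [hgχ, Units.coe_prod, Units.val_one]
      have hr : ∀ k, (Orth.spinor Q (Orth.refl Q (v k) (hv' k)) : ℤ) = -(quadraticChar F (Q (v k))) := by
        intro k
        by_cases hs : IsSquare (Q (v k))
        · rw [Orth.spinor_refl_of_isSquare h2 _ hs, (quadraticChar_one_iff_isSquare (hv' k)).2 hs]; rfl
        · rw [Orth.spinor_refl_of_not_isSquare h2 _ hs, quadraticChar_neg_one_iff_not_isSquare.2 hs]; rfl
      rw [Finset.prod_congr rfl fun k _ => hr k,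
        Fintype.prod_equiv eI _ (fun p => -(quadraticChar F (α p.1 * β p.2 * 2⁻¹))) fun k => by
          rw [← hQv, mul_comm (2 : F), mul_assoc, mul_inv_cancel₀ h2, mul_one],
        Fintype.prod_prod_type]
      have hKev : Even (Module.finrank F K) := by
        obtain ⟨j, hj⟩ := hb
        exact ⟨j, by omega⟩
      have hone : ∀ x : F, x ≠ 0 → ∀ n, Even n → quadraticChar F x ^ n = 1 := fun x hx n ⟨l, hl⟩ => by
        rw [hl, ← two_mul, pow_mul, quadraticChar_sq_one hx, one_pow]
      have hin : ∀ i, ∏ j, -(quadraticChar F (α i * β j * 2⁻¹)) = ∏ j, quadraticChar F (β j) := fun i => by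
        simp only [map_mul, ← neg_mul, Finset.prod_mul_distrib]
        simp only [Finset.prod_const, Finset.card_univ, Fintype.card_fin, hKev.neg_pow, hone _ (hα i) _ hKev,
          hone _ (inv_ne_zero h2) _ hKev, one_mul, mul_one]
      rw [Finset.prod_congr rfl fun i _ => hin i, Finset.prod_const, Finset.card_univ, Fintype.card_fin,
        hdimU, ← map_prod, hone _ (Finset.prod_ne_zero_iff.2 fun j _ => hβ j) _ ha]

/-- Some Eichler element of `Ω` is not Kronecker. -/
theorem kron_ne_omega : ¬ Cfsg.Geo.omegaGL ⇑Q ≤ Cfsg.Geo.kroneckerSubgroup a b F := by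
  intro hle
  have hU := S.symU
  obtain ⟨z, -, hz0, hz⟩ := hU.exists_sing (K := ⊤) (by rw [finrank_top, Module.finrank_fin_fun]; exact S.three_le)
  obtain ⟨c, -, hc0, hc⟩ := S.symW.exists_sing (K := ⊤) (by
    rw [finrank_top, Module.finrank_fin_fun]; have := S.five_le; omega)
  obtain ⟨y, hyz, hy⟩ := hU.exists_aniso_orth S.three_le hz0 hz
  have hzy : fU z y = 0 := by rw [hU.symm y z]; exact hyz
  have hzy' : z ∉ F ∙ y := fun hmem => by
    obtain ⟨t, rfl⟩ := Submodule.mem_span_singleton.1 hmem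
    rw [hU.form.smul_left] at hzy
    exact (smul_ne_zero_iff.1 hz0).1 ((mul_eq_zero.1 hzy).resolve_right hy)
  obtain ⟨z', -, hzz', hyz'⟩ := hU.exists_partner hz hzy hzy'
  obtain ⟨e₀, -, he₀⟩ := S.symW.exists_partner_self hc0 hc
  have hq : fW c c * fU y y = 0 := by rw [hc, zero_mul]
  have he : Q (ev (vecMulVec z c)) = 0 := S.Q_pure (by rw [hc, zero_mul])
  have hv : polar ⇑Q (ev (vecMulVec z c)) (ev (vecMulVec y c)) = 0 := by
    rw [S.polarQ, S.B_pure_pure, hc, zero_mul]
  set g := eichlerGL Q (ev (vecMulVec z c)) (ev (vecMulVec y c)) he hv with hgdef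
  have hg : ∀ u e, op g (vecMulVec u e) =
      vecMulVec u e + (fW c e * fU z u) • vecMulVec y c - (fW c e * fU y u) • vecMulVec z c := fun u e => by
    refine ev_injective ?_
    rw [ev_op]
    exact S.el_apply hq he hv u e
  have hgΩ : g ∈ Cfsg.Geo.omegaGL ⇑Q := SingMax.E_mem_omega S.nondegQ S.seven_le _ _
  obtain ⟨G, hG⟩ := exists_right_mul (show 1 ≤ a by have := S.three_le; omega) hc0 (hle hgΩ) fun u => by
    rw [hg, hc, zero_mul, zero_mul, zero_smul, zero_smul, add_zero, sub_zero]
  have hyn : y ∉ F ∙ z' := fun hmem => by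
    obtain ⟨t, rfl⟩ := Submodule.mem_span_singleton.1 hmem
    rw [hU.smul_right, hzz', mul_one] at hzy
    exact hy (by rw [hzy, zero_smul, hU.form.zero_left])
  obtain ⟨η, hη0, hη1⟩ := exists_sep hyn
  have h := congrArg (fun Z => η ᵥ* Z) ((hG (vecMulVec z' e₀)).symm.trans (hg z' e₀))
  simp only [vecMulVec_mul, vecMul_sub, vecMul_add, vecMul_smul, vecMul_pure, he₀, hzz', hyz', mul_one, mul_zero,
    (dotProduct_comm _ _).trans hη1,
    (dotProduct_comm _ _).trans (hη0 _ (Submodule.mem_span_singleton_self _)), zero_smul, sub_zero, zero_add,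
    one_smul] at h
  exact hc0 h.symm

/-- The stabiliser of the tensor decomposition is maximal in `Ω`. -/
theorem isMaximalIn_tensor
    (hI : ¬ a + 2 ≤ b → HasInvol fW (Cfsg.Geo.kroneckerSubgroup a b F ⊓ Cfsg.Geo.omegaGL ⇑Q)) :
    Cfsg.Geo.IsMaximalIn (Cfsg.Geo.omegaGL ⇑Q)
      (Cfsg.Geo.kroneckerSubgroup a b F ⊓ Cfsg.Geo.omegaGL ⇑Q) := by
  refine ⟨lt_of_le_of_ne inf_le_right fun heq => S.kron_ne_omega (heq.ge.trans inf_le_left),
    fun N hKN hNΩ => ?_⟩
  have T := S.change hKN hNΩ
  by_cases K : RadKron fW N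
  · refine Or.inl (le_antisymm (le_inf ?_ hNΩ) hKN)
    exact T.kron_of_fixKron (T.fixKron_of_radKron K) fun h w hw =>
      (hI h w hw).imp fun g hg => ⟨hKN hg.1, hg.2⟩
  · exact Or.inr (le_antisymm hNΩ (T.omega_le_of_cent (T.centNZ_of_not_radKron K)))

end OOSetup

end Cfsg.Agent.Lib.TensorOrth
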