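import Cfsg.Agent.Lib.TensorOrth.Small

/-!
If fixers of singular pure spaces are Kronecker then everything is: a pair of long root groups of least pairing
rank generates a group with a self-normalising Sylow subgroup.
-/

set_option autoImplicit false
set_option linter.unusedSectionVars false

namespace Cfsg.Agent.Lib.TensorOrth

open Matrix Cfsg.Agent.Lib Cfsg.Agent.Lib.TensorMax Cfsg.Agent.Lib.TensorForm

variable {F : Type*} [Field F] {a b : ℕ}

namespace OOSetup

variable {fU : (Fin a → F) → (Fin a → F) → F} {fW : (Fin b → F) → (Fin b → F) → F}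
  {Q : QuadraticForm F (Fin a × Fin b → F)} {M : Subgroup (GL (Fin a × Fin b) F)}
  (S : OOSetup fU fW Q M)
include S

/-- The form on pairs. -/
noncomputable def pair2 :
    (Fin a → F) × (Fin a → F) →ₗ[F] Module.Dual F ((Fin a → F) × (Fin a → F)) :=
  S.symU.bil.compl₁₂ (LinearMap.fst F _ _) (LinearMap.fst F _ _) +
    S.symU.bil.compl₁₂ (LinearMap.snd F _ _) (LinearMap.snd F _ _)

theorem pair2_apply (x y : (Fin a → F) × (Fin a → F)) : S.pair2 x y = fU x.1 y.1 + fU x.2 y.2 := rfl

theorem pair2_bij : Function.Bijective S.pair2 := by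
  have hinj : Function.Injective S.pair2 := LinearMap.ker_eq_bot.1 (LinearMap.ker_eq_bot'.2 fun x hx => by
    refine Prod.ext (S.symU.ext fun v => ?_) (S.symU.ext fun v => ?_)
    · have h := LinearMap.congr_fun hx (v, 0)
      rw [S.pair2_apply, LinearMap.zero_apply] at h
      simpa [S.symU.form.zero_right, S.symU.form.zero_left] using h
    · have h := LinearMap.congr_fun hx (0, v)
      rw [S.pair2_apply, LinearMap.zero_apply] at h
      simpa [S.symU.form.zero_right, S.symU.form.zero_left] using h)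
  exact ⟨hinj, (LinearMap.injective_iff_surjective_of_finrank_eq_finrank Subspace.dual_finrank_eq.symm).1 hinj⟩

theorem B_pl2 (c d : Fin b → F) (X : Matrix (Fin a) (Fin b) F) (y : (Fin a → F) × (Fin a → F)) :
    tB fU fW X (pl2 a c d y) = S.pair2 (kap fW c X, kap fW d X) y := by
  rw [pl2_apply, S.B_add_right, S.B_pure, S.B_pure, S.pair2_apply]

variable [Finite F]

theorem adj_pim {c d : Fin b → F} {g : GL (Fin a × Fin b) F} (hg : g ∈ M)
    (X : Matrix (Fin a) (Fin b) F) (y : (Fin a → F) × (Fin a → F)) :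
    S.pair2 (kap fW c (op g⁻¹ X), kap fW d (op g⁻¹ X)) y = tB fU fW X (op g (pl2 a c d y)) := by
  rw [← S.B_pl2, ← S.iso hg, op_op_inv]

theorem mem_of_perp (T : Submodule F (Matrix (Fin a) (Fin b) F)) {Y : Matrix (Fin a) (Fin b) F}
    (h : ∀ Z, (∀ X ∈ T, tB fU fW X Z = 0) → tB fU fW Z Y = 0) : Y ∈ T := by
  have hB : Forms.IsGoodForm (V := Matrix (Fin a) (Fin b) F) S.Bl 1 :=
    Forms.IsGoodForm.of_isSymm ⟨fun X Z => by rw [S.Bl_apply, S.Bl_apply]; exact (S.B_swap X Z).symm⟩
      ⟨fun X hX => S.B_nondeg fun Z => hX Z,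
       fun Z hZ => S.B_nondeg fun X => by rw [S.B_swap X Z]; exact hZ X⟩ S.two
  rw [← hB.perp_perp T]
  exact fun Z hZ => h Z hZ

/-- If the fixers of singular pure spaces are Kronecker, everything is. -/
theorem kron_of_fixKron (K : FixKron fW M) (hI : ¬ a + 2 ≤ b → HasInvol fW M) :
    M ≤ Cfsg.Geo.kroneckerSubgroup a b F := by
  classical
  have := Fintype.ofFinite F
  have ha := S.three_le
  have hb := S.five_le
  by_contra hle
  obtain ⟨g₀, hg₀, hg₀K⟩ := SetLike.not_le_iff_exists.1 hle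
  have hex : ∃ k, ∃ g ∈ M, g ∉ Cfsg.Geo.kroneckerSubgroup a b F ∧ ∃ c d, IsPlane fW c d ∧ rk fW c d g = k := by
    obtain ⟨c, d, P⟩ := S.exists_plane
    exact ⟨_, g₀, hg₀, hg₀K, c, d, P, rfl⟩
  obtain ⟨g, hg, hgK, c, d, P, hk⟩ := Nat.find_spec hex
  set k₀ := Nat.find hex
  have hk₀ : k₀ < 2 * a := by
    obtain ⟨g', h1, h2, c', d', P', h3⟩ := S.exists_small K hI hg₀ hg₀K
    exact lt_of_le_of_lt (Nat.find_min' hex ⟨g', h1, h2, c', d', P', rfl⟩) h3
  have hdc : fW d c = 0 := S.dc P
  choose tl htlM htlK htlX using fun l => S.exists_rho P.cc P.dd P.cd l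
  let D : Matrix (Fin a) (Fin b) F →ₗ[F] Matrix (Fin a) (Fin b) F :=
    (pl a d).comp (kap fW c) - (pl a c).comp (kap fW d)
  have hD : ∀ X, D X = vecMulVec (kap fW c X) d - vecMulVec (kap fW d X) c := fun X => rfl
  have htl : ∀ l X, op (tl l) X = X + l • D X := fun l X => htlX l X
  have hDP : ∀ X, D X = pl2 a c d (-kap fW d X, kap fW c X) := fun X => by
    rw [hD, pl2_apply, pure_neg_left]; abel
  have hkD : ∀ X, kap fW c (D X) = 0 ∧ kap fW d (D X) = 0 := fun X => by
    rw [hDP]; exact S.kap_pl2 P _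
  have hDD : ∀ X, D (D X) = 0 := fun X => by
    rw [hD (D X), (hkD X).1, (hkD X).2, pure_zero_left, pure_zero_left, sub_zero]
  obtain ⟨ec, ed, h11, h12, h21, h22⟩ := S.exists_pair_duals P.ne P.indep
  have hDsur : ∀ x, ∃ X, D X = pl2 a c d x := fun x => by
    refine ⟨vecMulVec x.2 ec - vecMulVec x.1 ed, ?_⟩
    rw [hDP, map_sub, map_sub, S.kap_pure, S.kap_pure, S.kap_pure, S.kap_pure, h11, h12, h21, h22]
    simp
  -- the conjugate of a root element
  set y := g * tl 1 * g⁻¹ with hydef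
  have hy : y ∈ M := M.mul_mem (M.mul_mem hg (htlM 1)) (M.inv_mem hg)
  have hyK : y ∉ Cfsg.Geo.kroneckerSubgroup a b F := fun h => hgK
    (S.kron_of_conj K P.ne P.cc P.dd P.cd P.indep hg (fun X => by rw [htlX, one_smul]) h)
  have hyX : ∀ X, op y X = X + op g (D (op g⁻¹ X)) := fun X => by
    rw [hydef, op_mul, op_mul, htl, map_add, one_smul, op_op_inv]
  have hπy : ∀ x, pim fW c d y x =
      pim fW c d g (-(pim fW c d g⁻¹ x).2, (pim fW c d g⁻¹ x).1) := fun x => by
    rw [pim_apply, pim_apply, pim_apply, hyX, map_add, map_add, (S.kap_pl2 P x).1, (S.kap_pl2 P x).2, zero_add,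
      zero_add, hDP]
  have hker : LinearMap.ker (pim fW c d y) = LinearMap.ker (pim fW c d g⁻¹) := by
    refine (Submodule.eq_of_le_of_finrank_le (fun x hx => ?_) ?_).symm
    · rw [LinearMap.mem_ker] at hx ⊢
      rw [hπy, hx, Prod.fst_zero, Prod.snd_zero, neg_zero]; exact map_zero _
    · have h1 := (pim fW c d y).finrank_range_add_finrank_ker
      have h2 := (pim fW c d g⁻¹).finrank_range_add_finrank_ker
      have h3 : k₀ ≤ rk fW c d y := Nat.find_min' hex ⟨y, hy, hyK, c, d, P, rfl⟩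
      have h4 := S.rk_inv_le (c := c) (d := d) hg
      simp only [rk] at hk h3 h4
      omega
  have hrky : rk fW c d y ≤ k₀ := by
    rw [← hk, rk, rk]
    refine Submodule.finrank_mono ?_
    rintro _ ⟨x, rfl⟩
    exact ⟨_, (hπy x).symm⟩
  have hfix : ∀ x, pim fW c d y x = 0 → op y (pl2 a c d x) = pl2 a c d x := fun x hx => by
    have h : pim fW c d g⁻¹ x = 0 := LinearMap.mem_ker.1 (hker ▸ LinearMap.mem_ker.2 hx)
    rw [pim_apply, Prod.mk_eq_zero] at h
    rw [hyX, hDP, h.1, h.2, neg_zero, show ((0 : Fin a → F), (0 : Fin a → F)) = 0 from rfl, map_zero, map_zero,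
      add_zero]
  -- the groups
  have htl_add : ∀ s t, tl s * tl t = tl (s + t) := fun s t => ext_op fun X => by
    rw [op_mul, htl, htl, htl, map_add, map_smul, hDD, smul_zero, add_zero, add_smul]; abel
  have htl_zero : tl 0 = 1 := ext_op fun X => by rw [htl, op_one, zero_smul, add_zero]
  let Xs : Subgroup (GL (Fin a × Fin b) F) :=
    { carrier := Set.range tl
      one_mem' := ⟨0, htl_zero⟩
      mul_mem' := fun {_ _} ha hb => by
        obtain ⟨s, rfl⟩ := ha
        obtain ⟨t, rfl⟩ := hb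
        exact ⟨s + t, (htl_add s t).symm⟩
      inv_mem' := fun {_} ha => by
        obtain ⟨s, rfl⟩ := ha
        exact ⟨-s, eq_inv_of_mul_eq_one_right (by rw [htl_add, add_neg_cancel, htl_zero])⟩ }
  set H := Xs ⊔ Xs.map (MulAut.conj y).toMonoidHom with hH
  have hXH : Xs ≤ H := le_sup_left
  let Ω : Set (Matrix (Fin a) (Fin b) F) :=
    {X | (kap fW c X = 0 ∧ kap fW d X = 0) ∧ kap fW c (op y⁻¹ X) = 0 ∧ kap fW d (op y⁻¹ X) = 0}
  have hDzero : ∀ X, kap fW c X = 0 → kap fW d X = 0 → D X = 0 := fun X h1 h2 => by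
    rw [hD, h1, h2, pure_zero_left, pure_zero_left, sub_zero]
  have hHfix : H ≤ TensorMixed.fixer Ω := by
    refine sup_le ?_ ?_
    · rintro _ ⟨l, rfl⟩ X hX
      rw [htl, hDzero X hX.1.1 hX.1.2, smul_zero, add_zero]
    · rintro _ ⟨_, ⟨l, rfl⟩, rfl⟩ X hX
      show op (y * tl l * y⁻¹) X = X
      rw [op_mul, op_mul, htl, hDzero _ hX.2.1 hX.2.2, smul_zero, add_zero, op_op_inv]
  have hHM : H ≤ M := by
    refine sup_le ?_ ?_
    · rintro _ ⟨l, rfl⟩; exact htlM l
    · rintro _ ⟨_, ⟨l, rfl⟩, rfl⟩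
      exact M.mul_mem (M.mul_mem hy (htlM l)) (M.inv_mem hy)
  have hadj : (S.pair2).comp (pim fW c d y⁻¹) = (pim fW c d y).dualMap.comp S.pair2 :=
    LinearMap.ext fun x => LinearMap.ext fun x' => by
      show S.pair2 (pim fW c d y⁻¹ x) x' = S.pair2 x (pim fW c d y x')
      rw [pim_apply, pim_apply, S.adj_pim hy, S.B_swap, S.B_pl2, S.pair2_apply, S.pair2_apply,
        S.symU.symm _ x.1, S.symU.symm _ x.2]
  have hsur : ∀ X, kap fW c X = 0 → kap fW d X = 0 → ∃ x, X + pl2 a c d x ∈ Ω := by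
    intro X hX1 hX2
    set ξ := S.pair2 (kap fW c (op y⁻¹ X), kap fW d (op y⁻¹ X)) with hξdef
    have hξ : ξ ∈ (LinearMap.ker (pim fW c d y)).dualAnnihilator := by
      rw [Submodule.mem_dualAnnihilator]
      intro x hx
      rw [hξdef, S.adj_pim hy, hfix x (LinearMap.mem_ker.1 hx), S.B_pl2, hX1, hX2, S.pair2_apply,
        S.symU.form.zero_left, S.symU.form.zero_left, add_zero]
    rw [← LinearMap.range_dualMap_eq_dualAnnihilator_ker] at hξ
    obtain ⟨χ, hχ⟩ := hξ
    obtain ⟨x, rfl⟩ := S.pair2_bij.2 χ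
    have hx : pim fW c d y⁻¹ x = (kap fW c (op y⁻¹ X), kap fW d (op y⁻¹ X)) :=
      S.pair2_bij.1 ((LinearMap.congr_fun hadj x).trans hχ)
    rw [pim_apply, Prod.mk.injEq] at hx
    refine ⟨-x, ⟨?_, ?_⟩, ?_, ?_⟩ <;> simp only [map_neg, map_add, (S.kap_pl2 P x).1, (S.kap_pl2 P x).2, hX1, hX2,
      hx.1, hx.2, neg_zero, add_zero, add_neg_cancel]
  -- normalisers
  obtain ⟨e₁, he₁, he₁ℓ⟩ := S.symW.exists_orth ![c, d] (F ∙ c ⊔ F ∙ d) (by
    have := Submodule.finrank_add_le_finrank_add_finrank (F ∙ c) (F ∙ d)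
    have h1 : Module.finrank F (F ∙ c) ≤ 1 := (finrank_span_le_card ({c} : Set (Fin b → F))).trans (by simp)
    have h2 : Module.finrank F (F ∙ d) ≤ 1 := (finrank_span_le_card ({d} : Set (Fin b → F))).trans (by simp)
    omega)
  have hℓ : ∀ x ∈ F ∙ c ⊔ F ∙ d, ∃ s r : F, x = s • c + r • d := fun x hx => by
    obtain ⟨p, hp, q, hq, rfl⟩ := Submodule.mem_sup.1 hx
    obtain ⟨s, rfl⟩ := Submodule.mem_span_singleton.1 hp
    obtain ⟨r, rfl⟩ := Submodule.mem_span_singleton.1 hq
    exact ⟨s, r, rfl⟩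
  have hℓP : ∀ u, ∀ x ∈ F ∙ c ⊔ F ∙ d, ∃ z, vecMulVec u x = pl2 a c d z := fun u x hx => by
    obtain ⟨s, r, rfl⟩ := hℓ x hx
    exact ⟨(s • u, r • u), by rw [pl2_apply, pure_add_right, pure_smul_right, pure_smul_right, pure_smul_left,
      pure_smul_left]⟩
  have hstab : ∀ n ∈ M, n * tl 1 * n⁻¹ ∈ Xs → n ∈ Cfsg.Geo.kroneckerSubgroup a b F ∧
      ∀ x, ∃ x', op n (pl2 a c d x) = pl2 a c d x' := by
    rintro n hn ⟨l, hl⟩
    have hrel : ∀ X, op n (D X) = l • D (op n X) := fun X => by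
      have h := congrArg (fun t => op t (op n X)) hl
      rw [htl, op_mul, op_mul, op_inv_op, htl, map_add, one_smul] at h
      exact (add_left_cancel h).symm
    have hfwd : ∀ x, ∃ x', op n (pl2 a c d x) = pl2 a c d x' := fun x => by
      obtain ⟨X, hX⟩ := hDsur x
      exact ⟨l • (-kap fW d (op n X), kap fW c (op n X)), by rw [← hX, hrel, map_smul, ← hDP]⟩
    have hl0 : l ≠ 0 := fun e => by
      obtain ⟨u, u', huu⟩ := S.exists_uu
      obtain ⟨X, hX⟩ := hDsur (u, 0)
      have h := hrel X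
      rw [e, zero_smul, hX, ← map_zero (op n)] at h
      have := congrArg Prod.fst (S.pl2_injective P ((op_injective n h).trans (map_zero (pl2 a c d)).symm))
      exact huu (by rw [show u = 0 from this, S.symU.form.zero_left])
    have hbwd : ∀ x, ∃ x', op n⁻¹ (pl2 a c d x) = pl2 a c d x' := fun x => by
      obtain ⟨X, hX⟩ := hDsur x
      refine ⟨l⁻¹ • (-kap fW d (op n⁻¹ X), kap fW c (op n⁻¹ X)), ?_⟩
      rw [map_smul, ← hDP, eq_inv_smul_iff₀ hl0]
      refine op_injective n ?_
      rw [map_smul, op_op_inv, hrel, op_op_inv, hX]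
    refine ⟨S.kron_of_planes K (ℓ := F ∙ c ⊔ F ∙ d) (J := F ∙ c ⊔ F ∙ d) (c := c) (c' := c) (v := e₁)
      (Submodule.mem_sup_left (Submodule.mem_span_singleton_self c)) P.ne ?_
      (Submodule.mem_sup_left (Submodule.mem_span_singleton_self c)) P.ne P.cc ?_ he₁ℓ hn ?_ ?_, hfwd⟩
    · intro x hx x' hx'
      obtain ⟨s, r, rfl⟩ := hℓ x hx
      obtain ⟨s', r', rfl⟩ := hℓ x' hx'
      simp only [S.symW.form.add_left, S.symW.form.add_right, S.symW.form.smul_left, S.symW.smul_right, P.cc, P.dd,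
        P.cd, hdc, mul_zero, add_zero]
    · intro x hx
      obtain ⟨s, r, rfl⟩ := hℓ x hx
      rw [S.symW.form.add_right, S.symW.smul_right, S.symW.smul_right, show fW e₁ c = 0 from he₁ 0,
        show fW e₁ d = 0 from he₁ 1, mul_zero, mul_zero, add_zero]
    all_goals
      intro u x hx w hw
      obtain ⟨z, hz⟩ := hℓP u x hx
    · obtain ⟨z', hz'⟩ := hfwd z
      rw [hz, hz', pl2_apply, map_add, S.kap_pure, S.kap_pure, S.symW.symm w c, S.symW.symm w d,
        hw c (Submodule.mem_sup_left (Submodule.mem_span_singleton_self c)),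
        hw d (Submodule.mem_sup_right (Submodule.mem_span_singleton_self d)), zero_smul, zero_smul, add_zero]
    · obtain ⟨z', hz'⟩ := hbwd z
      rw [hz, hz', pl2_apply, map_add, S.kap_pure, S.kap_pure, S.symW.symm w c, S.symW.symm w d,
        hw c (Submodule.mem_sup_left (Submodule.mem_span_singleton_self c)),
        hw d (Submodule.mem_sup_right (Submodule.mem_span_singleton_self d)), zero_smul, zero_smul, add_zero]
  let Sm : Submodule F (Matrix (Fin a) (Fin b) F) :=
    LinearMap.range (pl2 a c d) ⊔ LinearMap.range ((op y).comp (pl2 a c d))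
  have hSm : ∀ Z, (∀ X ∈ Sm, tB fU fW X Z = 0) → Z ∈ Ω := fun Z hZ => by
    have h1 : (kap fW c Z, kap fW d Z) = 0 := S.pair2_bij.1 (LinearMap.ext fun x => by
      rw [← S.B_pl2, S.B_swap _ Z, hZ _ (Submodule.mem_sup_left ⟨x, rfl⟩), map_zero, LinearMap.zero_apply])
    have h2 : (kap fW c (op y⁻¹ Z), kap fW d (op y⁻¹ Z)) = 0 := S.pair2_bij.1 (LinearMap.ext fun x => by
      rw [S.adj_pim hy, S.B_swap _ Z, hZ (op y (pl2 a c d x)) (Submodule.mem_sup_right ⟨x, rfl⟩), map_zero,
        LinearMap.zero_apply])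
    rw [Prod.mk_eq_zero] at h1 h2
    exact ⟨h1, h2⟩
  obtain ⟨u₀, u₁, huu⟩ := S.exists_uu
  have hu₀ : u₀ ≠ 0 := fun e => huu (by rw [e, S.symU.form.zero_left])
  obtain ⟨φ₀, hφ₀⟩ := exists_dot_one hu₀
  have hnorm : ∀ n ∈ H, n * tl 1 * n⁻¹ ∈ Xs → n ∈ Xs := by
    intro n hn hnX
    have hnM := hHM hn
    obtain ⟨⟨A, C, hAC⟩, hnP⟩ := hstab n hnM hnX
    have hpure : ∀ u e, op n (vecMulVec u e) =
        vecMulVec ((A : Matrix (Fin a) (Fin a) F) *ᵥ u) ((C : Matrix (Fin b) (Fin b) F) *ᵥ e) := fun u e => by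
      rw [op_kron hAC, mul_vecMulVec, vecMulVec_mul, vecMul_transpose]
    obtain ⟨φ, hφ0, hφ1⟩ := exists_sep he₁ℓ
    have hφc : c ⬝ᵥ φ = 0 := hφ0 c (Submodule.mem_sup_left (Submodule.mem_span_singleton_self c))
    have hφd : d ⬝ᵥ φ = 0 := hφ0 d (Submodule.mem_sup_right (Submodule.mem_span_singleton_self d))
    set a₀ := ((C : Matrix (Fin b) (Fin b) F) *ᵥ e₁) ⬝ᵥ φ
    have hAs : ∀ u, a₀ • ((A : Matrix (Fin a) (Fin a) F) *ᵥ u) = u := by
      intro u
      obtain ⟨x, hx⟩ := hsur (vecMulVec u e₁) (by rw [S.kap_pure, show fW e₁ c = 0 from he₁ 0, zero_smul])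
        (by rw [S.kap_pure, show fW e₁ d = 0 from he₁ 1, zero_smul])
      have h := hHfix hn _ hx
      obtain ⟨x', hx'⟩ := hnP x
      rw [map_add, hx', hpure, pl2_apply, pl2_apply] at h
      have h' := congrArg (fun Z => Z *ᵥ φ) h
      simpa [add_mulVec, pure_mulVec, hφc, hφd, hφ1] using h'
    have ha₀ : a₀ ≠ 0 := fun e0 => hu₀ (by have := hAs u₀; rw [e0, zero_smul] at this; exact this.symm)
    let G : (Fin b → F) →ₗ[F] (Fin b → F) := a₀⁻¹ • Matrix.mulVecLin (C : Matrix (Fin b) (Fin b) F)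
    have hnG : ∀ u e, op n (vecMulVec u e) = vecMulVec u (G e) := fun u e => by
      show _ = vecMulVec u (a₀⁻¹ • ((C : Matrix (Fin b) (Fin b) F) *ᵥ e))
      rw [hpure, pure_smul_right, ← pure_smul_left]
      congr 1
      rw [eq_inv_smul_iff₀ ha₀, hAs]
    have hJ : ∀ u e, vecMulVec u (G e - e) ∈ Sm := fun u e => by
      refine S.mem_of_perp Sm fun Z hZ => ?_
      rw [pure_sub_right, ← hnG, S.B_sub_right]
      have h1 := S.iso hnM Z (vecMulVec u e)
      rw [hHfix hn Z (hSm Z hZ)] at h1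
      rw [h1, sub_self]
    have hJℓ : ∀ e, fW (G e - e) c = 0 → fW (G e - e) d = 0 → G e - e ∈ F ∙ c ⊔ F ∙ d := fun e he1 he2 => by
      obtain ⟨p, ⟨x, rfl⟩, w, ⟨x', rfl⟩, hpw⟩ := Submodule.mem_sup.1 (hJ u₀ e)
      have hk0 : pim fW c d y x' = 0 := by
        have hc1 := congrArg (kap fW c) hpw
        have hd1 := congrArg (kap fW d) hpw
        rw [map_add, (S.kap_pl2 P x).1, zero_add, S.kap_pure, he1, zero_smul] at hc1
        rw [map_add, (S.kap_pl2 P x).2, zero_add, S.kap_pure, he2, zero_smul] at hd1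
        rw [pim_apply, ← LinearMap.comp_apply (op y), hc1, hd1]; rfl
      rw [LinearMap.comp_apply, hfix x' hk0, ← map_add, pl2_apply] at hpw
      have h := congrArg (fun Z => φ₀ ᵥ* Z) hpw
      simp only [vecMul_add, vecMul_pure, dotProduct_comm φ₀ u₀, hφ₀, one_smul] at h
      rw [← h]
      exact Submodule.add_mem_sup (Submodule.smul_mem _ _ (Submodule.mem_span_singleton_self c))
        (Submodule.smul_mem _ _ (Submodule.mem_span_singleton_self d))
    by_cases hout : ∃ e, ¬ (fW (G e - e) c = 0 ∧ fW (G e - e) d = 0)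
    · exfalso
      obtain ⟨e, he⟩ := hout
      set j := G e - e with hjdef
      -- a basis of the plane adapted to `j`
      obtain ⟨s, t, hst⟩ : ∃ s t : F, s = fW d j ∧ t = -fW c j := ⟨_, _, rfl, rfl⟩
      have hst0 : ¬ (s = 0 ∧ t = 0) := fun h => he
        ⟨by rw [S.symW.symm c j, ← neg_eq_zero, ← hst.2]; exact h.2, by rw [S.symW.symm d j, ← hst.1]; exact h.1⟩
      set c₁ := s • c + t • d with hc₁def
      obtain ⟨d₁, hd₁ℓ, hd₁j⟩ : ∃ d₁ ∈ F ∙ c ⊔ F ∙ d, fW d₁ j = 1 := by
        by_cases h1 : fW c j = 0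
        · have h2 : fW d j ≠ 0 := fun h2 => hst0 ⟨hst.1.trans h2, by rw [hst.2, h1, neg_zero]⟩
          exact ⟨(fW d j)⁻¹ • d, Submodule.mem_sup_right (Submodule.smul_mem _ _ (Submodule.mem_span_singleton_self d)),
            by rw [S.symW.form.smul_left, inv_mul_cancel₀ h2]⟩
        · exact ⟨(fW c j)⁻¹ • c, Submodule.mem_sup_left (Submodule.smul_mem _ _ (Submodule.mem_span_singleton_self c)),
            by rw [S.symW.form.smul_left, inv_mul_cancel₀ h1]⟩
      have hc₁j : fW c₁ j = 0 := by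
        rw [hc₁def, S.symW.form.add_left, S.symW.form.smul_left, S.symW.form.smul_left, hst.1, hst.2]; ring
      have hℓℓ : ∀ x ∈ F ∙ c ⊔ F ∙ d, ∀ x' ∈ F ∙ c ⊔ F ∙ d, fW x x' = 0 := fun x hx x' hx' => by
        obtain ⟨s, r, rfl⟩ := hℓ x hx
        obtain ⟨s', r', rfl⟩ := hℓ x' hx'
        simp only [S.symW.form.add_left, S.symW.form.add_right, S.symW.form.smul_left, S.symW.smul_right, P.cc, P.dd,
          P.cd, hdc, mul_zero, add_zero]
      have hcl : c ∈ F ∙ c ⊔ F ∙ d := Submodule.mem_sup_left (Submodule.mem_span_singleton_self c)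
      have hdl : d ∈ F ∙ c ⊔ F ∙ d := Submodule.mem_sup_right (Submodule.mem_span_singleton_self d)
      have hc₁ℓ : c₁ ∈ F ∙ c ⊔ F ∙ d := add_mem (Submodule.smul_mem _ _ hcl) (Submodule.smul_mem _ _ hdl)
      have hc₁0 : c₁ ≠ 0 := fun e0 => hst0 (by
        have h1 := congrArg (fun v => fW v ec) e0
        have h2 := congrArg (fun v => fW v ed) e0
        simp only [hc₁def, S.symW.form.add_left, S.symW.form.smul_left, S.symW.form.zero_left, S.symW.symm ec c,
          S.symW.symm ec d, S.symW.symm ed c, S.symW.symm ed d, h11, h12, h21, h22, mul_one, mul_zero, add_zero,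
          zero_add] at h1 h2
        exact ⟨h1, h2⟩)
      -- the singular partner
      set j' := j - (fW j j / 2) • d₁ with hj'
      have hjd : fW j d₁ = 1 := by rw [S.symW.symm d₁ j]; exact hd₁j
      have hj'0 : fW j' j' = 0 := by
        simp only [hj', S.symW.form.sub_left, S.symW.form.sub_right, S.symW.form.smul_left, S.symW.smul_right, hd₁j,
          hjd, hℓℓ d₁ hd₁ℓ d₁ hd₁ℓ]
        linear_combination -div_mul_cancel₀ (fW j j) S.two
      have hxj' : ∀ x ∈ F ∙ c ⊔ F ∙ d, fW x j' = fW x j := fun x hx => by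
        rw [hj', S.symW.form.sub_right, S.symW.smul_right, hℓℓ x hx d₁ hd₁ℓ, mul_zero, sub_zero]
      have hc₁j' : fW c₁ j' = 0 := by rw [hxj' c₁ hc₁ℓ]; exact hc₁j
      have hc₁c₁ : fW c₁ c₁ = 0 := hℓℓ c₁ hc₁ℓ c₁ hc₁ℓ
      have hind : j' ∉ F ∙ c₁ := fun hmem => by
        obtain ⟨l, hl⟩ := Submodule.mem_span_singleton.1 hmem
        have h1 := hxj' d₁ hd₁ℓ
        rw [← hl, S.symW.smul_right, hℓℓ d₁ hd₁ℓ c₁ hc₁ℓ, mul_zero, hd₁j] at h1
        exact zero_ne_one h1
      have hj'Sm : ∀ u, vecMulVec u j' ∈ Sm := fun u => by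
        rw [hj', pure_sub_right]
        obtain ⟨z, hz⟩ := hℓP u ((fW j j / 2) • d₁) (Submodule.smul_mem _ _ hd₁ℓ)
        exact Sm.sub_mem (hJ u e) (Submodule.mem_sup_left ⟨z, hz.symm⟩)
      -- the kernel lies in the pure space of `c₁`
      set U₀ := LinearMap.ker (pim fW c d y)
      have hU₀ : ∀ x ∈ U₀, kap fW j' (pl2 a c d x) = 0 := fun x hx => S.symU.ext fun u => by
        rw [S.symU.form.zero_left, ← S.B_pure]
        obtain ⟨p, ⟨z, rfl⟩, w, ⟨z', rfl⟩, hpw⟩ := Submodule.mem_sup.1 (hj'Sm u)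
        have hzero : ∀ q, tB fU fW (pl2 a c d x) (pl2 a c d q) = 0 := fun q => by
          rw [S.B_pl2, (S.kap_pl2 P x).1, (S.kap_pl2 P x).2, S.pair2_apply, S.symU.form.zero_left,
            S.symU.form.zero_left, add_zero]
        rw [← hpw, S.B_add_right, LinearMap.comp_apply, hzero]
        nth_rw 1 [← hfix x (LinearMap.mem_ker.1 hx)]
        rw [S.iso hy, hzero, add_zero]
      let ι : (Fin a → F) →ₗ[F] (Fin a → F) × (Fin a → F) := (s • LinearMap.id).prod (t • LinearMap.id)
      have hι : ∀ u, pl2 a c d (ι u) = vecMulVec u c₁ := fun u => by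
        rw [pl2_apply, hc₁def, pure_add_right, pure_smul_right, pure_smul_right, ← pure_smul_left, ← pure_smul_left]
        rfl
      let U₁ := U₀.comap ι
      have hsurj : ∀ x ∈ U₀, ∃ u ∈ U₁, ι u = x := by
        intro x hx
        have h := hU₀ x hx
        rw [pl2_apply, map_add, S.kap_pure, S.kap_pure, hxj' c hcl, hxj' d hdl,
          show fW c j = -t by rw [hst.2, neg_neg], ← hst.1, neg_smul, neg_add_eq_sub, sub_eq_zero] at h
        rsuffices ⟨u, hu⟩ : ∃ u, ι u = x
        · exact ⟨u, by show ι u ∈ U₀; rw [hu]; exact hx, hu⟩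
        by_cases ht0 : t = 0
        · have hs0 : s ≠ 0 := fun e0 => hst0 ⟨e0, ht0⟩
          refine ⟨s⁻¹ • x.1, Prod.ext ?_ ?_⟩
          · show s • s⁻¹ • x.1 = x.1
            rw [smul_inv_smul₀ hs0]
          · show t • s⁻¹ • x.1 = x.2
            rw [ht0, zero_smul] at h ⊢
            exact ((smul_eq_zero.1 h).resolve_left hs0).symm
        · refine ⟨t⁻¹ • x.2, Prod.ext ?_ ?_⟩
          · show s • t⁻¹ • x.2 = x.1
            rw [smul_comm, h, inv_smul_smul₀ ht0]
          · show t • t⁻¹ • x.2 = x.2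
            rw [smul_inv_smul₀ ht0]
      have hk : 2 * a ≤ k₀ + Module.finrank F U₁ := by
        have h1 := (pim fW c d y).finrank_range_add_finrank_ker
        rw [Module.finrank_prod, Module.finrank_fin_fun] at h1
        have h2 : Module.finrank F U₀ ≤ Module.finrank F U₁ := by
          refine le_trans (Submodule.finrank_mono (fun x hx => ?_)) (Submodule.finrank_map_le ι U₁)
          obtain ⟨u, hu, hux⟩ := hsurj x hx
          exact ⟨u, hu, hux⟩
        rw [rk] at hrky
        have h3 : Module.finrank F (LinearMap.ker (pim fW c d y)) = Module.finrank F U₀ := rfl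
        omega
      -- the contraction at `c₁` of the conjugate pair
      let Λ : (Fin a → F) × (Fin a → F) →ₗ[F] (Fin a → F) := (kap fW c₁).comp ((op y).comp (pl2 a c d))
      have hbinj : Function.Injective S.symU.bil := fun p q h => S.symU.ext fun w => by
        rw [← S.symU.bil_apply, h, S.symU.bil_apply]
      have hann : ∀ v, S.symU.bil (Λ v) ∈ U₁.dualAnnihilator := fun v => by
        rw [Submodule.mem_dualAnnihilator]
        intro u hu
        show fU (kap fW c₁ (op y (pl2 a c d v))) u = 0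
        rw [← S.B_pure, ← hι, ← hfix (ι u) (LinearMap.mem_ker.1 (show ι u ∈ U₀ from hu)), S.iso hy, S.B_pl2,
          (S.kap_pl2 P v).1, (S.kap_pl2 P v).2, S.pair2_apply, S.symU.form.zero_left, S.symU.form.zero_left,
          add_zero]
      have hΛ : Module.finrank F (LinearMap.range Λ) + Module.finrank F U₁ ≤ a := by
        have h1 := Subspace.finrank_add_finrank_dualAnnihilator_eq U₁
        rw [Module.finrank_fin_fun] at h1
        have h2 : Module.finrank F (LinearMap.range Λ) ≤ Module.finrank F U₁.dualAnnihilator := by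
          refine le_of_eq_of_le (Submodule.equivMapOfInjective S.symU.bil hbinj _).finrank_eq (Submodule.finrank_mono ?_)
          rintro _ ⟨_, ⟨v, rfl⟩, rfl⟩
          exact hann v
        omega
      let Ψ : (Fin a → F) →ₗ[F] (Fin a → F) × (Fin a → F) :=
        ((kap fW c).prod (kap fW d)).comp ((op y⁻¹).comp (pl a c₁))
      have hΨ : Module.finrank F (LinearMap.range Ψ) ≤ Module.finrank F (LinearMap.range Λ) := by
        have e : S.pair2.comp Ψ = Λ.dualMap.comp S.symU.bil := LinearMap.ext fun u => LinearMap.ext fun x => by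
          show S.pair2 (kap fW c (op y⁻¹ (vecMulVec u c₁)), kap fW d (op y⁻¹ (vecMulVec u c₁))) x =
            fU u (kap fW c₁ (op y (pl2 a c d x)))
          rw [S.adj_pim hy, S.B_pure_left, S.symU.symm]
        calc Module.finrank F (LinearMap.range Ψ)
            = Module.finrank F (LinearMap.range (S.pair2.comp Ψ)) := by
              conv_rhs => rw [LinearMap.range_comp]
              exact (Submodule.equivMapOfInjective S.pair2 S.pair2_bij.1 _).finrank_eq
          _ ≤ Module.finrank F (LinearMap.range Λ.dualMap) := by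
              rw [e]; exact Submodule.finrank_mono (LinearMap.range_comp_le_range _ _)
          _ = Module.finrank F (LinearMap.range Λ) := LinearMap.finrank_range_dualMap_eq_finrank_range _
      obtain ⟨t', ht', -, ht'X⟩ := S.exists_rho hc₁c₁ hj'0 hc₁j' 1
      have hg'' : y⁻¹ * t' * y ∈ M := M.mul_mem (M.mul_mem (M.inv_mem hy) ht') hy
      let Θ : (Fin a → F) →ₗ[F] (Fin a → F) × (Fin a → F) :=
        ((kap fW c).prod (kap fW d)).comp ((op y⁻¹).comp (pl a j'))
      have hpim : pim fW c d (y⁻¹ * t' * y) =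
          Θ.comp Λ - Ψ.comp ((kap fW j').comp ((op y).comp (pl2 a c d))) := LinearMap.ext fun x => by
        show _ = (kap fW c (op y⁻¹ (vecMulVec (kap fW c₁ (op y (pl2 a c d x))) j')),
            kap fW d (op y⁻¹ (vecMulVec (kap fW c₁ (op y (pl2 a c d x))) j'))) -
          (kap fW c (op y⁻¹ (vecMulVec (kap fW j' (op y (pl2 a c d x))) c₁)),
            kap fW d (op y⁻¹ (vecMulVec (kap fW j' (op y (pl2 a c d x))) c₁)))
        rw [pim_apply, op_mul, op_mul, ht'X, one_smul, Prod.mk_sub_mk]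
        simp only [map_add, map_sub, op_inv_op, (S.kap_pl2 P x).1, (S.kap_pl2 P x).2, zero_add]
      have hrk'' : rk fW c d (y⁻¹ * t' * y) < k₀ := by
        have h1 : rk fW c d (y⁻¹ * t' * y) ≤
            Module.finrank F (LinearMap.range Λ) + Module.finrank F (LinearMap.range Ψ) := by
          rw [rk, hpim]
          refine le_trans (Submodule.finrank_mono (show _ ≤ LinearMap.range (Θ.comp Λ) ⊔ LinearMap.range Ψ by
            rintro _ ⟨x, rfl⟩
            rw [LinearMap.sub_apply]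
            exact Submodule.sub_mem_sup ⟨x, rfl⟩ ⟨_, rfl⟩)) ?_
          refine le_trans (Submodule.finrank_add_le_finrank_add_finrank _ _) ?_
          gcongr
          rw [LinearMap.range_comp]
          exact Submodule.finrank_map_le _ _
        omega
      have hK'' : y⁻¹ * t' * (y⁻¹)⁻¹ ∈ Cfsg.Geo.kroneckerSubgroup a b F := by
        rw [inv_inv]
        by_contra hn''
        exact Nat.find_min hex hrk'' ⟨_, hg'', hn'', c, d, P, rfl⟩
      exact hyK (inv_mem_iff.1 (S.kron_of_conj K hc₁0 hc₁c₁ hj'0 hc₁j' hind (M.inv_mem hy)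
        (fun X => by rw [ht'X, one_smul]) hK''))
    push Not at hout
    -- `n` is a long root element
    choose αf βf hαβ using fun e => hℓ _ (hJℓ e (hout e).1 (hout e).2)
    have hGe : ∀ e, G e = e + (αf e • c + βf e • d) := fun e => by rw [← hαβ, add_sub_cancel]
    have hiso : ∀ e e', fW (αf e • c + βf e • d) e' + fW e (αf e' • c + βf e' • d) = 0 := fun e e' => by
      obtain ⟨w, hw⟩ := S.symU.form.nondeg u₀ hu₀
      have h := S.iso hnM (vecMulVec u₀ e) (vecMulVec w e')
      rw [hnG, hnG, S.B_pure_pure, S.B_pure_pure, hGe, hGe] at h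
      have h' := mul_right_cancel₀ hw h
      simp only [S.symW.form.add_left, S.symW.form.add_right, S.symW.form.smul_left, S.symW.smul_right, P.cc, P.dd,
        P.cd, hdc] at h' ⊢
      linear_combination h'
    have hcec : fW c ec = 1 := by rw [S.symW.symm ec c]; exact h11
    have hdec : fW d ec = 0 := by rw [S.symW.symm ec d]; exact h12
    have hced : fW c ed = 0 := by rw [S.symW.symm ed c]; exact h21
    have hded : fW d ed = 1 := by rw [S.symW.symm ed d]; exact h22
    have hA : ∀ x, αf x = -(αf ec * fW x c + βf ec * fW x d) := fun x => by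
      have h := hiso x ec
      simp only [S.symW.form.add_left, S.symW.form.add_right, S.symW.form.smul_left, S.symW.smul_right, hcec, hdec,
        mul_one, mul_zero, add_zero] at h
      linear_combination h
    have hB : ∀ x, βf x = -(αf ed * fW x c + βf ed * fW x d) := fun x => by
      have h := hiso x ed
      simp only [S.symW.form.add_left, S.symW.form.add_right, S.symW.form.smul_left, S.symW.smul_right, hced, hded,
        mul_one, mul_zero, zero_add] at h
      linear_combination h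
    have hAec : αf ec = 0 := by
      have h := hA ec
      rw [h11, h12, mul_one, mul_zero, add_zero] at h
      exact (mul_eq_zero.1 (show 2 * αf ec = 0 by linear_combination h)).resolve_left S.two
    have hBed : βf ed = 0 := by
      have h := hB ed
      rw [h21, h22, mul_one, mul_zero, zero_add] at h
      exact (mul_eq_zero.1 (show 2 * βf ed = 0 by linear_combination h)).resolve_left S.two
    have hBec : βf ec = -αf ed := by
      have h := hA ed
      rw [h21, h22, hAec] at h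
      linear_combination h
    refine ⟨βf ec, ext_op fun X => lin_ext (L := op (tl (βf ec))) (L' := op n) (fun u e => ?_) X⟩
    rw [htl, hD, hnG, hGe, hA e, hB e, hAec, hBed, hBec, S.kap_pure, S.kap_pure, pure_add_right, pure_add_right,
      pure_smul_left, pure_smul_left, pure_smul_right, pure_smul_right]
    module
  -- the group theory
  obtain ⟨p, hp⟩ := CharP.exists F
  haveI : Fact p.Prime := ⟨CharP.char_is_prime F p⟩
  let X' : Subgroup H := Xs.subgroupOf H
  have hXp : IsPGroup p X' := by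
    have hpow : ∀ (j : ℕ) l, tl l ^ j = tl ((j : F) * l) := fun j l => by
      induction j with
      | zero => rw [pow_zero, Nat.cast_zero, zero_mul, htl_zero]
      | succ j ih => rw [pow_succ, ih, htl_add, Nat.cast_succ, add_mul, one_mul]
    rintro ⟨⟨n, hn⟩, l, hl⟩
    refine ⟨1, Subtype.ext (Subtype.ext ?_)⟩
    show n ^ p ^ 1 = 1
    rw [pow_one, ← show tl l = n from hl, hpow, CharP.cast_eq_zero, zero_mul, htl_zero]
  have hmem : ∀ {n : H}, n ∈ X' ↔ (n : GL (Fin a × Fin b) F) ∈ Xs := Subgroup.mem_subgroupOf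
  let x₁ : H := ⟨tl 1, hXH ⟨1, rfl⟩⟩
  refine TensorMixed.not_selfnorm (X := X') hXp ?_ ?_ ?_ (x := x₁) (hmem.2 ⟨1, rfl⟩) ?_ ?_
  · intro p' hp' q' hq'
    obtain ⟨i, hi⟩ := hmem.1 hp'
    obtain ⟨j, hj⟩ := hmem.1 hq'
    refine Subtype.ext ?_
    show (p' : GL (Fin a × Fin b) F) * q' = q' * p'
    rw [← hi, ← hj, htl_add, htl_add, add_comm]
  · intro etop
    have h : (⟨y * tl 1 * y⁻¹, le_sup_right (a := Xs) ⟨tl 1, ⟨1, rfl⟩, rfl⟩⟩ : H) ∈ X' :=
      etop ▸ Subgroup.mem_top _
    exact hyK (hstab y hy (hmem.1 h)).1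
  · intro n hn
    exact hmem.2 (hnorm n n.2 (hmem.1 ((Subgroup.mem_normalizer_iff.1 hn x₁).1 (hmem.2 ⟨1, rfl⟩))))
  · intro n hord hab hac hbc
    haveI : Nontrivial (Module.End F (Matrix (Fin a) (Fin b) F)) := by
      refine ⟨⟨0, 1, fun e => hu₀ (pl_injective P.ne ?_)⟩⟩
      have := LinearMap.congr_fun e (pl a c u₀)
      rw [map_zero]
      exact this.symm
    let Ψ : H →* Module.End F (Matrix (Fin a) (Fin b) F) := TensorMixed.opHom.comp H.subtype
    have hinj : Function.Injective Ψ := fun u v e => Subtype.ext (ext_op fun X => LinearMap.congr_fun e X)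
    refine hinj ?_
    rw [map_mul, map_mul]
    have hconj : ∀ m : H, Ψ x₁ * Ψ m = Ψ (x₁ * m * x₁⁻¹) * Ψ x₁ := fun m => by
      rw [← map_mul, ← map_mul, inv_mul_cancel_right]
    have hpow : ∀ m : H, Ψ (x₁ * m * x₁⁻¹) ^ orderOf m = 1 := fun m => by
      rw [← map_pow, show (x₁ * m * x₁⁻¹) ^ orderOf m = 1 by simp [← MulAut.conj_apply, ← map_pow, pow_orderOf_eq_one],
        map_one]
    have hop1 : ∀ X, Ψ x₁ X = X + D X := fun X => by
      show op (tl 1) X = _
      rw [htl, one_smul]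
    refine TensorMixed.commute_of_quadratic (p := p) S.two (m := orderOf n) ?_ (hconj n)
      (hconj (x₁ * n * x₁⁻¹))
      (hab.map Ψ) (hac.map Ψ) (hbc.map Ψ) hord (by rw [← map_pow, pow_orderOf_eq_one, map_one]) (hpow n) ?_
    · refine LinearMap.ext fun X => ?_
      simp only [LinearMap.add_apply, LinearMap.sub_apply, LinearMap.smul_apply, Module.End.mul_apply,
        Module.End.one_apply, LinearMap.zero_apply, hop1, map_add, hDD, add_zero]
      module
    · rw [← map_pow]
      simp [← MulAut.conj_apply, ← map_pow, pow_orderOf_eq_one]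
  · intro n hn
    refine hmem.2 (hnorm n n.2 ⟨1, ?_⟩)
    have h := congrArg (fun t : H => (t : GL (Fin a × Fin b) F)) hn
    simp only [Subgroup.coe_mul] at h
    rw [eq_mul_inv_iff_mul_eq]
    exact h

end OOSetup

end Cfsg.Agent.Lib.TensorOrth
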