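import Cfsg.Agent.Lib.TensorOrth.Conj

/-!
Pairings of a pair of pure spaces at a totally singular plane of the second factor: some element outside the
Kronecker group has a degenerate one.
-/

set_option autoImplicit false
set_option linter.unusedSectionVars false

namespace Cfsg.Agent.Lib.TensorOrth

open Matrix Cfsg.Agent.Lib Cfsg.Agent.Lib.TensorMax Cfsg.Agent.Lib.TensorForm

variable {F : Type*} [Field F] {a b : ℕ}

/-- An orthogonal pair of independent singular vectors. -/
structure IsPlane (fW : (Fin b → F) → (Fin b → F) → F) (c d : Fin b → F) : Prop where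
  ne : c ≠ 0
  cc : fW c c = 0
  dd : fW d d = 0
  cd : fW c d = 0
  indep : d ∉ F ∙ c

/-- Two pure spaces as one map. -/
def pl2 (a : ℕ) (c d : Fin b → F) : (Fin a → F) × (Fin a → F) →ₗ[F] Matrix (Fin a) (Fin b) F :=
  (pl a c).coprod (pl a d)

theorem pl2_apply (c d : Fin b → F) (x : (Fin a → F) × (Fin a → F)) :
    pl2 a c d x = vecMulVec x.1 c + vecMulVec x.2 d := rfl

/-- The pairing of a map with two pure spaces. -/
def pim (fW : (Fin b → F) → (Fin b → F) → F) (c d : Fin b → F) (g : GL (Fin a × Fin b) F) :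
    (Fin a → F) × (Fin a → F) →ₗ[F] (Fin a → F) × (Fin a → F) :=
  ((kap fW c).prod (kap fW d)).comp ((op g).comp (pl2 a c d))

theorem pim_apply (fW : (Fin b → F) → (Fin b → F) → F) (c d : Fin b → F) (g : GL (Fin a × Fin b) F)
    (x : (Fin a → F) × (Fin a → F)) :
    pim fW c d g x = (kap fW c (op g (pl2 a c d x)), kap fW d (op g (pl2 a c d x))) := rfl

/-- The dimension of the image of a pairing. -/
noncomputable def rk (fW : (Fin b → F) → (Fin b → F) → F) (c d : Fin b → F) (g : GL (Fin a × Fin b) F) : ℕ :=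
  Module.finrank F (LinearMap.range (pim fW c d g))

theorem rk_lt_of_zero {fW : (Fin b → F) → (Fin b → F) → F} {c d : Fin b → F} {g : GL (Fin a × Fin b) F}
    {x : (Fin a → F) × (Fin a → F)} (hx : x ≠ 0) (h : pim fW c d g x = 0) : rk fW c d g < 2 * a := by
  have h1 := (pim fW c d g).finrank_range_add_finrank_ker
  have h2 : 0 < Module.finrank F (LinearMap.ker (pim fW c d g)) :=
    Module.finrank_pos_iff_exists_ne_zero.2 ⟨⟨x, LinearMap.mem_ker.2 h⟩, fun e => hx (congrArg Subtype.val e)⟩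
  rw [Module.finrank_prod, Module.finrank_fin_fun] at h1
  rw [rk]; omega

/-- Two proper subspaces do not cover. -/
theorem exists_notMem_two {n : ℕ} {P P' : Submodule F (Fin n → F)} (h : P ≠ ⊤) (h' : P' ≠ ⊤) :
    ∃ x, x ∉ P ∧ x ∉ P' := by
  obtain ⟨p, -, hp⟩ := SetLike.exists_of_lt (lt_top_iff_ne_top.2 h)
  obtain ⟨r, -, hr⟩ := SetLike.exists_of_lt (lt_top_iff_ne_top.2 h')
  by_cases hp' : p ∈ P'
  swap
  · exact ⟨p, hp, hp'⟩
  by_cases hr' : r ∈ P
  swap
  · exact ⟨r, hr', hr⟩
  exact ⟨p + r, fun e => hp (by simpa using P.sub_mem e hr'), fun e => hr (by simpa using P'.sub_mem e hp')⟩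

namespace OOSetup

variable {fU : (Fin a → F) → (Fin a → F) → F} {fW : (Fin b → F) → (Fin b → F) → F}
  {Q : QuadraticForm F (Fin a × Fin b → F)} {M : Subgroup (GL (Fin a × Fin b) F)}
  (S : OOSetup fU fW Q M)
include S

theorem dc {c d : Fin b → F} (P : IsPlane fW c d) : fW d c = 0 := by rw [S.symW.symm c d]; exact P.cd

theorem kap_pl2 {c d : Fin b → F} (P : IsPlane fW c d) (x : (Fin a → F) × (Fin a → F)) :
    kap fW c (pl2 a c d x) = 0 ∧ kap fW d (pl2 a c d x) = 0 := by
  simp only [pl2_apply, map_add, S.kap_pure, P.cc, P.dd, P.cd, S.dc P, zero_smul, add_zero, and_self]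

theorem pl2_injective [Finite F] {c d : Fin b → F} (P : IsPlane fW c d) : Function.Injective (pl2 a c d) := by
  obtain ⟨e, e', h11, h12, h21, h22⟩ := S.exists_pair_duals P.ne P.indep
  intro x x' h
  have h1 := congrArg (kap fW e) h
  have h2 := congrArg (kap fW e') h
  simp only [pl2_apply, map_add, S.kap_pure] at h1 h2
  simp only [S.symW.symm e c, S.symW.symm e d, S.symW.symm e' c, S.symW.symm e' d, h11, h12, h21, h22, one_smul,
    zero_smul, add_zero, zero_add] at h1 h2
  exact Prod.ext h1 h2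

variable [Finite F]

theorem exists_plane : ∃ c d, IsPlane fW c d := by
  have hb := S.five_le
  obtain ⟨c, -, hc0, hc⟩ := S.symW.exists_sing (K := ⊤) (by rw [finrank_top, Module.finrank_fin_fun]; omega)
  obtain ⟨c', -, hcc'⟩ := S.symW.exists_partner_self hc0 hc
  obtain ⟨d, hd, hd0, hdd⟩ := S.symW.exists_sing
    (K := LinearMap.ker (dots ![cov fW c, cov fW c'])) (by
      have h1 := (dots ![cov fW c, cov fW c'] : (Fin b → F) →ₗ[F] _).finrank_range_add_finrank_ker
      have h2 := Submodule.finrank_le (LinearMap.range (dots ![cov fW c, cov fW c'] : (Fin b → F) →ₗ[F] _))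
      rw [Module.finrank_fin_fun] at h1 h2
      omega)
  rw [LinearMap.mem_ker] at hd
  have e1 : fW d c = 0 := by
    rw [← S.symW.form.dot_cov, dotProduct_comm]; exact congrFun hd 0
  have e2 : fW d c' = 0 := by
    rw [← S.symW.form.dot_cov, dotProduct_comm]; exact congrFun hd 1
  refine ⟨c, d, hc0, hc, hdd, by rw [S.symW.symm d c]; exact e1, fun hmem => ?_⟩
  obtain ⟨t, rfl⟩ := Submodule.mem_span_singleton.1 hmem
  rw [S.symW.form.smul_left, hcc', mul_one] at e2
  exact hd0 (by rw [e2, zero_smul])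

/-- A Kronecker involution-like element whose image shifted by one is small acts on the second factor only. -/
theorem left_scalar_of_small {A : Matrix (Fin a) (Fin a) F} {C : Matrix (Fin b) (Fin b) F} {N : ℕ}
    (hN : N ≤ a) (L : Matrix (Fin a) (Fin b) F →ₗ[F] Matrix (Fin a) (Fin b) F)
    (hL : ∀ u e, L (vecMulVec u e) = vecMulVec (A *ᵥ u) (C *ᵥ e) + vecMulVec u e)
    (hdim : Module.finrank F (LinearMap.range L) ≤ N) :
    (∀ u, ∃ t : F, A *ᵥ u = t • u) ∨ ∀ e, ∃ t : F, C *ᵥ e = t • e := by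
  by_contra hno
  push Not at hno
  obtain ⟨⟨u, hu⟩, e, he⟩ := hno
  have hCe : C *ᵥ e ∉ F ∙ e := fun h => by
    obtain ⟨t, ht⟩ := Submodule.mem_span_singleton.1 h
    exact he t ht.symm
  have hAu : A *ᵥ u ∉ F ∙ u := fun h => by
    obtain ⟨t, ht⟩ := Submodule.mem_span_singleton.1 h
    exact hu t ht.symm
  obtain ⟨φ, hφe, hφC⟩ := exists_sep hCe
  have he0 : e ≠ 0 := fun e0 => he 0 (by rw [e0, mulVec_zero, smul_zero])
  have hinj : Function.Injective (L.comp (pl a e)) := by
    refine LinearMap.ker_eq_bot.1 (LinearMap.ker_eq_bot'.2 fun x hx => ?_)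
    have hx' := hx
    rw [LinearMap.comp_apply, pl_apply, hL] at hx'
    have h1 := congrArg (fun Z => Z *ᵥ φ) hx'
    simp only [add_mulVec, pure_mulVec, hφC, hφe _ (Submodule.mem_span_singleton_self e), one_smul, zero_smul,
      add_zero, zero_mulVec] at h1
    rw [h1, pure_zero_left, zero_add] at hx'
    exact pl_injective he0 (hx'.trans (map_zero (pl a e)).symm)
  have heq : LinearMap.range (L.comp (pl a e)) = LinearMap.range L :=
    Submodule.eq_of_le_of_finrank_le (LinearMap.range_comp_le_range _ _) (by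
      rw [LinearMap.finrank_range_of_inj hinj, Module.finrank_fin_fun]; omega)
  -- another vector moved out of the plane of `e`
  obtain ⟨p, hp⟩ : ∃ p, p ∉ F ∙ e ⊔ F ∙ (C *ᵥ e) := by
    by_contra hall
    push Not at hall
    have h1 := Submodule.finrank_mono (show (⊤ : Submodule F (Fin b → F)) ≤ F ∙ e ⊔ F ∙ (C *ᵥ e) from fun x _ => hall x)
    have h2 := Submodule.finrank_add_le_finrank_add_finrank (F ∙ e) (F ∙ (C *ᵥ e))
    have h3 : Module.finrank F (F ∙ e) ≤ 1 := (finrank_span_le_card ({e} : Set (Fin b → F))).trans (by simp)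
    have h4 : Module.finrank F (F ∙ (C *ᵥ e)) ≤ 1 :=
      (finrank_span_le_card ({C *ᵥ e} : Set (Fin b → F))).trans (by simp)
    rw [finrank_top, Module.finrank_fin_fun] at h1
    have := S.five_le
    omega
  obtain ⟨e', he', hCe'⟩ : ∃ e', e' ∉ F ∙ e ⊔ F ∙ (C *ᵥ e) ∧ C *ᵥ e' ∉ F ∙ e' := by
    by_cases hCp : C *ᵥ p ∈ F ∙ p
    swap
    · exact ⟨p, hp, hCp⟩
    have hmem : e ∈ F ∙ e ⊔ F ∙ (C *ᵥ e) := Submodule.mem_sup_left (Submodule.mem_span_singleton_self e)
    refine ⟨e + p, fun h => hp (by simpa using Submodule.sub_mem _ h hmem), fun h => ?_⟩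
    obtain ⟨l, hl⟩ := Submodule.mem_span_singleton.1 hCp
    obtain ⟨t, ht⟩ := Submodule.mem_span_singleton.1 h
    rw [mulVec_add, ← hl] at ht
    by_cases hlt : t = l
    · exact he t (by rw [hlt] at ht ⊢; linear_combination (norm := module) -ht)
    · refine hp (Submodule.mem_sup.2 ⟨-(t - l)⁻¹ • t • e, ?_, (t - l)⁻¹ • (C *ᵥ e), ?_, ?_⟩)
      · exact Submodule.smul_mem _ _ (Submodule.smul_mem _ _ (Submodule.mem_span_singleton_self e))
      · exact Submodule.smul_mem _ _ (Submodule.mem_span_singleton_self _)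
      · rw [← inv_smul_smul₀ (sub_ne_zero.2 hlt) p,
          show (t - l) • p = C *ᵥ e - t • e by linear_combination (norm := module) ht]
        module
  obtain ⟨x, hx⟩ : L (vecMulVec u e') ∈ LinearMap.range (L.comp (pl a e)) := heq ▸ ⟨_, rfl⟩
  rw [LinearMap.comp_apply, pl_apply, hL, hL] at hx
  obtain ⟨ψ, hψu, hψA⟩ := exists_sep hAu
  have hu' : u ∉ F ∙ (A *ᵥ u) := fun h => by
    obtain ⟨t, ht⟩ := Submodule.mem_span_singleton.1 h
    rcases eq_or_ne t 0 with rfl | ht0
    · rw [zero_smul] at ht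
      exact hAu (by rw [← ht, mulVec_zero]; exact Submodule.zero_mem _)
    · exact hu t⁻¹ (by rw [eq_inv_smul_iff₀ ht0]; exact ht)
  obtain ⟨χ, hχA, hχu⟩ := exists_sep hu'
  have h2 := congrArg (fun Z => χ ᵥ* Z) hx
  simp only [vecMul_add, vecMul_pure, dotProduct_comm χ (A *ᵥ u), dotProduct_comm χ u,
    hχA _ (Submodule.mem_span_singleton_self _), hχu, zero_smul, one_smul, zero_add] at h2
  refine he' ?_
  rw [← h2]
  exact Submodule.add_mem _
    (Submodule.mem_sup_right (Submodule.smul_mem _ _ (Submodule.mem_span_singleton_self _)))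
    (Submodule.mem_sup_left (Submodule.smul_mem _ _ (Submodule.mem_span_singleton_self _)))

/-- A Kronecker unipotent with a small image acts on the second factor only. -/
theorem left_scalar_of_unipotent {p : ℕ} [Fact p.Prime] [CharP F p] (hab : a < b)
    {y : GL (Fin a × Fin b) F} (hy : y ∈ M) {A : Matrix (Fin a) (Fin a) F} {C : GL (Fin b) F}
    (hpure : ∀ u e, op y (vecMulVec u e) = vecMulVec (A *ᵥ u) ((C : Matrix (Fin b) (Fin b) F) *ᵥ e))
    (hop : ∀ X, op y X = A * X * (C : Matrix (Fin b) (Fin b) F)ᵀ) (hyp : y ^ p = 1)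
    (hdim : Module.finrank F (LinearMap.range (op y - LinearMap.id)) ≤ 2 * a) :
    ∀ u, ∃ t : F, A *ᵥ u = t • u := by
  classical
  by_contra hno
  push Not at hno
  obtain ⟨u, hu⟩ := hno
  have hu0 : u ≠ 0 := fun e0 => hu 0 (by rw [e0, mulVec_zero, smul_zero])
  obtain ⟨g₀, -, hg₀⟩ : ∃ e : Fin b → F, True ∧ e ≠ 0 :=
    ⟨Pi.single ⟨0, by have := S.five_le; omega⟩ 1, trivial, by simp⟩
  -- at most one eigenvalue
  have hone : ∀ l l' : F, ∀ x x' : Fin a → F, x ≠ 0 → x' ≠ 0 → A *ᵥ x = l • x → A *ᵥ x' = l' • x' → l = l' := by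
    intro l l' x x' hx0 hx0' hx hx'
    have hpow : ∀ (k : ℕ) (m : F) (z : Fin a → F), A *ᵥ z = m • z → ∀ e,
        op (y ^ k) (vecMulVec z e) = m ^ k • vecMulVec z (((C : Matrix (Fin b) (Fin b) F) ^ k) *ᵥ e) := by
      intro k m z hz
      induction k with
      | zero => intro e; rw [pow_zero, op_one, pow_zero, pow_zero, one_mulVec, one_smul]
      | succ k ih =>
        intro e
        rw [pow_succ, op_mul, hpure, hz, pure_smul_left, map_smul, ih, smul_smul, mulVec_mulVec, ← pow_succ,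
          ← pow_succ']
    have key : ∀ m z, z ≠ 0 → A *ᵥ z = m • z →
        m ^ p • (((C : Matrix (Fin b) (Fin b) F) ^ p) *ᵥ g₀) = g₀ := fun m z hz0 hz => by
      have h := hpow p m z hz g₀
      rw [hyp, op_one] at h
      obtain ⟨φ, hφ⟩ := exists_dot_one hz0
      have h' := congrArg (fun Z => φ ᵥ* Z) h
      simpa [vecMul_pure, vecMul_smul, dotProduct_comm φ, hφ] using h'.symm
    have hll : l ^ p = l' ^ p := by
      have h := (key l x hx0 hx).trans (key l' x' hx0' hx').symm
      refine smul_left_injective F (fun e0 => hg₀ ?_) h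
      rw [← key l x hx0 hx, e0, smul_zero]
    exact frobenius_inj F p hll
  obtain ⟨E, hE, hEu⟩ : ∃ E : Submodule F (Fin a → F),
      (∀ (x : Fin a → F) (l : F), A *ᵥ x = l • x → x ∈ E) ∧ ∃ l : F, ∀ x ∈ E, A *ᵥ x = l • x := by
    by_cases h : ∃ (x : Fin a → F) (l : F), x ≠ 0 ∧ A *ᵥ x = l • x
    · obtain ⟨x₀, l, hx0, hx⟩ := h
      refine ⟨LinearMap.ker (Matrix.mulVecLin A - l • LinearMap.id), fun x l' hx' => ?_, l, fun x hx' => ?_⟩
      · rw [LinearMap.mem_ker, LinearMap.sub_apply, LinearMap.smul_apply, LinearMap.id_apply, mulVecLin_apply]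
        by_cases hx0' : x = 0
        · rw [hx0', mulVec_zero, smul_zero, sub_zero]
        · rw [hx', hone l l' x₀ x hx0 hx0' hx hx', sub_self]
      · rw [LinearMap.mem_ker, LinearMap.sub_apply, LinearMap.smul_apply, LinearMap.id_apply, mulVecLin_apply,
          sub_eq_zero] at hx'
        exact hx'
    · push Not at h
      exact ⟨⊥, fun x l hx => (Submodule.mem_bot F).2 (by_contra fun h0 => h x l h0 hx), 0,
        fun x hx => by rw [(Submodule.mem_bot F).1 hx, mulVec_zero, smul_zero]⟩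
  obtain ⟨l, hl⟩ := hEu
  have hAu : F ∙ u ⊔ F ∙ (A *ᵥ u) ≠ ⊤ := fun e => by
    have h1 := Submodule.finrank_add_le_finrank_add_finrank (F ∙ u) (F ∙ (A *ᵥ u))
    have h3 : Module.finrank F (F ∙ u) ≤ 1 := (finrank_span_le_card ({u} : Set (Fin a → F))).trans (by simp)
    have h4 : Module.finrank F (F ∙ (A *ᵥ u)) ≤ 1 :=
      (finrank_span_le_card ({A *ᵥ u} : Set (Fin a → F))).trans (by simp)
    rw [e, finrank_top, Module.finrank_fin_fun] at h1
    have := S.three_le
    omega
  by_cases hEt : E ⊔ F ∙ u = ⊤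
  · -- a scaled transvection
    have huE : u ∉ E := fun h => hu l (hl u h)
    obtain ⟨φ, hφE, hφu⟩ := exists_sep huE
    set v := A *ᵥ u - l • u with hv
    have hA : ∀ x, A *ᵥ x = l • x + (x ⬝ᵥ φ) • v := fun x => by
      obtain ⟨x₀, hx₀, w, hw, rfl⟩ := Submodule.mem_sup.1 (hEt ▸ Submodule.mem_top (x := x) : x ∈ E ⊔ F ∙ u)
      obtain ⟨s, rfl⟩ := Submodule.mem_span_singleton.1 hw
      rw [mulVec_add, mulVec_smul, hl x₀ hx₀, add_dotProduct, smul_dotProduct, hφE x₀ hx₀, hφu, smul_eq_mul, mul_one,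
        zero_add, hv]
      module
    have hv0 : v ≠ 0 := fun e0 => hu l (sub_eq_zero.1 (hv ▸ e0))
    have hvφ : v ⬝ᵥ φ = 0 := by
      by_contra hne
      obtain ⟨x, hx, hx'⟩ := Submodule.exists_mem_ne_zero_of_ne_bot (show E ≠ ⊥ from fun e => by
        rw [e, bot_sup_eq] at hEt
        exact hAu (by rw [hEt, top_sup_eq]))
      have hv' : A *ᵥ v = (l + v ⬝ᵥ φ) • v := by rw [hA, add_smul]
      have := hone l (l + v ⬝ᵥ φ) x v hx' hv0 (hl x hx) hv'
      exact hne (by linear_combination -this)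
    obtain ⟨z, -, hz0, hz⟩ := S.symW.exists_sing (K := ⊤) (by
      rw [finrank_top, Module.finrank_fin_fun]; have := S.five_le; omega)
    obtain ⟨e, -, hee⟩ := S.symW.exists_aniso_orth (by have := S.five_le; omega) hz0 hz
    set μ := fW ((C : Matrix (Fin b) (Fin b) F) *ᵥ e) ((C : Matrix (Fin b) (Fin b) F) *ᵥ e)
    have hiso : ∀ x x', μ * fU (A *ᵥ x) (A *ᵥ x') = fW e e * fU x x' := fun x x' => by
      have h := S.iso hy (vecMulVec x e) (vecMulVec x' e)
      rwa [hpure, hpure, S.B_pure_pure, S.B_pure_pure] at h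
    have hEnd : ∃ x ∈ E, ∃ x' ∈ E, fU x x' ≠ 0 := by
      by_contra hall
      push Not at hall
      -- a totally singular hyperplane
      obtain ⟨w, hw0, hw1⟩ := S.symU.exists_dual_out huE
      have hwu : ∀ x, fU w x = x ⬝ᵥ φ := fun x => by
        obtain ⟨x₀, hx₀, p, hp, rfl⟩ := Submodule.mem_sup.1 (hEt ▸ Submodule.mem_top (x := x) : x ∈ E ⊔ F ∙ u)
        obtain ⟨s, rfl⟩ := Submodule.mem_span_singleton.1 hp
        rw [S.symU.form.add_right, S.symU.smul_right, hw0 x₀ hx₀, hw1, add_dotProduct, smul_dotProduct,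
          hφE x₀ hx₀, hφu, smul_eq_mul]
      have hEw : E ≤ F ∙ w := fun x hx => by
        refine Submodule.mem_span_singleton.2 ⟨fU x u, S.symU.ext fun t => ?_⟩
        obtain ⟨x₀, hx₀, p, hp, rfl⟩ := Submodule.mem_sup.1 (hEt ▸ Submodule.mem_top (x := t) : t ∈ E ⊔ F ∙ u)
        obtain ⟨s, rfl⟩ := Submodule.mem_span_singleton.1 hp
        rw [S.symU.form.smul_left, S.symU.form.add_right, S.symU.form.add_right, S.symU.smul_right, S.symU.smul_right,
          hall x hx x₀ hx₀, hw0 x₀ hx₀, hw1]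
        ring
      have h1 := Submodule.finrank_add_le_finrank_add_finrank E (F ∙ u)
      rw [hEt, finrank_top, Module.finrank_fin_fun] at h1
      have h2 := Submodule.finrank_mono hEw
      have h3 : Module.finrank F (F ∙ w) ≤ 1 := (finrank_span_le_card ({w} : Set (Fin a → F))).trans (by simp)
      have h4 : Module.finrank F (F ∙ u) ≤ 1 := (finrank_span_le_card ({u} : Set (Fin a → F))).trans (by simp)
      have := S.three_le
      omega
    obtain ⟨x, hx, x', hx', hxx⟩ := hEnd
    have hμl : μ * (l * l) = fW e e := by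
      have h := hiso x x'
      rw [hl x hx, hl x' hx', S.symU.form.smul_left, S.symU.smul_right] at h
      exact mul_right_cancel₀ hxx (by linear_combination h)
    have hexp : ∀ x x', l * (x ⬝ᵥ φ) * fU v x' + l * (x' ⬝ᵥ φ) * fU x v
        + (x ⬝ᵥ φ) * (x' ⬝ᵥ φ) * fU v v = 0 := fun x x' => by
      have h := hiso x x'
      rw [hA, hA, S.symU.form.add_left, S.symU.form.add_right, S.symU.form.add_right, S.symU.form.smul_left,
        S.symU.form.smul_left, S.symU.form.smul_left, S.symU.form.smul_left, S.symU.smul_right, S.symU.smul_right,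
        S.symU.smul_right, S.symU.smul_right, ← hμl] at h
      refine mul_left_cancel₀ (show μ ≠ 0 from fun e0 => hee (by rw [← hμl, e0, zero_mul])) ?_
      linear_combination h
    have hl0 : l ≠ 0 := fun e0 => hee (by rw [← hμl, e0, mul_zero, mul_zero])
    have h1 : ∀ t, fU v t = -((t ⬝ᵥ φ) * fU v u) - (t ⬝ᵥ φ) * fU v v / l := fun t => by
      have h := hexp u t
      rw [hφu, S.symU.symm v u] at h
      field_simp
      linear_combination h
    have hvv : fU v v = 0 := by rw [h1 v, hvφ]; ring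
    have hvu : fU v u = 0 := by
      have h := h1 u
      rw [hφu, hvv] at h
      exact (mul_eq_zero.1 (show 2 * fU v u = 0 by linear_combination h)).resolve_left S.two
    exact hv0 (S.symU.ext fun t => by rw [h1 t, hvv, hvu, S.symU.form.zero_left]; ring)
  -- a plane without invariant lines
  obtain ⟨u', hu'E, hu'A⟩ := exists_notMem_two hEt hAu
  let T : (Fin b → F) × (Fin b → F) →ₗ[F] Matrix (Fin a) (Fin b) F :=
    (plL b u).coprod (plL b u')
  have hT : Function.Injective ((op y - LinearMap.id).comp T) := by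
    refine LinearMap.ker_eq_bot.1 (LinearMap.ker_eq_bot'.2 fun x hx => ?_)
    obtain ⟨x₁, x₂⟩ := x
    set X := vecMulVec u x₁ + vecMulVec u' x₂ with hX
    rw [LinearMap.comp_apply, LinearMap.sub_apply, LinearMap.id_apply, sub_eq_zero,
      show T (x₁, x₂) = X from rfl, hop] at hx
    have hTmem : ∀ ψ, X *ᵥ ψ ∈ F ∙ u ⊔ F ∙ u' := fun ψ => by
      rw [hX, add_mulVec, pure_mulVec, pure_mulVec]
      exact Submodule.add_mem_sup (Submodule.smul_mem _ _ (Submodule.mem_span_singleton_self u))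
        (Submodule.smul_mem _ _ (Submodule.mem_span_singleton_self u'))
    have hinv : ∀ ψ, ∃ χ, A *ᵥ (X *ᵥ ψ) = X *ᵥ χ := fun ψ => by
      refine ⟨((C⁻¹ : GL (Fin b) F) : Matrix (Fin b) (Fin b) F)ᵀ *ᵥ ψ, ?_⟩
      conv_rhs => rw [← hx]
      rw [mulVec_mulVec, mulVec_mulVec, Matrix.mul_assoc (A * X), ← transpose_mul, ← Units.val_mul, inv_mul_cancel,
        Units.val_one, transpose_one, Matrix.mul_one]
    have hX0 : ∀ ψ, X *ᵥ ψ = 0 := by
      intro ψ
      by_contra hne
      obtain ⟨χ, hχ⟩ := hinv ψ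
      obtain ⟨s, r, hsr⟩ : ∃ s r : F, X *ᵥ ψ = s • u + r • u' :=
        ⟨x₁ ⬝ᵥ ψ, x₂ ⬝ᵥ ψ, by rw [hX, add_mulVec, pure_mulVec, pure_mulVec]⟩
      by_cases heig : ∃ t : F, A *ᵥ (X *ᵥ ψ) = t • (X *ᵥ ψ)
      · obtain ⟨t, ht⟩ := heig
        have hmem := hE _ t ht
        by_cases hr : r = 0
        · rw [hr, zero_smul, add_zero] at hsr
          rw [hsr] at hne hmem
          have hs : s ≠ 0 := fun e0 => hne (by rw [e0, zero_smul])
          exact hu l (hl u (by simpa [hs] using E.smul_mem s⁻¹ hmem))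
        · refine hu'E (Submodule.mem_sup.2 ⟨r⁻¹ • (X *ᵥ ψ), E.smul_mem _ hmem, (-(r⁻¹ * s)) • u,
            Submodule.smul_mem _ _ (Submodule.mem_span_singleton_self u), ?_⟩)
          rw [hsr, smul_add, smul_smul, smul_smul, inv_mul_cancel₀ hr, one_smul]
          module
      push Not at heig
      let S₂ : Submodule F (Fin a → F) := LinearMap.range (Matrix.mulVecLin X)
      have hle : S₂ ≤ F ∙ u ⊔ F ∙ u' := by rintro _ ⟨ξ, rfl⟩; exact hTmem ξ
      have hli : LinearIndependent F ![X *ᵥ ψ, A *ᵥ (X *ᵥ ψ)] := by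
        rw [LinearIndependent.pair_iff' hne]
        exact fun t e => heig t e.symm
      have h2 : 2 ≤ Module.finrank F S₂ := by
        have := Submodule.finrank_mono (show Submodule.span F (Set.range ![X *ᵥ ψ, A *ᵥ (X *ᵥ ψ)]) ≤ S₂ by
          rw [Submodule.span_le]
          rintro _ ⟨i, rfl⟩
          fin_cases i
          · exact ⟨ψ, rfl⟩
          · exact ⟨χ, hχ.symm⟩)
        rwa [finrank_span_eq_card hli, Fintype.card_fin] at this
      have heq : S₂ = F ∙ u ⊔ F ∙ u' := Submodule.eq_of_le_of_finrank_le hle (by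
        have h1 := Submodule.finrank_add_le_finrank_add_finrank (F ∙ u) (F ∙ u')
        have h3 : Module.finrank F (F ∙ u) ≤ 1 := (finrank_span_le_card ({u} : Set (Fin a → F))).trans (by simp)
        have h4 : Module.finrank F (F ∙ u') ≤ 1 := (finrank_span_le_card ({u'} : Set (Fin a → F))).trans (by simp)
        omega)
      obtain ⟨ξ, hξ⟩ : u ∈ S₂ := heq ▸ Submodule.mem_sup_left (Submodule.mem_span_singleton_self u)
      obtain ⟨χ', hχ'⟩ := hinv ξ
      have hAmem : A *ᵥ u ∈ F ∙ u ⊔ F ∙ u' := by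
        rw [show u = X *ᵥ ξ from hξ.symm] at ⊢
        rw [hχ']
        have := hTmem χ'
        rwa [show X *ᵥ ξ = u from hξ]
      obtain ⟨p₁, hp₁, p₂, hp₂, hsum⟩ := Submodule.mem_sup.1 hAmem
      obtain ⟨s₁, rfl⟩ := Submodule.mem_span_singleton.1 hp₁
      obtain ⟨s₂, rfl⟩ := Submodule.mem_span_singleton.1 hp₂
      by_cases hs₂ : s₂ = 0
      · exact hu s₁ (by rw [← hsum, hs₂, zero_smul, add_zero])
      · refine hu'A (Submodule.mem_sup.2 ⟨(-(s₂⁻¹ * s₁)) • u, Submodule.smul_mem _ _ (Submodule.mem_span_singleton_self u),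
          s₂⁻¹ • (A *ᵥ u), Submodule.smul_mem _ _ (Submodule.mem_span_singleton_self _), ?_⟩)
        rw [← hsum, smul_add, smul_smul, smul_smul, inv_mul_cancel₀ hs₂, one_smul]
        module
    have hXz : X = 0 := Matrix.ext_iff_mulVec.2 fun ψ => by rw [hX0, zero_mulVec]
    obtain ⟨φ₁, hφ₁, hφ₁u⟩ := exists_sep (T := F ∙ u') (x := u) fun h => by
      obtain ⟨t, ht⟩ := Submodule.mem_span_singleton.1 h
      have ht0 : t ≠ 0 := fun e0 => hu0 (by rw [← ht, e0, zero_smul])
      exact hu'A (Submodule.mem_sup_left (Submodule.mem_span_singleton.2 ⟨t⁻¹, by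
        rw [← ht, smul_smul, inv_mul_cancel₀ ht0, one_smul]⟩))
    obtain ⟨φ₂, hφ₂, hφ₂u⟩ := exists_sep (T := F ∙ u) (x := u')
      fun h => hu'A (Submodule.mem_sup_left h)
    have e1 := congrArg (fun Z => φ₁ ᵥ* Z) hXz
    have e2 := congrArg (fun Z => φ₂ ᵥ* Z) hXz
    simp only [hX, vecMul_add, vecMul_pure, dotProduct_comm φ₁, dotProduct_comm φ₂, hφ₁u, hφ₂u,
      hφ₁ _ (Submodule.mem_span_singleton_self u'), hφ₂ _ (Submodule.mem_span_singleton_self u), one_smul, zero_smul,
      add_zero, zero_add, vecMul_zero] at e1 e2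
    exact Prod.ext e1 e2
  have h1 := Submodule.finrank_mono (LinearMap.range_comp_le_range T (op y - LinearMap.id))
  rw [LinearMap.finrank_range_of_inj hT, Module.finrank_prod, Module.finrank_fin_fun] at h1
  omega

end OOSetup

end Cfsg.Agent.Lib.TensorOrth
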