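import Cfsg.Agent.Lib.TensorOrth.Space2

/-!
A self-adjoint map commuting with its conjugates under Siegel maps is scalar.
-/

set_option autoImplicit false
set_option linter.unusedSectionVars false

namespace Cfsg.Agent.Lib.TensorOrth

open Matrix Cfsg.Agent.Lib Cfsg.Agent.Lib.TensorMax Cfsg.Agent.Lib.TensorForm

variable {F : Type*} [Field F] {n : ℕ}

/-- `q = 3` if it is odd and less than `5`. -/
theorem card_three [Finite F] (h2 : (2 : F) ≠ 0) (h5 : ¬ 5 ≤ Nat.card F) : Nat.card F = 3 := by
  obtain ⟨p, hp⟩ := CharP.exists F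
  have hpp : p.Prime := CharP.char_is_prime F p
  have := Fintype.ofFinite F
  obtain ⟨k, hpk, hk⟩ := FiniteField.card F p
  rw [← Nat.card_eq_fintype_card] at hk
  have hp2 : p ≠ 2 := fun e => h2 (by subst e; exact_mod_cast (CharP.cast_eq_zero F 2))
  have hp3 : 3 ≤ p := by have := hpp.two_le; omega
  have hle : p ≤ p ^ (k : ℕ) := Nat.le_self_pow k.ne_zero p
  have : p = 3 := by
    rcases (show p = 3 ∨ p = 4 by omega) with h | h
    · exact h
    · subst h; norm_num at hpp
  subst this
  rcases Nat.lt_or_ge (k : ℕ) 2 with hk2 | hk2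
  · have : (k : ℕ) = 1 := by have := k.pos; omega
    rw [hk, this, pow_one]
  · have := Nat.pow_le_pow_right (show 1 ≤ 3 by omega) hk2
    omega

theorem exists_square_ne_one [Finite F] (h5 : 5 ≤ Nat.card F) : ∃ t : F, t ≠ 0 ∧ t * t ≠ 1 := by
  classical
  have := Fintype.ofFinite F
  obtain ⟨ν, -, hν⟩ := Finset.exists_mem_notMem_of_card_lt_card
    (show ({0, 1, -1} : Finset F).card < (Finset.univ : Finset F).card by
      have h3 : ({0, 1, -1} : Finset F).card ≤ 3 := Finset.card_le_three
      rw [Finset.card_univ, ← Nat.card_eq_fintype_card]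
      omega)
  simp only [Finset.mem_insert, Finset.mem_singleton, not_or] at hν
  refine ⟨ν, hν.1, fun e => ?_⟩
  rcases mul_self_eq_one_iff.1 e with h | h
  · exact hν.2.1 h
  · exact hν.2.2 h

namespace IsSym

variable {f : (Fin n → F) → (Fin n → F) → F} (hf : IsSym f)
include hf

/-- The second difference of the conjugates by opposite Siegel maps. -/
def secd (z : Fin n → F) (N : (Fin n → F) →ₗ[F] (Fin n → F)) (w : Fin n → F) :
    (Fin n → F) →ₗ[F] (Fin n → F) :=
  (sieg hf z w).comp (N.comp (sieg hf z (-w))) + (sieg hf z (-w)).comp (N.comp (sieg hf z w)) - (2 : F) • N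

theorem secd_scale (z : Fin n → F) (N : (Fin n → F) →ₗ[F] (Fin n → F)) (w : Fin n → F) (t : F) :
    hf.secd z N (t • w) - (t * t) • hf.secd z N w =
      (2 * ((t * t) * (t * t) - t * t) * ((f w w / 2) * (f w w / 2)) * f (N z) z) • rk1 hf.form z z := by
  refine LinearMap.ext fun x => ?_
  simp only [secd, LinearMap.sub_apply, LinearMap.add_apply, LinearMap.smul_apply, LinearMap.comp_apply, rk1_apply,
    hf.sieg_apply, ← neg_one_smul F (t • w), ← neg_one_smul F w, map_add, map_sub, map_smul, hf.form.add_left,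
    hf.form.add_right, hf.form.sub_left, hf.form.smul_left, hf.smul_right, smul_smul]
  have h2 := hf.two
  match_scalars <;> field_simp <;> ring

theorem secd_twin (z : Fin n → F) (N : (Fin n → F) →ₗ[F] (Fin n → F)) {w v : Fin n → F} (hwv : f w v = 0)
    (he : f v v = f w w) :
    hf.secd z N (w + v) + hf.secd z N (w - v) - (2 : F) • hf.secd z N w - (2 : F) • hf.secd z N v =
      (8 * ((f w w / 2) * (f w w / 2)) * f (N z) z) • rk1 hf.form z z := by
  have hvw : f v w = 0 := by rw [hf.symm w v]; exact hwv
  refine LinearMap.ext fun x => ?_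
  simp only [secd, LinearMap.sub_apply, LinearMap.add_apply, LinearMap.smul_apply, LinearMap.comp_apply, rk1_apply,
    hf.sieg_apply, ← neg_one_smul F (w + v), ← neg_one_smul F (w - v), ← neg_one_smul F w, ← neg_one_smul F v,
    map_add, map_sub, map_smul, hf.form.add_left, hf.form.add_right, hf.form.sub_left, hf.form.sub_right,
    hf.form.smul_left, hf.smul_right, hwv, hvw, he, smul_smul]
  have h2 := hf.two
  match_scalars <;> field_simp <;> ring

variable [Finite F]

theorem exists_aniso_pair (hn : 3 ≤ n) {z z' : Fin n → F} (hz : f z z = 0) (hz' : f z' z' = 0)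
    (hzz' : f z z' = 1) : ∃ w, f w z = 0 ∧ f w z' = 0 ∧ f w w ≠ 0 := by
  by_contra hno
  push Not at hno
  obtain ⟨e, he, he0⟩ := hf.exists_orth ![z, z'] ⊥ (by rw [finrank_bot]; omega)
  refine he0 ((Submodule.mem_bot F).2 (hf.ext fun u => ?_))
  have h0 : f e z = 0 := he 0
  have h1 : f e z' = 0 := he 1
  have hz'z : f z' z = 1 := by rw [hf.symm z z']; exact hzz'
  set u' := u - f u z' • z - f u z • z' with hu'
  have a0 : f u' z = 0 := by simp only [hu', hf.form.sub_left, hf.form.smul_left, hz, hz'z]; ring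
  have a1 : f u' z' = 0 := by simp only [hu', hf.form.sub_left, hf.form.smul_left, hz', hzz']; ring
  have h := hf.polarise (hno e h0 h1) (hno u' a0 a1) (hno _ (by rw [hf.form.add_left, h0, a0, add_zero])
    (by rw [hf.form.add_left, h1, a1, add_zero]))
  simp only [hu', hf.form.sub_right, hf.smul_right, h0, h1, mul_zero, sub_zero] at h
  rw [hf.form.zero_left]; exact h

/-- A self-adjoint map commuting with its conjugates under Siegel maps is scalar. -/
theorem scalar_of_comm (hn : 3 ≤ n) (field : 5 ≤ Nat.card F ∨ 4 ≤ n)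
    (minus : n = 4 → ∀ z y, z ≠ 0 → f z z = 0 → f y y = 0 → f z y = 0 → y ∈ F ∙ z)
    {N : (Fin n → F) →ₗ[F] (Fin n → F)} (hsym : ∀ u v, f (N u) v = f u (N v))
    (hcomm : ∀ z w, z ≠ 0 → f z z = 0 → f z w = 0 →
      ∀ x, N (sieg hf z w (N (sieg hf z (-w) x))) = sieg hf z w (N (sieg hf z (-w) (N x)))) :
    ∃ l : F, ∀ v, N v = l • v := by
  have hphi : ∀ z, z ≠ 0 → f z z = 0 → f (N z) z = 0 := by
    intro z hz0 hz
    by_contra hφ
    obtain ⟨z', hz', hzz'⟩ := hf.exists_partner_self hz0 hz
    obtain ⟨w, hwz, hwz', hw⟩ := hf.exists_aniso_pair hn hz hz' hzz'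
    have hh : f w w / 2 * (f w w / 2) ≠ 0 := mul_ne_zero (div_ne_zero hw hf.two) (div_ne_zero hw hf.two)
    have hNT : ∀ w, f w z = 0 → ∀ x, N (hf.secd z N w x) = hf.secd z N w (N x) := fun w hw x => by
      have hzw : f z w = 0 := by rw [hf.symm w z]; exact hw
      have hzw' : f z (-w) = 0 := by rw [← neg_one_smul F w, hf.smul_right, hzw, mul_zero]
      have h2 := hcomm z (-w) hz0 hz hzw' x
      rw [neg_neg] at h2
      simp only [secd, LinearMap.sub_apply, LinearMap.add_apply, LinearMap.smul_apply, LinearMap.comp_apply, map_add,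
        map_sub, map_smul, hcomm z w hz0 hz hzw x, h2]
    have key : ∀ k : F, k ≠ 0 → (∀ x, N (k • rk1 hf.form z z x) = k • rk1 hf.form z z (N x)) → False := by
      intro k hk h
      have h1 := h z'
      rw [rk1_apply, rk1_apply, map_smul, map_smul, show f z' z = 1 by rw [hf.symm z z']; exact hzz', one_smul] at h1
      have h2 := smul_right_injective _ hk h1
      apply hφ
      rw [h2, hf.form.smul_left, hz, mul_zero]
    by_cases h5 : 5 ≤ Nat.card F
    · obtain ⟨t, ht0, ht⟩ := exists_square_ne_one h5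
      refine key (2 * ((t * t) * (t * t) - t * t) * ((f w w / 2) * (f w w / 2)) * f (N z) z) ?_ fun x => ?_
      · refine mul_ne_zero (mul_ne_zero (mul_ne_zero hf.two ?_) hh) hφ
        rw [← mul_sub_one]
        exact mul_ne_zero (mul_ne_zero ht0 ht0) (sub_ne_zero.2 ht)
      · rw [← LinearMap.smul_apply, ← LinearMap.smul_apply, ← hf.secd_scale]
        simp only [LinearMap.sub_apply, LinearMap.smul_apply, map_sub, map_smul, hNT w hwz,
          hNT (t • w) (by rw [hf.form.smul_left, hwz, mul_zero])]
    · obtain ⟨v, hvz, -, hvw, hvv⟩ := hf.exists_twin (card_three hf.two h5) (field.resolve_left h5) minus hz hz' hzz' hwz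
        hwz' hw
      have hwv : f w v = 0 := by rw [hf.symm v w]; exact hvw
      refine key (8 * ((f w w / 2) * (f w w / 2)) * f (N z) z) ?_ fun x => ?_
      · refine mul_ne_zero (mul_ne_zero ?_ hh) hφ
        rw [show (8 : F) = 2 * 2 * 2 by norm_num]
        exact mul_ne_zero (mul_ne_zero hf.two hf.two) hf.two
      · rw [← LinearMap.smul_apply, ← LinearMap.smul_apply, ← hf.secd_twin z N hwv hvv]
        simp only [LinearMap.sub_apply, LinearMap.add_apply, LinearMap.smul_apply, map_sub, map_add, map_smul,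
          hNT w hwz, hNT v hvz, hNT (w + v) (by rw [hf.form.add_left, hwz, hvz, add_zero]),
          hNT (w - v) (by rw [hf.form.sub_left, hwz, hvz, sub_zero])]
  have heig : ∀ z, z ≠ 0 → f z z = 0 → ∃ l : F, N z = l • z := by
    intro z hz0 hz
    obtain ⟨z', hz', hzz'⟩ := hf.exists_partner_self hz0 hz
    have hz'z : f z' z = 1 := by rw [hf.symm z z']; exact hzz'
    have hz'0 : z' ≠ 0 := fun e => by rw [e, hf.form.zero_right] at hzz'; exact zero_ne_one hzz'
    have hsymm' : ∀ u v, f (N u) v = f (N v) u := fun u v => by rw [hsym u v, hf.symm (N v) u]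
    -- relations on `T`
    have hrel : ∀ w, f w z = 0 → f w z' = 0 →
        f (N z) w = f w w / 2 * f (N z') w ∧ f (N z') w = f w w / 2 * f (N z) w := by
      intro w hwz hwz'
      have hzw : f z w = 0 := by rw [hf.symm w z]; exact hwz
      have hz'w : f z' w = 0 := by rw [hf.symm w z']; exact hwz'
      have key : ∀ a b : Fin n → F, a ≠ 0 → f a a = 0 → f b b = 0 → f a b = 1 → f a w = 0 → f b w = 0 →
          f (N a) a = 0 → f (N b) b = 0 → f (N a) w = f w w / 2 * f (N b) w := by
        intro a b ha0 ha hb hab haw hbw hNa hNb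
        have hba : f b a = 1 := by rw [hf.symm a b]; exact hab
        have hwa : f w a = 0 := by rw [hf.symm a w]; exact haw
        have hwb : f w b = 0 := by rw [hf.symm b w]; exact hbw
        have hq : ∀ s : F, s * s = 1 → f (N (a + s • w - (f w w / 2) • b)) (a + s • w - (f w w / 2) • b) = 0 := by
          intro s hs
          refine hphi _ (fun e => ?_) ?_
          · have h := congrArg (fun x => f x b) e
            simp only [hf.form.sub_left, hf.form.add_left, hf.form.smul_left, hab, hwb, hb, hf.form.zero_left,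
              mul_zero, add_zero, sub_zero] at h
            exact one_ne_zero h
          · simp only [hf.form.sub_left, hf.form.sub_right, hf.form.add_left, hf.form.add_right, hf.form.smul_left,
              hf.smul_right, ha, hb, hab, hba, haw, hbw, hwa, hwb]
            linear_combination (f w w) * hs - div_mul_cancel₀ (f w w) hf.two
        have h1 := hq 1 (mul_one 1)
        have h2 := hq (-1) (by ring)
        simp only [map_sub, map_add, map_smul, hf.form.sub_left, hf.form.sub_right, hf.form.add_left, hf.form.add_right,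
          hf.form.smul_left, hf.smul_right, hNa, hNb, hsymm' w a, hsymm' w b, hsymm' b a] at h1 h2
        refine mul_left_cancel₀ (mul_ne_zero hf.two hf.two) ?_
        linear_combination h1 - h2
      exact ⟨key z z' hz0 hz hz' hzz' hzw hz'w (hphi z hz0 hz) (hphi z' hz'0 hz'),
        key z' z hz'0 hz' hz hz'z hz'w hzw (hphi z' hz'0 hz') (hphi z hz0 hz)⟩
    have hT : ∀ w, f w z = 0 → f w z' = 0 → f (N z) w = 0 := by
      intro w hwz hwz'
      by_cases hw : f w w = 0
      · rw [(hrel w hwz hwz').1, hw, zero_div, zero_mul]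
      by_cases h5 : 5 ≤ Nat.card F
      · obtain ⟨t, ht0, ht⟩ := exists_square_ne_one h5
        have h1 := (hrel w hwz hwz').1
        have h2 := (hrel (t • w) (by rw [hf.form.smul_left, hwz, mul_zero])
          (by rw [hf.form.smul_left, hwz', mul_zero])).1
        simp only [hf.form.smul_left, hf.smul_right] at h2
        have h3 : t * (t * t - 1) * f (N z) w = 0 := by linear_combination (t * t * t) * h1 - h2
        exact (mul_eq_zero.1 h3).resolve_left (mul_ne_zero ht0 (sub_ne_zero.2 ht))
      obtain ⟨v, hvz, hvz', hvw, hvv⟩ :=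
        hf.exists_twin (card_three hf.two h5) (field.resolve_left h5) minus (z := z) (z' := z') hz hz' hzz' hwz hwz' hw
      have hwv : f w v = 0 := by rw [hf.symm v w]; exact hvw
      have e1 := (hrel w hwz hwz').1
      have e2 := (hrel v hvz hvz').1
      have e3 := (hrel (w + v) (by rw [hf.form.add_left, hwz, hvz, add_zero])
        (by rw [hf.form.add_left, hwz', hvz', add_zero])).1
      have e4 := (hrel (w - v) (by rw [hf.form.sub_left, hwz, hvz, sub_zero])
        (by rw [hf.form.sub_left, hwz', hvz', sub_zero])).1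
      simp only [hf.form.add_left, hf.form.sub_left, hf.form.add_right, hf.form.sub_right, hwv, hvw, hvv] at e2 e3 e4
      refine mul_left_cancel₀ hf.two ?_
      linear_combination 4 * e1 - e3 - e4
    refine ⟨f (N z) z', hf.ext fun u => ?_⟩
    set u' := u - f u z' • z - f u z • z' with hu'
    have h := hT u' (by simp only [hu', hf.form.sub_left, hf.form.smul_left, hz, hz'z]; ring)
      (by simp only [hu', hf.form.sub_left, hf.form.smul_left, hz', hzz']; ring)
    simp only [hu', hf.form.sub_right, hf.smul_right, hphi z hz0 hz, mul_zero, sub_zero] at h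
    rw [hf.form.smul_left, hf.symm u z]
    linear_combination h
  obtain ⟨z₀, -, hz₀0, hz₀⟩ := hf.exists_sing (K := ⊤) (by rw [finrank_top, Module.finrank_fin_fun]; exact hn)
  obtain ⟨l, hl⟩ := heig z₀ hz₀0 hz₀
  have hstep : ∀ z z', f z z = 0 → z' ≠ 0 → f z' z' = 0 → f z z' ≠ 0 → N z = l • z → N z' = l • z' := by
    intro z z' _ hz'0 hz' hne hNz
    obtain ⟨m, hm⟩ := heig z' hz'0 hz'
    have h := hsym z z'
    rw [hNz, hm, hf.form.smul_left, hf.smul_right] at h
    rw [hm, mul_right_cancel₀ hne h]
  refine ⟨l, fun v => hf.ext_sing hn (L' := l • LinearMap.id) (fun z hz0 hz => ?_) v⟩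
  obtain ⟨v, hv, hv1, hv2⟩ := hf.exists_sing_both hn hz₀0 hz₀ hz0 hz
  have hv0 : v ≠ 0 := fun e => hv1 (by rw [e, hf.form.zero_left])
  exact hstep v z hv hz0 hz hv2 (hstep z₀ v hz₀ hv0 hv (by rw [hf.symm v z₀]; exact hv1) hl)

end IsSym

end Cfsg.Agent.Lib.TensorOrth
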