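import Cfsg.Agent.Lib.TensorOrth.Stab
import Cfsg.Agent.Lib.TensorOrth.SymComm

/-!
A radical element of a singular pure space that is not Kronecker yields a non-trivial central one.
-/

set_option autoImplicit false
set_option linter.unusedSectionVars false

namespace Cfsg.Agent.Lib.TensorOrth

open Matrix Cfsg.Agent.Lib Cfsg.Agent.Lib.TensorMax Cfsg.Agent.Lib.TensorForm

variable {F : Type*} [Field F] {a b : ℕ}

/-- A radical element at `c`. -/
def Radel (M : Subgroup (GL (Fin a × Fin b) F)) (fW : (Fin b → F) → (Fin b → F) → F) (c : Fin b → F)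
    (γ : Matrix (Fin a) (Fin b) F →ₗ[F] (Fin a → F)) : Prop :=
  ∃ g ∈ M, (∀ x, op g (vecMulVec x c) = vecMulVec x c) ∧
    ∀ X, kap fW c X = 0 → op g X = X + vecMulVec (γ X) c

/-- A central element at `c`. -/
def Cent (M : Subgroup (GL (Fin a × Fin b) F)) (fW : (Fin b → F) → (Fin b → F) → F) (c : Fin b → F)
    (Z : (Fin a → F) →ₗ[F] (Fin a → F)) : Prop :=
  ∃ g ∈ M, ∀ X, op g X = X + vecMulVec (Z (kap fW c X)) c

/-- Some central element is not trivial. -/
def CentNZ (M : Subgroup (GL (Fin a × Fin b) F)) (fW : (Fin b → F) → (Fin b → F) → F) : Prop :=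
  ∃ c, c ≠ 0 ∧ fW c c = 0 ∧ ∃ Z, Z ≠ 0 ∧ Cent M fW c Z

namespace OOSetup

variable {fU : (Fin a → F) → (Fin a → F) → F} {fW : (Fin b → F) → (Fin b → F) → F}
  {Q : QuadraticForm F (Fin a × Fin b → F)} {M : Subgroup (GL (Fin a × Fin b) F)}
  (S : OOSetup fU fW Q M)
include S

theorem kap_fix {g : GL (Fin a × Fin b) F} (hg : g ∈ M) {c : Fin b → F}
    (h : ∀ x, op g (vecMulVec x c) = vecMulVec x c) (X : Matrix (Fin a) (Fin b) F) :
    kap fW c (op g X) = kap fW c X :=
  S.symU.ext fun u => S.kap_of_map hg (α := fun v => v) h X u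

theorem radel_add {c : Fin b → F} {γ γ' : Matrix (Fin a) (Fin b) F →ₗ[F] (Fin a → F)}
    (h : Radel M fW c γ) (h' : Radel M fW c γ') : Radel M fW c (γ + γ') := by
  obtain ⟨g, hg, hf, hγ⟩ := h
  obtain ⟨g', hg', hf', hγ'⟩ := h'
  refine ⟨g * g', M.mul_mem hg hg', fun x => by rw [op_mul, hf', hf], fun X hX => ?_⟩
  rw [op_mul, hγ' X hX, map_add, hγ X hX, hf, LinearMap.add_apply, pure_add_left]
  abel

theorem radel_neg {c : Fin b → F} {γ : Matrix (Fin a) (Fin b) F →ₗ[F] (Fin a → F)}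
    (h : Radel M fW c γ) : Radel M fW c (-γ) := by
  obtain ⟨g, hg, hf, hγ⟩ := h
  refine ⟨g⁻¹, M.inv_mem hg, fun x => by conv_lhs => rw [← hf x, op_inv_op], fun X hX => ?_⟩
  refine op_injective g ?_
  rw [op_op_inv, map_add, hγ X hX, hf, LinearMap.neg_apply, pure_neg_left, add_neg_cancel_right]

theorem radel_congr {c : Fin b → F} {γ γ' : Matrix (Fin a) (Fin b) F →ₗ[F] (Fin a → F)}
    (h : Radel M fW c γ) (e : ∀ X, kap fW c X = 0 → γ X = γ' X) : Radel M fW c γ' := by
  obtain ⟨g, hg, hf, hγ⟩ := h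
  exact ⟨g, hg, hf, fun X hX => by rw [hγ X hX, e X hX]⟩

theorem radel_conj {k : GL (Fin a × Fin b) F} (hk : k ∈ M) {c : Fin b → F}
    {α : (Fin a → F) →ₗ[F] (Fin a → F)} (hα : IsIso fU α)
    (hkc : ∀ u, op k (vecMulVec u c) = vecMulVec (α u) c)
    {γ : Matrix (Fin a) (Fin b) F →ₗ[F] (Fin a → F)} (h : Radel M fW c γ) :
    Radel M fW c (α.comp (γ.comp (op k⁻¹))) := by
  obtain ⟨g, hg, hf, hγ⟩ := h
  have hsur : Function.Surjective α := LinearMap.injective_iff_surjective.1 (S.symU.injective' hα)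
  refine ⟨k * g * k⁻¹, M.mul_mem (M.mul_mem hk hg) (M.inv_mem hk), fun x => ?_, fun X hX => ?_⟩
  · obtain ⟨y, rfl⟩ := hsur x
    rw [op_mul, op_mul, ← hkc, op_inv_op, hf]
  · have h0 : kap fW c (op k⁻¹ X) = 0 := S.symU.ext fun u => by
      rw [← S.kap_of_map hk hkc, op_op_inv, hX, S.symU.form.zero_left, S.symU.form.zero_left]
    rw [op_mul, op_mul, hγ _ h0, map_add, op_op_inv, hkc]
    rfl

theorem cent_add {c : Fin b → F} (hc : fW c c = 0) {Z Z' : (Fin a → F) →ₗ[F] (Fin a → F)} (h : Cent M fW c Z)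
    (h' : Cent M fW c Z') : Cent M fW c (Z + Z') := by
  obtain ⟨g, hg, hX⟩ := h
  obtain ⟨g', hg', hX'⟩ := h'
  refine ⟨g * g', M.mul_mem hg hg', fun X => ?_⟩
  rw [op_mul, hX', hX, map_add, S.kap_pure, hc, zero_smul, add_zero, LinearMap.add_apply, pure_add_left]
  abel

theorem cent_conj {k : GL (Fin a × Fin b) F} (hk : k ∈ M) {c : Fin b → F}
    {α α' : (Fin a → F) →ₗ[F] (Fin a → F)} (hα' : ∀ u v, fU u (α' v) = fU (α u) v)
    (hkc : ∀ u, op k (vecMulVec u c) = vecMulVec (α u) c) {Z : (Fin a → F) →ₗ[F] (Fin a → F)}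
    (h : Cent M fW c Z) : Cent M fW c (α.comp (Z.comp α')) := by
  obtain ⟨g, hg, hX⟩ := h
  refine ⟨k * g * k⁻¹, M.mul_mem (M.mul_mem hk hg) (M.inv_mem hk), fun X => ?_⟩
  have h0 : kap fW c (op k⁻¹ X) = α' (kap fW c X) := S.symU.ext fun u => by
    rw [← S.kap_of_map hk hkc, op_op_inv, S.symU.symm u (α' _), hα', S.symU.symm (kap fW c X) (α u)]
  rw [op_mul, op_mul, hX, map_add, op_op_inv, hkc, h0]
  rfl

variable [Finite F]

theorem cent_skew {c : Fin b → F} (hc0 : c ≠ 0) {Z : (Fin a → F) →ₗ[F] (Fin a → F)} (h : Cent M fW c Z)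
    (hc : fW c c = 0) (u w : Fin a → F) : fU (Z u) w + fU u (Z w) = 0 := by
  obtain ⟨g, hg, hX⟩ := h
  obtain ⟨e₀, -, he₀⟩ := S.symW.exists_partner_self hc0 hc
  have he : fW e₀ c = 1 := by rw [S.symW.symm c e₀]; exact he₀
  have h := S.iso hg (vecMulVec u e₀) (vecMulVec w e₀)
  rw [hX, hX, S.kap_pure, S.kap_pure, he, one_smul, one_smul, S.B_add_left, S.B_add_right, S.B_add_right,
    S.B_pure_pure, S.B_pure_pure, S.B_pure_pure, S.B_pure_pure, he, he₀, hc] at h
  linear_combination h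

/-- The difference at a partner is adjoint to the radical map. -/
theorem radel_dual {c e₀ e : Fin b → F} (he₀ : fW e₀ c = 1) (he : fW e c = 0) {g : GL (Fin a × Fin b) F}
    (hg : g ∈ M) (hf : ∀ x, op g (vecMulVec x c) = vecMulVec x c)
    {γ : Matrix (Fin a) (Fin b) F →ₗ[F] (Fin a → F)}
    (hγ : ∀ X, kap fW c X = 0 → op g X = X + vecMulVec (γ X) c) (w u : Fin a → F) :
    fU (kap fW e (op g (vecMulVec w e₀) - vecMulVec w e₀)) u = -fU w (γ (vecMulVec u e)) := by
  have h := S.iso hg (vecMulVec w e₀) (vecMulVec u e)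
  rw [hγ (vecMulVec u e) (by rw [S.kap_pure, he, zero_smul]), S.B_add_right, S.B_pure, S.B_pure,
    S.kap_fix hg hf, S.B_pure_pure, S.kap_pure, he₀, one_smul] at h
  rw [map_sub, S.symU.form.sub_left, S.kap_pure, S.symU.form.smul_left, S.symW.symm e e₀]
  rw [S.symW.symm e e₀] at h
  linear_combination h

/-- Commutators of radical elements are central. -/
theorem cent_comm {c e₀ : Fin b → F} (hc : fW c c = 0) (he₀ : fW e₀ c = 1) {g g' : GL (Fin a × Fin b) F}
    (hg : g ∈ M) (hg' : g' ∈ M) (hf : ∀ x, op g (vecMulVec x c) = vecMulVec x c)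
    (hf' : ∀ x, op g' (vecMulVec x c) = vecMulVec x c)
    {γ γ' : Matrix (Fin a) (Fin b) F →ₗ[F] (Fin a → F)}
    (hγ : ∀ X, kap fW c X = 0 → op g X = X + vecMulVec (γ X) c)
    (hγ' : ∀ X, kap fW c X = 0 → op g' X = X + vecMulVec (γ' X) c)
    (Z : (Fin a → F) →ₗ[F] (Fin a → F))
    (hZ : ∀ w, Z w = γ (op g' (vecMulVec w e₀) - vecMulVec w e₀) - γ' (op g (vecMulVec w e₀) - vecMulVec w e₀)) :
    Cent M fW c Z := by
  have hd : ∀ {k : GL (Fin a × Fin b) F}, k ∈ M → (∀ x, op k (vecMulVec x c) = vecMulVec x c) →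
      ∀ Y, kap fW c (op k Y - Y) = 0 := fun hk hkf Y => by
    rw [map_sub, S.kap_fix hk hkf, sub_self]
  have hz : ∀ {k : GL (Fin a × Fin b) F} {δ : Matrix (Fin a) (Fin b) F →ₗ[F] (Fin a → F)},
      (∀ x, op k (vecMulVec x c) = vecMulVec x c) →
      (∀ X, kap fW c X = 0 → op k X = X + vecMulVec (δ X) c) → ∀ x, δ (vecMulVec x c) = 0 := by
    intro k δ hkf hkδ x
    have h := hkδ (vecMulVec x c) (by rw [S.kap_pure, hc, zero_smul])
    rw [hkf, left_eq_add] at h
    by_cases hc0 : c = 0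
    · rw [hc0, pure_zero_right, map_zero]
    · exact pl_injective hc0 (h.trans (map_zero (pl a c)).symm)
  refine ⟨g * g' * (g' * g)⁻¹, M.mul_mem (M.mul_mem hg hg') (M.inv_mem (M.mul_mem hg' hg)), fun Y₀ => ?_⟩
  obtain ⟨Y, rfl⟩ : ∃ Y, op (g' * g) Y = Y₀ := ⟨op (g' * g)⁻¹ Y₀, op_op_inv _ _⟩
  have hk : kap fW c (op (g' * g) Y) = kap fW c Y := by rw [op_mul, S.kap_fix hg' hf', S.kap_fix hg hf]
  let D : Matrix (Fin a) (Fin b) F →ₗ[F] (Fin a → F) :=
    γ.comp (op g' - LinearMap.id) - γ'.comp (op g - LinearMap.id)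
  have e1 : op (g * g') Y = op (g' * g) Y + vecMulVec (D Y) c := by
    have a1 : op (g * g') Y = op g Y + (op g' Y - Y) + vecMulVec (γ (op g' Y - Y)) c := by
      rw [op_mul]
      conv_lhs => rw [← add_sub_cancel Y (op g' Y), map_add, hγ _ (hd hg' hf' Y)]
      abel
    have a2 : op (g' * g) Y = op g' Y + (op g Y - Y) + vecMulVec (γ' (op g Y - Y)) c := by
      rw [op_mul]
      conv_lhs => rw [← add_sub_cancel Y (op g Y), map_add, hγ' _ (hd hg hf Y)]
      abel
    rw [a1, a2, show D Y = γ (op g' Y - Y) - γ' (op g Y - Y) from rfl, pure_sub_left]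
    abel
  have hD : D Y = D (vecMulVec (kap fW c Y) e₀) := by
    refine sub_eq_zero.1 ?_
    rw [← map_sub]
    set X := Y - vecMulVec (kap fW c Y) e₀
    have hX : kap fW c X = 0 := by rw [map_sub, S.kap_pure, he₀, one_smul, sub_self]
    show γ (op g' X - X) - γ' (op g X - X) = 0
    rw [hγ X hX, hγ' X hX, add_sub_cancel_left, add_sub_cancel_left, hz hf hγ, hz hf' hγ', sub_zero]
  rw [op_mul, op_inv_op, e1, hk, hD, hZ]
  rfl

/-- The radical Kronecker elements. -/
theorem exists_radE {c e₀ v : Fin b → F} (hc : fW c c = 0) (he₀ : fW e₀ c = 1) (hvc : fW v c = 0)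
    (hve : fW e₀ v = 0) : ∃ g ∈ M, g ∈ Cfsg.Geo.kroneckerSubgroup a b F ∧
      (∀ x : Fin a → F, op g (vecMulVec x c) = vecMulVec x c) ∧
      (∀ X, kap fW c X = 0 → op g X = X + vecMulVec (-(kap fW v X)) c) ∧
      ∀ w, op g (vecMulVec w e₀) - vecMulVec w e₀ = vecMulVec w v - (fW v v / 2) • vecMulVec w c := by
  have hcv : fW c v = 0 := by rw [S.symW.symm v c]; exact hvc
  obtain ⟨g, hg, hgk, hX⟩ := S.exists_E hc hcv
  refine ⟨g, hg, hgk, fun x => ?_, fun X hX0 => ?_, fun w => ?_⟩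
  · rw [hX, S.kap_pure, S.kap_pure, hc, hcv]
    simp only [zero_smul, pure_zero_left, smul_zero, add_zero, sub_zero]
  · rw [hX, hX0, pure_neg_left]
    simp only [pure_zero_left, smul_zero, add_zero, sub_zero, neg_zero, sub_eq_add_neg]
  · rw [hX, S.kap_pure, S.kap_pure, he₀, hve, one_smul]
    simp only [zero_smul, pure_zero_left, sub_zero]
    abel

theorem exists_aniso_four {c e₀ d d' : Fin b → F} (hc : fW c c = 0) (he₀ : fW e₀ e₀ = 0) (hce : fW c e₀ = 1)
    (hd : fW d d = 0) (hd' : fW d' d' = 0) (hdd : fW d d' = 1) (hdc : fW d c = 0) (hde : fW d e₀ = 0)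
    (hd'c : fW d' c = 0) (hd'e : fW d' e₀ = 0) :
    ∃ x, fW x c = 0 ∧ fW x e₀ = 0 ∧ fW x d = 0 ∧ fW x d' = 0 ∧ fW x x ≠ 0 := by
  have hb := S.five_le
  have hf := S.symW
  by_contra hno
  push Not at hno
  obtain ⟨e, he, he0⟩ := hf.exists_orth ![c, e₀, d, d'] ⊥ (by rw [finrank_bot]; omega)
  refine he0 ((Submodule.mem_bot F).2 (hf.ext fun u => ?_))
  have h0 : fW e c = 0 := he 0
  have h1 : fW e e₀ = 0 := he 1
  have h2 : fW e d = 0 := he 2
  have h3 : fW e d' = 0 := he 3
  have hec : fW e₀ c = 1 := by rw [hf.symm c e₀]; exact hce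
  have hd'd : fW d' d = 1 := by rw [hf.symm d d']; exact hdd
  have hcd : fW c d = 0 := by rw [hf.symm d c]; exact hdc
  have hed : fW e₀ d = 0 := by rw [hf.symm d e₀]; exact hde
  have hcd' : fW c d' = 0 := by rw [hf.symm d' c]; exact hd'c
  have hed' : fW e₀ d' = 0 := by rw [hf.symm d' e₀]; exact hd'e
  set u' := u - fW u e₀ • c - fW u c • e₀ - fW u d' • d - fW u d • d' with hu'
  have a0 : fW u' c = 0 := by simp only [hu', hf.form.sub_left, hf.form.smul_left, hc, hec, hdc, hd'c]; ring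
  have a1 : fW u' e₀ = 0 := by simp only [hu', hf.form.sub_left, hf.form.smul_left, he₀, hce, hde, hd'e]; ring
  have a2 : fW u' d = 0 := by simp only [hu', hf.form.sub_left, hf.form.smul_left, hcd, hed, hd, hd'd]; ring
  have a3 : fW u' d' = 0 := by simp only [hu', hf.form.sub_left, hf.form.smul_left, hcd', hed', hdd, hd']; ring
  have h := hf.polarise (hno e h0 h1 h2 h3) (hno u' a0 a1 a2 a3) (hno _ (by rw [hf.form.add_left, h0, a0, add_zero])
    (by rw [hf.form.add_left, h1, a1, add_zero]) (by rw [hf.form.add_left, h2, a2, add_zero])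
    (by rw [hf.form.add_left, h3, a3, add_zero]))
  simp only [hu', hf.form.sub_right, hf.smul_right, h0, h1, h2, h3, mul_zero, sub_zero] at h
  rw [hf.form.zero_left]; exact h

/-- A non-Kronecker radical element gives a non-trivial central one. -/
theorem centNZ_of_not_radKron (h : ¬ RadKron fW M) : CentNZ M fW := by
  classical
  have hb := S.five_le
  have hW := S.symW
  simp only [RadKron, not_forall] at h
  obtain ⟨c, hc0, hc, g, hg, hf, hrad, hgK⟩ := h
  by_contra hno
  have hcent : ∀ Z, Cent M fW c Z → Z = 0 := fun Z hZ => by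
    by_contra hZ0
    exact hno ⟨c, hc0, hc, Z, hZ0, hZ⟩
  obtain ⟨e₀, he₀q, hce⟩ := hW.exists_partner_self hc0 hc
  have he₀ : fW e₀ c = 1 := by rw [hW.symm c e₀]; exact hce
  obtain ⟨φc, hφc⟩ := exists_dot_one hc0
  let γ : Matrix (Fin a) (Fin b) F →ₗ[F] (Fin a → F) := (contr a φc).comp (op g - LinearMap.id)
  have hpure : ∀ u e, fW e c = 0 → op g (vecMulVec u e) = vecMulVec u e + vecMulVec (γ (vecMulVec u e)) c := by
    intro u e he
    obtain ⟨m, hm⟩ := hrad u e he
    rw [pl_apply] at hm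
    rw [show γ (vecMulVec u e) = (op g (vecMulVec u e) - vecMulVec u e) *ᵥ φc from rfl, ← hm, pure_mulVec, hφc,
      one_smul, hm, add_sub_cancel]
  have hγ : ∀ X, kap fW c X = 0 → op g X = X + vecMulVec (γ X) c := fun X hX => by
    have hrow : ∀ i, fW (X i) c = 0 := fun i => by rw [← hW.form.dot_cov]; exact congrFun hX i
    rw [rows_sum X, map_sum, map_sum, ← pl_apply c, map_sum, ← Finset.sum_add_distrib]
    exact Finset.sum_congr rfl fun i _ => hpure _ _ (hrow i)
  let N : (Fin b → F) → (Fin a → F) →ₗ[F] (Fin a → F) := fun v => γ.comp (pl a v)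
  have hγc : ∀ x, γ (vecMulVec x c) = 0 := fun x => by
    show (op g (vecMulVec x c) - vecMulVec x c) *ᵥ φc = 0
    rw [hf, sub_self, zero_mulVec]
  -- components are self-adjoint
  have hsym : ∀ v, fW v c = 0 → fW e₀ v = 0 → ∀ w u, fU (N v w) u = fU w (N v u) := by
    intro v hvc hve
    obtain ⟨q, hq, -, hqf, hqγ, hqe⟩ := S.exists_radE hc he₀ hvc hve
    let Z : (Fin a → F) →ₗ[F] (Fin a → F) := N v + (kap fW v).comp ((op g - LinearMap.id).comp (pl a e₀))
    have hZ := hcent Z (S.cent_comm hc he₀ hg hq hf hqf hγ (γ' := -(kap fW v))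
      (fun X hX => hqγ X hX) Z fun w => by
        rw [hqe, map_sub, map_smul, hγc, smul_zero, sub_zero, LinearMap.neg_apply, sub_neg_eq_add]
        rfl)
    intro w u
    have h1 := congrArg (fun L => fU (L w) u) hZ
    simp only [LinearMap.zero_apply, S.symU.form.zero_left] at h1
    rw [show Z w = N v w + kap fW v (op g (vecMulVec w e₀) - vecMulVec w e₀) from rfl, S.symU.form.add_left,
      S.radel_dual he₀ hvc hg hf hγ] at h1
    show fU (γ (vecMulVec w v)) u = fU w (γ (vecMulVec u v))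
    rw [show N v w = γ (vecMulVec w v) from rfl] at h1
    linear_combination h1
  -- the projection
  let P : (Fin b → F) →ₗ[F] (Fin b → F) := LinearMap.id - rk1 hW.form c e₀ - rk1 hW.form e₀ c
  have hP : ∀ x, P x = x - fW x e₀ • c - fW x c • e₀ := fun x => rfl
  have hPc : ∀ x, fW (P x) c = 0 := fun x => by
    rw [hP, hW.form.sub_left, hW.form.sub_left, hW.form.smul_left, hW.form.smul_left, hc, he₀]; ring
  have hPe : ∀ x, fW (P x) e₀ = 0 := fun x => by
    rw [hP, hW.form.sub_left, hW.form.sub_left, hW.form.smul_left, hW.form.smul_left, hce, he₀q]; ring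
  have hPid : ∀ x, fW x c = 0 → fW x e₀ = 0 → P x = x := fun x h1 h2 => by
    rw [hP, h1, h2, zero_smul, zero_smul, sub_zero, sub_zero]
  obtain ⟨u₀, u₁, huu⟩ := S.exists_uu
  have hu₀ : u₀ ≠ 0 := fun e => huu (by rw [e, S.symU.form.zero_left])
  obtain ⟨φ₀, hφ₀⟩ := exists_dot_one hu₀
  by_cases hall : ∀ v, fW v c = 0 → fW v e₀ = 0 → ∃ l : F, ∀ u, N v u = l • u
  · -- everything is scalar
    let lf : (Fin b → F) →ₗ[F] F :=
      { toFun := fun x => φ₀ ⬝ᵥ γ (vecMulVec u₀ (P x))
        map_add' := fun x y => by simp only [map_add, pure_add_right, dotProduct_add]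
        map_smul' := fun t x => by simp only [map_smul, pure_smul_right, dotProduct_smul]; rfl }
    obtain ⟨φ, hφ⟩ := exists_dot_of_dual lf
    obtain ⟨w, rfl⟩ := hW.form.exists_cov φ
    have hw : ∀ x, fW x w = lf x := fun x => by rw [← hW.form.dot_cov]; exact hφ x
    have hwc : fW w c = 0 := by
      rw [hW.symm c w, hw]
      show φ₀ ⬝ᵥ γ (vecMulVec u₀ (P c)) = 0
      rw [show P c = 0 by rw [hP, hce, hc, one_smul, zero_smul, sub_self, sub_zero], pure_zero_right, map_zero,
        dotProduct_zero]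
    have hwe : fW e₀ w = 0 := by
      rw [hw]
      show φ₀ ⬝ᵥ γ (vecMulVec u₀ (P e₀)) = 0
      rw [show P e₀ = 0 by rw [hP, he₀q, he₀, one_smul, zero_smul, sub_zero, sub_self], pure_zero_right, map_zero,
        dotProduct_zero]
    obtain ⟨q, hq, hqk, hqf, hqγ, -⟩ := S.exists_radE hc he₀ hwc hwe
    have hflat : ∀ u e, fW e c = 0 → γ (vecMulVec u e) = fW e w • u := by
      intro u e he
      obtain ⟨l, hl⟩ := hall (P e) (hPc e) (hPe e)
      have hdec : e = P e + fW e e₀ • c := by rw [hP, he, zero_smul, sub_zero, sub_add_cancel]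
      have hlw : fW e w = l := by
        rw [hw]
        show φ₀ ⬝ᵥ γ (vecMulVec u₀ (P e)) = l
        rw [show γ (vecMulVec u₀ (P e)) = N (P e) u₀ from rfl, hl, dotProduct_smul, dotProduct_comm φ₀, hφ₀,
          smul_eq_mul, mul_one]
      rw [hlw, ← hl u, show N (P e) u = γ (vecMulVec u (P e)) from rfl]
      conv_lhs => rw [hdec, pure_add_right, pure_smul_right, map_add, map_smul, hγc, smul_zero, add_zero]
    set h := g * q with hh
    have hhM : h ∈ M := M.mul_mem hg hq
    have hhfix : ∀ x, op h (vecMulVec x c) = vecMulVec x c := fun x => by rw [hh, op_mul, hqf, hf]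
    have hh0 : ∀ u e, fW e c = 0 → op h (vecMulVec u e) = vecMulVec u e := fun u e he => by
      rw [hh, op_mul, hqγ _ (by rw [S.kap_pure, he, zero_smul]), S.kap_pure, map_add, hf, hpure u e he, hflat u e he,
        pure_neg_left, add_neg_cancel_right]
    have hhX : ∀ X, kap fW c X = 0 → op h X = X := fun X hX => by
      have hrow : ∀ i, fW (X i) c = 0 := fun i => by rw [← hW.form.dot_cov]; exact congrFun hX i
      rw [rows_sum X, map_sum]
      exact Finset.sum_congr rfl fun i _ => hh0 _ _ (hrow i)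
    let Z : (Fin a → F) →ₗ[F] (Fin a → F) := (contr a φc).comp ((op h - LinearMap.id).comp (pl a e₀))
    have hZX : ∀ X, op h X = X + vecMulVec (Z (kap fW c X)) c := by
      intro X
      have e : op h X - X = op h (vecMulVec (kap fW c X) e₀) - vecMulVec (kap fW c X) e₀ := by
        have h0 := hhX (X - vecMulVec (kap fW c X) e₀) (by rw [map_sub, S.kap_pure, he₀, one_smul, sub_self])
        rw [map_sub, sub_eq_sub_iff_add_eq_add] at h0
        rw [sub_eq_sub_iff_add_eq_add, h0, add_comm]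
      obtain ⟨m, hm⟩ : op h X - X ∈ LinearMap.range (pl a c) := mem_pl_of_kill hc0 fun ψ hψ => by
        obtain ⟨v, rfl⟩ := hW.form.exists_cov ψ
        rw [hW.form.dot_cov] at hψ
        have hv : fW v c = 0 := by rw [hW.symm c v]; exact hψ
        refine S.symU.ext fun u => ?_
        show fU (kap fW v (op h X - X)) u = fU 0 u
        rw [S.symU.form.zero_left, ← S.B_pure, S.B_sub_left]
        conv_lhs => arg 1; rw [← hh0 u v hv, S.iso hhM]
        rw [sub_self]
      rw [pl_apply] at hm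
      have hZ : Z (kap fW c X) = (op h X - X) *ᵥ φc := by rw [e]; rfl
      rw [hZ, ← hm, pure_mulVec, hφc, one_smul, hm, add_sub_cancel]
    have hZ0 := hcent Z ⟨h, hhM, hZX⟩
    refine hgK ?_
    have h1 : g = q⁻¹ := by
      rw [eq_inv_iff_mul_eq_one, ← hh]
      exact ext_op fun X => by rw [hZX, hZ0, LinearMap.zero_apply, pure_zero_left, add_zero, op_one]
    rw [h1]
    exact inv_mem hqk
  -- a singular vector with non-scalar component
  push Not at hall
  obtain ⟨v, hvc, hve, hv⟩ := hall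
  obtain ⟨d, hd0, hd, hdc, hde, hdns⟩ :
      ∃ d, d ≠ 0 ∧ fW d d = 0 ∧ fW d c = 0 ∧ fW d e₀ = 0 ∧ ∀ l : F, ∃ u, N d u ≠ l • u := by
    by_contra hall
    push Not at hall
    have hsc : ∀ z, fW z z = 0 → fW z c = 0 → fW z e₀ = 0 → ∃ l : F, ∀ u, N z u = l • u := fun z h1 h2 h3 => by
      by_cases h0 : z = 0
      · exact ⟨0, fun u => by
          rw [h0, show N 0 u = γ (vecMulVec u 0) from rfl, pure_zero_right, map_zero, zero_smul]⟩
      · exact hall z h0 h1 h2 h3
    obtain ⟨z, hzK, hz0, hz⟩ := hW.exists_sing (K := LinearMap.ker (dots ![cov fW c, cov fW e₀])) (by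
      have h1 := (dots ![cov fW c, cov fW e₀] : (Fin b → F) →ₗ[F] _).finrank_range_add_finrank_ker
      have h2 := Submodule.finrank_le (LinearMap.range (dots ![cov fW c, cov fW e₀] : (Fin b → F) →ₗ[F] _))
      rw [Module.finrank_fin_fun] at h1 h2
      omega)
    rw [LinearMap.mem_ker] at hzK
    have hzc : fW z c = 0 := by rw [← hW.form.dot_cov, dotProduct_comm]; exact congrFun hzK 0
    have hze : fW z e₀ = 0 := by rw [← hW.form.dot_cov, dotProduct_comm]; exact congrFun hzK 1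
    obtain ⟨p, -, hzp⟩ := hW.exists_partner_self hz0 hz
    have hpp : fW z (P p) = 1 := by
      rw [hP, hW.form.sub_right, hW.form.sub_right, hW.smul_right, hW.smul_right, hzc, hze, hzp]; ring
    set z' := P p - (fW (P p) (P p) / 2) • z with hz'
    have hz'c : fW z' c = 0 := by rw [hz', hW.form.sub_left, hW.form.smul_left, hPc, hzc, mul_zero, sub_zero]
    have hz'e : fW z' e₀ = 0 := by rw [hz', hW.form.sub_left, hW.form.smul_left, hPe, hze, mul_zero, sub_zero]
    have hz'z : fW z' z = 1 := by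
      rw [hz', hW.form.sub_left, hW.form.smul_left, hz, mul_zero, sub_zero, hW.symm z (P p), hpp]
    have hz'q : fW z' z' = 0 := by
      simp only [hz', hW.form.sub_left, hW.form.sub_right, hW.form.smul_left, hW.smul_right, hz, hpp,
        hW.symm z (P p)]
      linear_combination -div_mul_cancel₀ (fW (P p) (P p)) hW.two
    obtain ⟨lz, hlz⟩ := hsc z hz hzc hze
    obtain ⟨lz', hlz'⟩ := hsc z' hz'q hz'c hz'e
    have hgen : ∀ x, fW x c = 0 → fW x e₀ = 0 → fW x z ≠ 0 → ∃ l : F, ∀ u, N x u = l • u := by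
      intro x hxc hxe hxz
      set t := fW x x / (2 * fW x z) with ht
      obtain ⟨l, hl⟩ := hsc (x - t • z) (by
          simp only [hW.form.sub_left, hW.form.sub_right, hW.form.smul_left, hW.smul_right, hz, hW.symm x z, ht]
          have h2 := hW.two
          field_simp
          ring)
        (by rw [hW.form.sub_left, hW.form.smul_left, hxc, hzc, mul_zero, sub_zero])
        (by rw [hW.form.sub_left, hW.form.smul_left, hxe, hze, mul_zero, sub_zero])
      refine ⟨l + t * lz, fun u => ?_⟩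
      rw [show N x u = γ (vecMulVec u x) from rfl, show vecMulVec u x = vecMulVec u (x - t • z) + t • vecMulVec u z by
        rw [← pure_smul_right, ← pure_add_right, sub_add_cancel], map_add, map_smul,
        show γ (vecMulVec u (x - t • z)) = N (x - t • z) u from rfl, hl, show γ (vecMulVec u z) = N z u from rfl,
        hlz, add_smul, mul_smul]
    by_cases hvz : fW v z = 0
    · obtain ⟨l, hl⟩ := hgen (v + z') (by rw [hW.form.add_left, hvc, hz'c, add_zero])
        (by rw [hW.form.add_left, hve, hz'e, add_zero])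
        (by rw [hW.form.add_left, hvz, hz'z, zero_add]; exact one_ne_zero)
      obtain ⟨u, hu⟩ := hv (l - lz')
      refine hu ?_
      rw [sub_smul, ← hl, ← hlz']
      show γ (vecMulVec u v) = γ (vecMulVec u (v + z')) - γ (vecMulVec u z')
      rw [pure_add_right, map_add, add_sub_cancel_right]
    · obtain ⟨l, hl⟩ := hgen v hvc hve hvz
      obtain ⟨u, hu⟩ := hv l
      exact hu (hl u)
  obtain ⟨d', hd', hdd, hd'c, hd'e⟩ :
      ∃ d', fW d' d' = 0 ∧ fW d d' = 1 ∧ fW d' c = 0 ∧ fW d' e₀ = 0 := by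
    obtain ⟨p, -, hdp⟩ := hW.exists_partner_self hd0 hd
    have hpp : fW d (P p) = 1 := by
      rw [hP, hW.form.sub_right, hW.form.sub_right, hW.smul_right, hW.smul_right, hdc, hde, hdp]; ring
    refine ⟨P p - (fW (P p) (P p) / 2) • d, ?_, ?_, ?_, ?_⟩
    · simp only [hW.form.sub_left, hW.form.sub_right, hW.form.smul_left, hW.smul_right, hd, hpp, hW.symm d (P p)]
      linear_combination -div_mul_cancel₀ (fW (P p) (P p)) hW.two
    · rw [hW.form.sub_right, hW.smul_right, hd, mul_zero, sub_zero, hpp]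
    · rw [hW.form.sub_left, hW.form.smul_left, hPc, hdc, mul_zero, sub_zero]
    · rw [hW.form.sub_left, hW.form.smul_left, hPe, hde, mul_zero, sub_zero]
  obtain ⟨x, hxc, hxe, hxd, hxd', hxx⟩ := S.exists_aniso_four hc he₀q hce hd hd' hdd hdc hde hd'c hd'e
  have hd'd : fW d' d = 1 := by rw [hW.symm d d']; exact hdd
  have hcd : fW c d = 0 := by rw [hW.symm d c]; exact hdc
  have hdx : fW d x = 0 := by rw [hW.symm x d]; exact hxd
  have hd'x : fW d' x = 0 := by rw [hW.symm x d']; exact hxd'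
  have hcx : fW c x = 0 := by rw [hW.symm x c]; exact hxc
  have hcd' : fW c d' = 0 := by rw [hW.symm d' c]; exact hd'c
  -- the second difference
  have hxn : fW ((-1 : F) • x) ((-1 : F) • x) = fW x x := by
    rw [hW.form.smul_left, hW.smul_right]; ring
  obtain ⟨k₁, hk₁, -, hk₁X⟩ := S.exists_E hd hdx
  obtain ⟨k₂, hk₂, -, hk₂X⟩ := S.exists_E hd (show fW d ((-1 : F) • x) = 0 by
    rw [hW.smul_right, hdx, mul_zero])
  have hkk : ∀ X, op k₁ (op k₂ X) = X := fun X => by
    rw [hk₂X, hk₁X]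
    simp only [map_add, map_sub, map_smul, S.kap_pure, S.kap_smul, hd, hdx, hxd, hxn, pure_add_left, pure_sub_left,
      pure_smul_left, pure_smul_right, hW.form.smul_left, zero_smul, mul_zero, pure_zero_left, smul_zero]
    have h2 := hW.two
    match_scalars <;> field_simp <;> ring
  have hk₁inv : ∀ X, op k₁⁻¹ X = op k₂ X := fun X => op_injective k₁ (by rw [op_op_inv, hkk])
  have hkk' : ∀ X, op k₂⁻¹ X = op k₁ X := fun X => op_injective k₂ (by
    rw [op_op_inv]
    exact op_injective k₁ (by rw [hkk]))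
  have hfix₁ : ∀ u, op k₁ (vecMulVec u c) = vecMulVec (LinearMap.id (R := F) u) c := fun u => by
    rw [hk₁X, S.kap_pure, S.kap_pure, hcd, hcx]
    simp only [zero_smul, pure_zero_left, smul_zero, add_zero, sub_zero, LinearMap.id_apply]
  have hfix₂ : ∀ u, op k₂ (vecMulVec u c) = vecMulVec (LinearMap.id (R := F) u) c := fun u => by
    have h := hk₁inv (vecMulVec u c)
    conv at h => lhs; rw [← LinearMap.id_apply (R := F) u, ← hfix₁, op_inv_op]
    rw [← h]; rfl
  have hγR : Radel M fW c γ := ⟨g, hg, hf, hγ⟩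
  let N₁ : (Fin a → F) →ₗ[F] (Fin a → F) := (-fW x x) • N d
  have hR₁ : Radel M fW c (N₁.comp (kap fW d)) := by
    refine S.radel_congr (S.radel_add
      (S.radel_add (S.radel_conj hk₁ (α := LinearMap.id) (fun _ _ => rfl) hfix₁ hγR) (S.radel_neg hγR))
      (S.radel_add (S.radel_conj hk₂ (α := LinearMap.id) (fun _ _ => rfl) hfix₂ hγR) (S.radel_neg hγR))) fun X _ => ?_
    simp only [LinearMap.add_apply, LinearMap.comp_apply, LinearMap.id_apply, LinearMap.neg_apply, hk₁inv, hkk',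
      N₁, LinearMap.smul_apply]
    rw [hk₁X, hk₂X]
    simp only [map_add, map_sub, map_smul, hxn,
      pure_smul_right, pure_smul_left, N, LinearMap.comp_apply, pl_apply, S.kap_smul]
    have h2 := hW.two
    match_scalars <;> field_simp <;> ring
  set d'' := d + x - (fW x x / 2) • d' with hd''
  have hd''c : fW d'' c = 0 := by
    rw [hd'', hW.form.sub_left, hW.form.add_left, hW.form.smul_left, hdc, hxc, hd'c]; ring
  have hκ : fW d d'' = -(fW x x / 2) := by
    rw [hd'', hW.form.sub_right, hW.form.add_right, hW.smul_right, hd, hdx, hdd]; ring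
  have hκ0 : fW d d'' ≠ 0 := by rw [hκ]; exact neg_ne_zero.2 (div_ne_zero hxx hW.two)
  obtain ⟨k₃, hk₃, -, hk₃X⟩ := S.exists_E hd' (show fW d' ((-1 : F) • x) = 0 by
    rw [hW.smul_right, hd'x, mul_zero])
  have hfix₃ : ∀ u, op k₃ (vecMulVec u c) = vecMulVec (LinearMap.id (R := F) u) c := fun u => by
    rw [hk₃X, S.kap_pure, S.kap_pure, hcd', hW.smul_right, hcx, mul_zero]
    simp only [zero_smul, pure_zero_left, smul_zero, add_zero, sub_zero, LinearMap.id_apply]
  have hk₃d : ∀ X, kap fW d (op k₃ X) = kap fW d'' X := fun X => by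
    rw [hk₃X, hd'']
    simp only [map_add, map_sub, map_smul, S.kap_pure, hxn, hd'd, hW.form.smul_left, hxd, mul_zero, zero_smul,
      one_smul]
    rw [show d + x - (fW x x / 2) • d' = d + x + (-(fW x x / 2)) • d' by rw [neg_smul, sub_eq_add_neg],
      S.kap_add, S.kap_add, S.kap_smul, S.kap_smul]
    module
  have hR₂ : Radel M fW c (N₁.comp (kap fW d'')) := by
    refine S.radel_congr (S.radel_conj (M.inv_mem hk₃) (α := LinearMap.id) (fun _ _ => rfl)
      (fun u => op_injective k₃ (by rw [op_op_inv, hfix₃]; rfl)) hR₁) fun X _ => ?_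
    simp only [LinearMap.comp_apply, LinearMap.id_apply, inv_inv, hk₃d]
  have hsymN₁ : ∀ w u, fU (N₁ w) u = fU w (N₁ u) := fun w u => by
    simp only [N₁, LinearMap.smul_apply, S.symU.form.smul_left, S.symU.smul_right,
      hsym d hdc (by rw [hW.symm d e₀]; exact hde)]
  -- a commutator with a conjugate
  obtain ⟨l, hl⟩ := S.symU.scalar_of_comm S.three_le S.field S.minus hsymN₁ (by
    intro z w _ hz hzw
    have hzw' : fU z (-w) = 0 := by rw [← neg_one_smul F w, S.symU.smul_right, hzw, mul_zero]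
    obtain ⟨k, hk, -, hkp, hkk⟩ := S.exists_commU (S.symU.sieg_comm hz hzw)
    set α := sieg S.symU z w
    set α' := sieg S.symU z (-w)
    have hR₃ : Radel M fW c ((α.comp (N₁.comp α')).comp (kap fW d'')) := by
      refine S.radel_congr (S.radel_conj hk (S.symU.sieg_iso hz hzw) (fun u => hkp u c) hR₂) fun X _ => ?_
      have h1 : kap fW d'' (op k⁻¹ X) = α' (kap fW d'' X) := by
        conv_rhs => rw [← op_op_inv k X, hkk, S.symU.sieg_neg hz hzw]
      simp only [LinearMap.comp_apply, h1]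
      rfl
    have hsymN₃ : ∀ w' u, fU ((α.comp (N₁.comp α')) w') u = fU w' ((α.comp (N₁.comp α')) u) := fun w' u => by
      simp only [LinearMap.comp_apply, α, α', S.symU.sieg_adj z w, hsymN₁]
      rw [S.symU.sieg_adj z (-w), neg_neg]
    set N₃ := α.comp (N₁.comp α')
    obtain ⟨g₁, hg₁, hf₁, hγ₁⟩ := hR₁
    obtain ⟨g₃, hg₃, hf₃, hγ₃⟩ := hR₃
    have hd1 : ∀ w', kap fW d'' (op g₁ (vecMulVec w' e₀) - vecMulVec w' e₀) = -(fW d d'') • N₁ w' := fun w' =>
      S.symU.ext fun u => by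
        rw [S.radel_dual he₀ hd''c hg₁ hf₁ hγ₁, LinearMap.comp_apply, S.kap_pure, map_smul, S.symU.smul_right,
          S.symU.form.smul_left, hsymN₁, hW.symm d d'']
        ring
    have hd3 : ∀ w', kap fW d (op g₃ (vecMulVec w' e₀) - vecMulVec w' e₀) = -(fW d d'') • N₃ w' := fun w' =>
      S.symU.ext fun u => by
        rw [S.radel_dual he₀ hdc hg₃ hf₃ hγ₃, LinearMap.comp_apply, S.kap_pure, map_smul, S.symU.smul_right,
          S.symU.form.smul_left, hsymN₃]
        ring
    have hZ := hcent _ (S.cent_comm hc he₀ hg₁ hg₃ hf₁ hf₃ hγ₁ hγ₃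
      ((-(fW d d'')) • (N₁.comp N₃ - N₃.comp N₁)) fun w' => by
        simp only [LinearMap.comp_apply, hd1, hd3, map_smul, LinearMap.smul_apply, LinearMap.sub_apply, smul_sub])
    intro y
    have h := (smul_eq_zero.1 hZ).resolve_left (neg_ne_zero.2 hκ0)
    exact sub_eq_zero.1 (LinearMap.congr_fun h y))
  obtain ⟨u, hu⟩ := hdns ((-fW x x)⁻¹ * l)
  refine hu ?_
  rw [mul_smul, ← hl u]
  simp only [N₁, LinearMap.smul_apply, inv_smul_smul₀ (neg_ne_zero.2 hxx)]

end OOSetup

end Cfsg.Agent.Lib.TensorOrth
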