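import Cfsg.Agent.Lib.TensorOrth.Pairing
import Cfsg.Agent.Lib.TensorMixed.Pair

/-!
If fixers of singular pure spaces are Kronecker and something is not, some non-Kronecker element has a
degenerate pairing at a totally singular plane.
-/

set_option autoImplicit false
set_option linter.unusedSectionVars false

namespace Cfsg.Agent.Lib.TensorOrth

open Matrix Cfsg.Agent.Lib Cfsg.Agent.Lib.TensorMax Cfsg.Agent.Lib.TensorForm

variable {F : Type*} [Field F] {a b : ℕ}

/-- The involutions `-(1 ⊗ r_w)` lie in `M`. -/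
def HasInvol (fW : (Fin b → F) → (Fin b → F) → F) (M : Subgroup (GL (Fin a × Fin b) F)) : Prop :=
  ∀ w, fW w w ≠ 0 → ∃ h ∈ M, ∀ (u : Fin a → F) e,
    op h (vecMulVec u e) = vecMulVec u ((2 / fW w w * fW e w) • w - e)

namespace OOSetup

variable {fU : (Fin a → F) → (Fin a → F) → F} {fW : (Fin b → F) → (Fin b → F) → F}
  {Q : QuadraticForm F (Fin a × Fin b → F)} {M : Subgroup (GL (Fin a × Fin b) F)}
  (S : OOSetup fU fW Q M)
include S

variable [Finite F]

/-- The pairing of the inverse is the adjoint. -/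
theorem rk_inv_le {c d : Fin b → F} {g : GL (Fin a × Fin b) F} (hg : g ∈ M) :
    rk fW c d g⁻¹ ≤ rk fW c d g := by
  let β : LinearMap.BilinForm F ((Fin a → F) × (Fin a → F)) :=
    S.symU.bil.compl₁₂ (LinearMap.fst F _ _) (LinearMap.fst F _ _) +
      S.symU.bil.compl₁₂ (LinearMap.snd F _ _) (LinearMap.snd F _ _)
  have hβ : ∀ x y, β x y = fU x.1 y.1 + fU x.2 y.2 := fun x y => rfl
  have hinj : Function.Injective β := LinearMap.ker_eq_bot.1 (LinearMap.ker_eq_bot'.2 fun x hx => by
    refine Prod.ext (S.symU.ext fun v => ?_) (S.symU.ext fun v => ?_)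
    · have h := LinearMap.congr_fun hx (v, 0)
      rw [hβ, LinearMap.zero_apply] at h
      simpa [S.symU.form.zero_right, S.symU.form.zero_left] using h
    · have h := LinearMap.congr_fun hx (0, v)
      rw [hβ, LinearMap.zero_apply] at h
      simpa [S.symU.form.zero_right, S.symU.form.zero_left] using h)
  have key : ∀ x x', β (pim fW c d g⁻¹ x) x' = β x (pim fW c d g x') := fun x x' => by
    have h1 : ∀ X y, tB fU fW X (pl2 a c d y) = fU (kap fW c X) y.1 + fU (kap fW d X) y.2 := fun X y => by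
      rw [pl2_apply, S.B_add_right, S.B_pure, S.B_pure]
    rw [hβ, hβ, pim_apply, pim_apply]
    dsimp only
    rw [← h1, ← S.iso hg, op_op_inv, S.B_swap, h1, S.symU.symm _ x.1, S.symU.symm _ x.2]
  let β' : (Fin a → F) × (Fin a → F) →ₗ[F] Module.Dual F ((Fin a → F) × (Fin a → F)) := β
  have e : β'.comp (pim fW c d g⁻¹) = (pim fW c d g).dualMap.comp β' :=
    LinearMap.ext fun x => LinearMap.ext fun x' => key x x'
  calc rk fW c d g⁻¹ = Module.finrank F (LinearMap.range (β'.comp (pim fW c d g⁻¹))) := by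
        rw [rk, LinearMap.range_comp]
        exact (Submodule.equivMapOfInjective β' hinj _).finrank_eq
    _ ≤ Module.finrank F (LinearMap.range (pim fW c d g).dualMap) := by
        rw [e]; exact Submodule.finrank_mono (LinearMap.range_comp_le_range _ _)
    _ = rk fW c d g := LinearMap.finrank_range_dualMap_eq_finrank_range _

theorem finrank_pair_le (c d : Fin b → F) : Module.finrank F (LinearMap.range (pl2 a c d)) ≤ 2 * a := by
  refine le_trans (LinearMap.finrank_range_le _) ?_
  rw [Module.finrank_prod, Module.finrank_fin_fun, two_mul]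

/-- A conjugate whose shift is small has a degenerate pairing. -/
theorem rk_le_of_shift {c d : Fin b → F} (P : IsPlane fW c d) {g : GL (Fin a × Fin b) F}
    (L : Matrix (Fin a) (Fin b) F →ₗ[F] Matrix (Fin a) (Fin b) F) (hL : ∀ X, L X = op g X + X) :
    rk fW c d g ≤ Module.finrank F (LinearMap.range L) := by
  have e : pim fW c d g = ((kap fW c).prod (kap fW d)).comp (L.comp (pl2 a c d)) := LinearMap.ext fun x => by
    show pim fW c d g x = (kap fW c (L (pl2 a c d x)), kap fW d (L (pl2 a c d x)))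
    rw [pim_apply, hL, map_add, map_add, (S.kap_pl2 P x).1, (S.kap_pl2 P x).2, add_zero, add_zero]
  rw [rk, e, LinearMap.range_comp]
  exact (Submodule.finrank_map_le _ _).trans (Submodule.finrank_mono (LinearMap.range_comp_le_range _ _))

/-- `|a - b| ≤ 1`: by the involutions `-(1 ⊗ r_w)`. -/
theorem exists_small_invol (K : FixKron fW M) (hI : HasInvol fW M) (hab : ¬ a + 2 ≤ b)
    {g : GL (Fin a × Fin b) F} (hg : g ∈ M) (hgK : g ∉ Cfsg.Geo.kroneckerSubgroup a b F)
    {c d : Fin b → F} (P : IsPlane fW c d) :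
    ∃ g' ∈ M, g' ∉ Cfsg.Geo.kroneckerSubgroup a b F ∧ rk fW c d g' < 2 * a := by
  classical
  have ha := S.three_le
  have hb := S.five_le
  have hsz : b = a + 1 ∨ a = b + 1 := by
    rcases S.sizes with h | h | h
    · exact Or.inl h
    · exact Or.inr h
    · exact Or.inl (by omega)
  by_contra hno
  push Not at hno
  obtain ⟨u₀, u₁, huu⟩ := S.exists_uu
  have hu₀ : u₀ ≠ 0 := fun e => huu (by rw [e, S.symU.form.zero_left])
  -- each `g⁻¹ (U ⊗ w)` is pure
  have hpw : ∀ w, fW w w ≠ 0 → ∃ (α : (Fin a → F) →ₗ[F] (Fin a → F)) (w' : Fin b → F),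
      ∀ u, op g⁻¹ (vecMulVec u w) = vecMulVec (α u) w' := by
    intro w hw
    have hw0 : w ≠ 0 := fun e => hw (by rw [e, S.symW.form.zero_left])
    obtain ⟨h, hh, hhX⟩ := hI w hw
    have hshift : ∀ X, op h X + X = (2 / fW w w) • vecMulVec (kap fW w X) w :=
      lin_ext (L := op h + LinearMap.id) (L' := (2 / fW w w) • (pl a w).comp (kap fW w)) fun u e => by
        simp only [LinearMap.add_apply, LinearMap.id_apply, LinearMap.smul_apply, LinearMap.comp_apply, pl_apply,
          hhX, S.kap_pure, pure_smul_left, smul_smul, pure_sub_right, pure_smul_right]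
        module
    set y := g⁻¹ * h * g with hy
    let L : Matrix (Fin a) (Fin b) F →ₗ[F] Matrix (Fin a) (Fin b) F := op y + LinearMap.id
    have hLX : ∀ X, L X = op g⁻¹ ((2 / fW w w) • vecMulVec (kap fW w (op g X)) w) := fun X => by
      rw [← hshift, map_add, op_inv_op, ← op_mul, ← op_mul]
      rfl
    have hL : ∀ X, L X = op y X + X := fun X => rfl
    have hLle : LinearMap.range L ≤ wsub g⁻¹ w := by
      rintro _ ⟨X, rfl⟩
      exact ⟨(2 / fW w w) • kap fW w (op g X), by
        rw [LinearMap.comp_apply, pl_apply, hLX, pure_smul_left]⟩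
    have hLdim : Module.finrank F (LinearMap.range L) ≤ a := by
      have := Submodule.finrank_mono hLle
      rwa [finrank_wsub g⁻¹ hw0] at this
    have hyK : y ∈ Cfsg.Geo.kroneckerSubgroup a b F := by
      by_contra hyK
      have h1 := hno y (M.mul_mem (M.mul_mem (M.inv_mem hg) hh) hg) hyK
      have h2 := S.rk_le_of_shift P L hL
      omega
    have hLeq : LinearMap.range L = wsub g⁻¹ w := by
      refine le_antisymm hLle ?_
      rintro _ ⟨x, rfl⟩
      obtain ⟨e, he⟩ := S.symW.form.exists_partner hw0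
      refine ⟨op g⁻¹ (vecMulVec ((fW w w / 2) • x) e), ?_⟩
      rw [hLX, op_op_inv, S.kap_pure, he, one_smul, pure_smul_left, smul_smul,
        div_mul_div_comm, mul_comm (2 : F), div_self (mul_ne_zero hw S.two), one_smul]
      rfl
    obtain ⟨A, C, hAC⟩ := hyK
    have hpure : ∀ u e, op y (vecMulVec u e) =
        vecMulVec ((A : Matrix (Fin a) (Fin a) F) *ᵥ u) ((C : Matrix (Fin b) (Fin b) F) *ᵥ e) := fun u e => by
      rw [op_kron hAC, mul_vecMulVec, vecMulVec_mul, vecMul_transpose]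
    rcases S.left_scalar_of_small (A := (A : Matrix (Fin a) (Fin a) F)) (C := (C : Matrix (Fin b) (Fin b) F))
      le_rfl L (fun u e => by rw [hL, hpure]) hLdim with hA | hC
    · obtain ⟨a₀, ha₀⟩ := exists_scalar_of_eigen (Matrix.mulVecLin (A : Matrix (Fin a) (Fin a) F)) hA
      simp only [Matrix.mulVecLin_apply] at ha₀
      obtain ⟨e, he⟩ : ∃ e, a₀ • ((C : Matrix (Fin b) (Fin b) F) *ᵥ e) + e ≠ 0 := by
        by_contra hall
        push Not at hall
        have hz : ∀ X, L X = 0 := lin_ext (L := L) (L' := 0) fun u e => by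
          rw [hL, hpure, ha₀, pure_smul_left, ← pure_smul_right, ← pure_add_right, hall, pure_zero_right,
            LinearMap.zero_apply]
        have hb' : LinearMap.range L = ⊥ := LinearMap.range_eq_bot.2 (LinearMap.ext hz)
        rw [hb'] at hLeq
        have := finrank_wsub g⁻¹ hw0 (a := a)
        rw [← hLeq, finrank_bot] at this
        omega
      set w' := a₀ • ((C : Matrix (Fin b) (Fin b) F) *ᵥ e) + e
      have hle : LinearMap.range (pl a w') ≤ wsub g⁻¹ w := by
        rintro _ ⟨u, rfl⟩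
        rw [← hLeq]
        exact ⟨vecMulVec u e, by rw [hL, hpure, ha₀, pure_smul_left, ← pure_smul_right, ← pure_add_right]; rfl⟩
      have heq := Submodule.eq_of_le_of_finrank_eq hle (by rw [finrank_range_pl he, finrank_wsub g⁻¹ hw0])
      obtain ⟨φ, hφ⟩ := exists_dot_one he
      refine ⟨(contr a φ).comp ((op g⁻¹).comp (pl a w)), w', fun u => ?_⟩
      obtain ⟨v, hv⟩ : op g⁻¹ (vecMulVec u w) ∈ LinearMap.range (pl a w') := by rw [heq]; exact ⟨u, rfl⟩
      rw [pl_apply] at hv
      show _ = vecMulVec (op g⁻¹ (vecMulVec u w) *ᵥ φ) w'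
      rw [← hv, pure_mulVec, hφ, one_smul]
    · exfalso
      obtain ⟨c₀, hc₀⟩ := exists_scalar_of_eigen (Matrix.mulVecLin (C : Matrix (Fin b) (Fin b) F)) hC
      simp only [Matrix.mulVecLin_apply] at hc₀
      let L₀ : (Fin a → F) →ₗ[F] (Fin a → F) :=
        c₀ • Matrix.mulVecLin (A : Matrix (Fin a) (Fin a) F) + LinearMap.id
      have hlft : ∀ X, L X = lft L₀ X := lin_ext fun u e => by
        rw [hL, hpure, hc₀, pure_smul_right, ← pure_smul_left, lft_pure, ← pure_add_left]; rfl
      have hrange : LinearMap.range L = LinearMap.range (TensorMixed.ofCols (s := b) (LinearMap.range L₀)) := by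
        refine le_antisymm ?_ ?_
        · rintro _ ⟨X, rfl⟩
          rw [hlft]
          exact TensorMixed.mem_range_ofCols fun j => TensorMixed.col_mem_range L₀ _ j
        · rintro _ ⟨f, rfl⟩
          choose z hz using fun j => LinearMap.mem_range.1 (f j).2
          refine ⟨Matrix.of fun i j => z j i, ?_⟩
          rw [hlft]
          ext i j
          show _ = (f j : Fin a → F) i
          rw [← hz j, ← LinearMap.toMatrix'_mulVec L₀]
          rfl
      have hdim : b * Module.finrank F (LinearMap.range L₀) = a := by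
        rw [← TensorMixed.finrank_range_ofCols (s := b) (LinearMap.range L₀), ← hrange, hLeq, finrank_wsub g⁻¹ hw0]
      rcases Nat.lt_or_ge (Module.finrank F (LinearMap.range L₀)) 2 with h2 | h2
      · rcases Nat.lt_or_ge (Module.finrank F (LinearMap.range L₀)) 1 with h1 | h1
        · rw [Nat.lt_one_iff.1 h1, mul_zero] at hdim; omega
        · rw [show Module.finrank F (LinearMap.range L₀) = 1 by omega, mul_one] at hdim; omega
      · have := Nat.mul_le_mul_left b h2
        omega
  -- a singular vector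
  obtain ⟨w, hwc, hw⟩ := S.symW.exists_aniso_orth (by omega) P.ne P.cc
  have hcw : fW c w = 0 := by rw [S.symW.symm w c]; exact hwc
  have hplus : fW (w + c) (w + c) ≠ 0 := by
    rw [S.symW.form.add_left, S.symW.form.add_right, S.symW.form.add_right, hwc, hcw, P.cc, add_zero, add_zero,
      add_zero]
    exact hw
  have hminus : fW (w - c) (w - c) ≠ 0 := by
    rw [S.symW.form.sub_left, S.symW.form.sub_right, S.symW.form.sub_right, hwc, hcw, P.cc, sub_zero, sub_zero,
      sub_zero]
    exact hw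
  obtain ⟨α, w', hα⟩ := hpw w hw
  obtain ⟨α₃, w₃, hα₃⟩ := hpw _ hplus
  obtain ⟨α₄, w₄, hα₄⟩ := hpw _ hminus
  have hsum : ∀ u, (2 : F) • vecMulVec (α u) w' = vecMulVec (α₃ u) w₃ + vecMulVec (α₄ u) w₄ := fun u => by
    rw [← hα₃, ← hα₄, ← hα, ← map_add, ← pure_add_right, ← map_smul, ← pure_smul_right]
    congr 2
    module
  have hc' : ∀ u, op g⁻¹ (vecMulVec u c) = vecMulVec (α₃ u) w₃ - vecMulVec (α u) w' := fun u => by
    rw [← hα₃, ← hα, ← map_sub, ← pure_sub_right, add_sub_cancel_left]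
  have hnz : ∀ (w₀ : Fin b → F), fW w₀ w₀ ≠ 0 → ∀ (β : (Fin a → F) →ₗ[F] (Fin a → F)) (v : Fin b → F),
      (∀ u, op g⁻¹ (vecMulVec u w₀) = vecMulVec (β u) v) → v ≠ 0 ∧ ∃ u, β u ≠ 0 := by
    intro w₀ h0 β v hv
    have hw00 : w₀ ≠ 0 := fun e => h0 (by rw [e, S.symW.form.zero_left])
    have key : op g⁻¹ (vecMulVec u₀ w₀) ≠ 0 := fun e =>
      hu₀ (pl_injective hw00 (op_injective g⁻¹ (e.trans (map_zero (op g⁻¹)).symm) |>.trans (map_zero (pl a w₀)).symm))
    refine ⟨fun e => key (by rw [hv, e, pure_zero_right]), u₀, fun e => key (by rw [hv, e, pure_zero_left])⟩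
  obtain ⟨hw₃0, u₃, hu₃⟩ := hnz _ hplus _ _ hα₃
  obtain ⟨hw₄0, u₄, hu₄⟩ := hnz _ hminus _ _ hα₄
  have hind : w₄ ∉ F ∙ w₃ := by
    intro hmem
    obtain ⟨t, ht⟩ := Submodule.mem_span_singleton.1 hmem
    have h4 : LinearMap.range (pl a w₄) ≤ LinearMap.range (pl a w₃) := by
      rintro _ ⟨u, rfl⟩
      exact ⟨t • u, by rw [pl_apply, pl_apply, ← ht, pure_smul_right, pure_smul_left]⟩
    have hle : ∀ (w₀ : Fin b → F) (β : (Fin a → F) →ₗ[F] (Fin a → F)) (v : Fin b → F), (∀ u, op g⁻¹ (vecMulVec u w₀) = vecMulVec (β u) v) →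
        wsub g⁻¹ w₀ ≤ LinearMap.range (pl a v) := fun w₀ β v hv => by
      rintro _ ⟨u, rfl⟩
      exact ⟨β u, (hv u).symm⟩
    have hw30 : w + c ≠ 0 := fun e => hplus (by rw [e, S.symW.form.zero_left])
    have heq : wsub g⁻¹ (w + c) = LinearMap.range (pl a w₃) := Submodule.eq_of_le_of_finrank_eq (hle _ _ _ hα₃)
      (by rw [finrank_range_pl hw₃0, finrank_wsub g⁻¹ hw30])
    obtain ⟨x, hx⟩ : op g⁻¹ (vecMulVec u₀ (w - c)) ∈ wsub g⁻¹ (w + c) :=
      heq ▸ h4 (hle _ _ _ hα₄ ⟨u₀, rfl⟩)
    have h' : vecMulVec x (w + c) = vecMulVec u₀ (w - c) := op_injective g⁻¹ hx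
    have h1 := congrArg (kap fW w) h'
    have hwcw : fW (w + c) w = fW w w := by rw [S.symW.form.add_left, hcw, add_zero]
    have hwcw' : fW (w - c) w = fW w w := by rw [S.symW.form.sub_left, hcw, sub_zero]
    rw [S.kap_pure, S.kap_pure, hwcw, hwcw'] at h1
    have hxu : x = u₀ := smul_right_injective _ hw h1
    rw [hxu, pure_add_right, pure_sub_right] at h'
    have h2 : (2 : F) • vecMulVec u₀ c = 0 := by
      rw [← sub_eq_zero] at h'
      rw [← h']; module
    exact hu₀ (pl_injective P.ne (((smul_eq_zero.1 h2).resolve_left S.two).trans (map_zero (pl a c)).symm))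
  have hind' : w₃ ∉ F ∙ w₄ := fun hmem => by
    obtain ⟨t, ht⟩ := Submodule.mem_span_singleton.1 hmem
    exact hind (Submodule.mem_span_singleton.2 ⟨t⁻¹, by
      rw [← ht, smul_smul, inv_mul_cancel₀ (fun e => hw₃0 (by rw [← ht, e, zero_smul])), one_smul]⟩)
  obtain ⟨ψ₃, h30, h31⟩ := exists_sep hind'
  have e3 : ∀ u, α₃ u = (2 * (w' ⬝ᵥ ψ₃)) • α u := fun u => by
    have h := congrArg (fun Z => Z *ᵥ ψ₃) (hsum u)
    simp only [add_mulVec, smul_mulVec, pure_mulVec, h31, h30 _ (Submodule.mem_span_singleton_self w₄), one_smul,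
      zero_smul, add_zero] at h
    rw [← h, smul_smul]
  have hpc : ∀ u, op g⁻¹ (vecMulVec u c) = vecMulVec (α u) ((2 * (w' ⬝ᵥ ψ₃)) • w₃ - w') := fun u => by
    rw [hc', e3, pure_smul_left, pure_sub_right, pure_smul_right]
  have hd0 : (2 * (w' ⬝ᵥ ψ₃)) • w₃ - w' ≠ 0 := fun e => by
    have h := hpc u₀
    rw [e, pure_zero_right] at h
    exact hu₀ (pl_injective P.ne (op_injective g⁻¹ (h.trans (map_zero (op g⁻¹)).symm) |>.trans (map_zero (pl a c)).symm))
  refine hgK ?_
  have h1 := S.kron_of_map K P.ne P.cc hd0 (M.inv_mem hg) fun u => ⟨α u, (hpc u).symm⟩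
  exact inv_mem_iff.1 h1

/-- `b ≥ a + 2`: by a Siegel element fixing a vector of the conjugate of the pair. -/
theorem exists_small_sieg (K : FixKron fW M) (hab : a + 2 ≤ b)
    {g : GL (Fin a × Fin b) F} (hg : g ∈ M) (hgK : g ∉ Cfsg.Geo.kroneckerSubgroup a b F)
    {c d : Fin b → F} (P : IsPlane fW c d) :
    ∃ g' ∈ M, g' ∉ Cfsg.Geo.kroneckerSubgroup a b F ∧ rk fW c d g' < 2 * a := by
  classical
  have ha := S.three_le
  have hb := S.five_le
  -- a vector of `g P` with small contractions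
  obtain ⟨x, hx0, hR⟩ : ∃ x, x ≠ 0 ∧ ∃ R : Submodule F (Fin b → F), 3 ≤ Module.finrank F R ∧
      ∀ v ∈ R, kap fW v (op g (pl2 a c d x)) = 0 := by
    let Lv : (Fin a → F) × (Fin a → F) → ((Fin b → F) →ₗ[F] (Fin a → F)) := fun x =>
      { toFun := fun v => kap fW v (op g (pl2 a c d x))
        map_add' := fun v w => S.kap_add v w _
        map_smul' := fun l v => S.kap_smul l v _ }
    have key : ∀ x, Module.finrank F (LinearMap.range (Lv x)) + 3 ≤ b →
        ∃ R : Submodule F (Fin b → F), 3 ≤ Module.finrank F R ∧ ∀ v ∈ R, kap fW v (op g (pl2 a c d x)) = 0 := by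
      intro x hx
      refine ⟨LinearMap.ker (Lv x), ?_, fun v hv => LinearMap.mem_ker.1 hv⟩
      have := (Lv x).finrank_range_add_finrank_ker
      rw [Module.finrank_fin_fun] at this
      omega
    by_cases hbig : a + 3 ≤ b
    · obtain ⟨u, hu⟩ : ∃ u : Fin a → F, u ≠ 0 := ⟨Pi.single ⟨0, by omega⟩ 1, by simp⟩
      refine ⟨(u, 0), fun e => hu (congrArg Prod.fst e), key _ ?_⟩
      have h1 := Submodule.finrank_le (LinearMap.range (Lv (u, 0)))
      rw [Module.finrank_fin_fun] at h1
      omega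
    obtain ⟨φ, hφ⟩ : ∃ φ : Fin a → F, φ ≠ 0 := ⟨Pi.single ⟨0, by omega⟩ 1, by simp⟩
    obtain ⟨x, hx, hx0⟩ := exists_ker_notMem ((rowc φ).comp ((op g).comp (pl2 a c d))) ⊥
      (by rw [finrank_bot, Module.finrank_prod, Module.finrank_fin_fun, Module.finrank_fin_fun]; omega)
    refine ⟨x, fun e => hx0 ((Submodule.mem_bot F).2 e), key x ?_⟩
    obtain ⟨ψ, hψ⟩ := exists_dot_one hφ
    let Lφ : (Fin a → F) →ₗ[F] F :=
      { toFun := fun t => φ ⬝ᵥ t
        map_add' := fun p q => dotProduct_add _ _ _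
        map_smul' := fun l p => dotProduct_smul _ _ _ }
    have hne : LinearMap.range Lφ = ⊤ :=
      LinearMap.range_eq_top.2 fun s => ⟨s • ψ, by
        show φ ⬝ᵥ (s • ψ) = s
        rw [dotProduct_smul, hψ, smul_eq_mul, mul_one]⟩
    have h1 := Lφ.finrank_range_add_finrank_ker
    rw [hne, finrank_top, Module.finrank_self, Module.finrank_fin_fun] at h1
    have h2 := Submodule.finrank_mono (show LinearMap.range (Lv x) ≤ LinearMap.ker Lφ by
      rintro _ ⟨v, rfl⟩
      rw [LinearMap.mem_ker]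
      show φ ⬝ᵥ (op g (pl2 a c d x) *ᵥ cov fW v) = 0
      rw [dotProduct_mulVec]
      rw [LinearMap.comp_apply, LinearMap.comp_apply, rowc_apply] at hx
      rw [hx, zero_dotProduct])
    omega
  obtain ⟨R, hR3, hR⟩ := hR
  obtain ⟨c', hc'R, hc'0, hc'⟩ := S.symW.exists_sing hR3
  obtain ⟨d', hd'R, hd'c, hd'n⟩ : ∃ d', d' ∈ R ∧ fW d' c' = 0 ∧ d' ∉ F ∙ c' := by
    let φ : R →ₗ[F] F :=
      { toFun := fun v => fW v c'
        map_add' := fun p q => S.symW.form.add_left _ _ _
        map_smul' := fun l p => S.symW.form.smul_left _ _ _ }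
    obtain ⟨v, hv, hvn⟩ := exists_ker_notMem φ ((F ∙ c').comap R.subtype) (by
      have h3 : Module.finrank F ((F ∙ c').comap R.subtype) ≤ 1 := by
        refine le_trans (LinearMap.finrank_le_finrank_of_injective
          (f := (R.subtype.comp ((F ∙ c').comap R.subtype).subtype).codRestrict (F ∙ c') fun v => v.2)
          (fun v w e => Subtype.ext (Subtype.ext (congrArg (fun t : (F ∙ c') => (t : Fin b → F)) e)))) ?_
        exact (finrank_span_le_card ({c'} : Set (Fin b → F))).trans (by simp)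
      rw [Module.finrank_self]
      omega)
    exact ⟨v, v.2, hv, hvn⟩
  have hc'd : fW c' d' = 0 := by rw [S.symW.symm d' c']; exact hd'c
  obtain ⟨h, hh, -, hhX⟩ := S.exists_E hc' hc'd
  set y := g⁻¹ * h * g with hy
  have hyM : y ∈ M := M.mul_mem (M.mul_mem (M.inv_mem hg) hh) hg
  have hfix : op y (pl2 a c d x) = pl2 a c d x := by
    rw [hy, op_mul, op_mul, hhX, hR c' hc'R, hR d' hd'R]
    simp only [pure_zero_left, smul_zero, add_zero, sub_zero, op_inv_op]
  by_contra hno
  push Not at hno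
  have hyK : y ∈ Cfsg.Geo.kroneckerSubgroup a b F := by
    by_contra hyK
    exact absurd (rk_lt_of_zero hx0 (by rw [pim_apply, hfix, (S.kap_pl2 P x).1, (S.kap_pl2 P x).2]; rfl))
      (not_lt.2 (hno y hyM hyK))
  refine hgK (inv_mem_iff.1 ?_)
  have hyK' : g⁻¹ * h * (g⁻¹)⁻¹ ∈ Cfsg.Geo.kroneckerSubgroup a b F := by rwa [inv_inv]
  by_cases hdd : fW d' d' = 0
  · exact S.kron_of_conj K hc'0 hc' hdd hc'd hd'n (M.inv_mem hg) (t := h) (fun X => by
      rw [hhX, hdd, zero_div, zero_smul, sub_zero, add_sub_assoc]) hyK'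
  -- the anisotropic case
  obtain ⟨p, hp⟩ := CharP.exists F
  haveI : Fact p.Prime := ⟨CharP.char_is_prime F p⟩
  have hp3 : 3 ≤ p := by
    have h2 := (Fact.out : p.Prime).two_le
    rcases Nat.lt_or_ge p 3 with h | h
    · exfalso
      obtain rfl : p = 2 := by omega
      exact S.two (by exact_mod_cast (CharP.cast_eq_zero F 2))
    · exact h
  set k := fW d' d' / 2 with hk
  have hhp : h ^ p = 1 := by
    haveI : Nontrivial (Module.End F (Matrix (Fin a) (Fin b) F)) := by
      obtain ⟨u, u', huu⟩ := S.exists_uu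
      refine ⟨⟨0, 1, fun e => huu ?_⟩⟩
      have := LinearMap.congr_fun e (pl a c' u)
      rw [show u = 0 from pl_injective hc'0 (this.symm.trans (map_zero (pl a c')).symm), S.symU.form.zero_left]
    haveI : CharP (Module.End F (Matrix (Fin a) (Fin b) F)) p :=
      charP_of_injective_algebraMap (algebraMap F _).injective p
    haveI : ExpChar (Module.End F (Matrix (Fin a) (Fin b) F)) p := ExpChar.prime Fact.out
    set D : Module.End F (Matrix (Fin a) (Fin b) F) := op h - 1 with hD
    have hDX : ∀ X, D X = vecMulVec (kap fW c' X) d' - vecMulVec (kap fW d' X) c'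
        - k • vecMulVec (kap fW c' X) c' := fun X => by
      rw [hD, LinearMap.sub_apply, Module.End.one_apply, hhX]; abel
    have h3 : D ^ 3 = 0 := LinearMap.ext fun X => by
      rw [show D ^ 3 = D * (D * D) by rw [← mul_assoc, pow_succ, pow_two]]
      simp only [Module.End.mul_apply, LinearMap.zero_apply, hDX, map_sub, map_smul, S.kap_pure, hc', hc'd, hd'c,
        zero_smul, smul_zero, sub_zero, pure_zero_left, pure_smul_left, map_zero]
    have hDp : D ^ p = 0 := by rw [← pow_sub_mul_pow D hp3, h3, mul_zero]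
    rw [hD, sub_pow_expChar_of_commute p (Commute.one_right _), one_pow, sub_eq_zero] at hDp
    refine ext_op fun X => ?_
    have := LinearMap.congr_fun ((map_pow (TensorMixed.opHom (F := F) (r := a) (s := b)) h p).trans hDp) X
    rw [op_one]
    exact this
  have hyp : (g⁻¹ * h * g) ^ p = 1 := by
    have := conj_pow (a := g⁻¹) (b := h) (i := p)
    rw [inv_inv] at this
    rw [this, hhp, mul_one, inv_mul_cancel]
  obtain ⟨A, C, hAC⟩ := hyK
  have hpure : ∀ u e, op y (vecMulVec u e) =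
      vecMulVec ((A : Matrix (Fin a) (Fin a) F) *ᵥ u) ((C : Matrix (Fin b) (Fin b) F) *ᵥ e) := fun u e => by
    rw [op_kron hAC, mul_vecMulVec, vecMulVec_mul, vecMul_transpose]
  have hshift : ∀ X, op y X - X = op g⁻¹ (vecMulVec (kap fW c' (op g X)) d' - vecMulVec (kap fW d' (op g X)) c'
      - k • vecMulVec (kap fW c' (op g X)) c') := fun X => by
    rw [hy, op_mul, op_mul, hhX]
    simp only [map_sub, map_add, op_inv_op]
    abel
  have hA := S.left_scalar_of_unipotent (p := p) (by omega) hyM hpure (op_kron hAC) hyp (by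
    refine le_trans (Submodule.finrank_mono (show LinearMap.range (op y - LinearMap.id) ≤
      LinearMap.range ((op g⁻¹).comp (pl2 a d' c')) by
        rintro _ ⟨X, rfl⟩
        refine ⟨(kap fW c' (op g X), -(kap fW d' (op g X) + k • kap fW c' (op g X))), ?_⟩
        rw [LinearMap.sub_apply, LinearMap.id_apply, hshift, LinearMap.comp_apply, pl2_apply, pure_neg_left,
          pure_add_left, pure_smul_left]
        congr 1
        abel)) ?_
    rw [LinearMap.range_comp]
    exact (Submodule.finrank_map_le _ _).trans (S.finrank_pair_le d' c'))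
  obtain ⟨a₀, ha₀⟩ := exists_scalar_of_eigen (Matrix.mulVecLin (A : Matrix (Fin a) (Fin a) F)) hA
  simp only [Matrix.mulVecLin_apply] at ha₀
  let jf : (Fin b → F) →ₗ[F] (Fin b → F) :=
    a₀ • Matrix.mulVecLin (C : Matrix (Fin b) (Fin b) F) - LinearMap.id
  let D : Matrix (Fin a) (Fin b) F →ₗ[F] Matrix (Fin a) (Fin b) F := op y - LinearMap.id
  have hDj : ∀ u e, D (vecMulVec u e) = vecMulVec u (jf e) := fun u e => by
    show op y (vecMulVec u e) - vecMulVec u e = _
    rw [hpure, ha₀, pure_smul_left, ← pure_smul_right, ← pure_sub_right]; rfl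
  have hD2 : ∀ X, D (D X) = -(2 * k) • op g⁻¹ (vecMulVec (kap fW c' (op g X)) c') := fun X => by
    show op y (D X) - D X = _
    rw [hshift, show D X = op y X - X from rfl, hshift X, op_op_inv]
    simp only [map_sub, map_smul, S.kap_pure, hc', hc'd, hd'c, zero_smul, smul_zero, sub_zero, pure_zero_left,
      map_zero, pure_smul_left]
    rw [show fW d' d' = 2 * k by rw [hk, mul_div_cancel₀ _ S.two]]
    module
  have hk0 : -(2 * k) ≠ 0 := neg_ne_zero.2 (mul_ne_zero S.two (div_ne_zero hdd S.two))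
  obtain ⟨e', he'⟩ := S.symW.form.exists_partner hc'0
  have himg : ∀ u, op g⁻¹ (vecMulVec u c') ∈ LinearMap.range (D.comp D) := fun u => by
    refine ⟨op g⁻¹ (vecMulVec ((-(2 * k))⁻¹ • u) e'), ?_⟩
    rw [LinearMap.comp_apply, hD2, op_op_inv, S.kap_pure, he', one_smul, pure_smul_left, map_smul, smul_smul,
      mul_inv_cancel₀ hk0, one_smul]
  obtain ⟨e, he⟩ : ∃ e, jf (jf e) ≠ 0 := by
    by_contra hall
    push Not at hall
    obtain ⟨u, u', huu⟩ := S.exists_uu
    have hz : ∀ X, D (D X) = 0 := lin_ext (L := D.comp D) (L' := 0) fun v e => by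
      rw [LinearMap.comp_apply, hDj, hDj, hall, pure_zero_right, LinearMap.zero_apply]
    obtain ⟨X, hX⟩ := himg u
    rw [LinearMap.comp_apply, hz] at hX
    exact huu (by rw [show u = 0 from pl_injective hc'0
      ((op_injective g⁻¹ (hX.symm.trans (map_zero (op g⁻¹)).symm)).trans (map_zero (pl a c')).symm),
      S.symU.form.zero_left])
  have hle : LinearMap.range (pl a (jf (jf e))) ≤ wsub g⁻¹ c' := by
    rintro _ ⟨u, rfl⟩
    refine ⟨-(2 * k) • kap fW c' (op g (vecMulVec u e)), ?_⟩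
    rw [LinearMap.comp_apply, pl_apply, pl_apply, pure_smul_left, map_smul, ← hD2, hDj, hDj]
  have heq := Submodule.eq_of_le_of_finrank_eq hle (by rw [finrank_range_pl he, finrank_wsub g⁻¹ hc'0])
  exact S.kron_of_map K hc'0 hc' he (M.inv_mem hg) fun u => heq ▸ ⟨u, rfl⟩

/-- Something outside the Kronecker group has a degenerate pairing. -/
theorem exists_small (K : FixKron fW M) (hI : ¬ a + 2 ≤ b → HasInvol fW M)
    {g : GL (Fin a × Fin b) F} (hg : g ∈ M) (hgK : g ∉ Cfsg.Geo.kroneckerSubgroup a b F) :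
    ∃ g' ∈ M, g' ∉ Cfsg.Geo.kroneckerSubgroup a b F ∧ ∃ c d, IsPlane fW c d ∧ rk fW c d g' < 2 * a := by
  obtain ⟨c, d, P⟩ := S.exists_plane
  by_cases hab : a + 2 ≤ b
  · obtain ⟨g', h1, h2, h3⟩ := S.exists_small_sieg K hab hg hgK P
    exact ⟨g', h1, h2, c, d, P, h3⟩
  · obtain ⟨g', h1, h2, h3⟩ := S.exists_small_invol K (hI hab) hab hg hgK P
    exact ⟨g', h1, h2, c, d, P, h3⟩

end OOSetup

end Cfsg.Agent.Lib.TensorOrth
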