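import Cfsg.Agent.Lib.TensorForm.RankOne
import Cfsg.Agent.Lib.TensorMax.Basic
import Cfsg.Agent.Lib.FormMax.OrthBasic
import Cfsg.Agent.Lib.Forms.Basic

/-!
A space with a symmetric form in odd characteristic: reflections, Siegel maps as commutators, and small facts.
-/

set_option autoImplicit false
set_option linter.unusedSectionVars false

namespace Cfsg.Agent.Lib.TensorOrth

open Matrix Cfsg.Agent.Lib Cfsg.Agent.Lib.TensorMax Cfsg.Agent.Lib.TensorForm

variable {F : Type*} [Field F] {n : ℕ}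

/-- Linear maps preserving a form. -/
def IsIso (f : (Fin n → F) → (Fin n → F) → F) (α : (Fin n → F) →ₗ[F] (Fin n → F)) : Prop :=
  ∀ x y, f (α x) (α y) = f x y

/-- Commutators of isometries. -/
def IsComm (f : (Fin n → F) → (Fin n → F) → F) (α : (Fin n → F) →ₗ[F] (Fin n → F)) : Prop :=
  ∃ p q, IsIso f p ∧ IsIso f q ∧ ∀ x, α (q (p x)) = p (q x)

/-- A non-degenerate symmetric form, `2 ≠ 0`. -/
structure IsSym (f : (Fin n → F) → (Fin n → F) → F) : Prop where
  form : IsSForm (RingHom.id F) 1 f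
  two : (2 : F) ≠ 0

/-- The reflection at an anisotropic vector. -/
def refl {f : (Fin n → F) → (Fin n → F) → F} (hf : IsSym f) (u : Fin n → F) :
    (Fin n → F) →ₗ[F] (Fin n → F) :=
  LinearMap.id - (2 / f u u) • rk1 hf.form u u

/-- `x ↦ x + f(x,z) w - f(x,w) z - (f(w,w)/2) f(x,z) z`. -/
def sieg {f : (Fin n → F) → (Fin n → F) → F} (hf : IsSym f) (z w : Fin n → F) :
    (Fin n → F) →ₗ[F] (Fin n → F) :=
  LinearMap.id + rk1 hf.form w z - rk1 hf.form z w - (f w w / 2) • rk1 hf.form z z

namespace IsSym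

variable {f : (Fin n → F) → (Fin n → F) → F} (hf : IsSym f)
include hf

theorem symm (u v : Fin n → F) : f v u = f u v := by rw [hf.form.symm u v, RingHom.id_apply, one_mul]

theorem smul_right (l : F) (u v : Fin n → F) : f u (l • v) = l * f u v := hf.form.smul_right l u v

theorem ext {v w : Fin n → F} (h : ∀ u, f v u = f w u) : v = w := by
  by_contra hne
  obtain ⟨u, hu⟩ := hf.form.nondeg (v - w) (sub_ne_zero.2 hne)
  exact hu (by rw [hf.form.sub_left, h, sub_self])

theorem polarise {x y : Fin n → F} (hx : f x x = 0) (hy : f y y = 0) (hxy : f (x + y) (x + y) = 0) :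
    f x y = 0 := by
  rw [hf.form.add_left, hf.form.add_right, hf.form.add_right, hx, hy, hf.symm x y] at hxy
  exact (mul_eq_zero.1 (show 2 * f x y = 0 by linear_combination hxy)).resolve_left hf.two

/-- The form as a bilinear map. -/
noncomputable def bil : LinearMap.BilinForm F (Fin n → F) :=
  LinearMap.mk₂ F f hf.form.add_left hf.form.smul_left hf.form.add_right hf.smul_right

theorem bil_apply (u v : Fin n → F) : hf.bil u v = f u v := rfl

theorem good : Forms.IsGoodForm (V := Fin n → F) hf.bil 1 :=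
  Forms.IsGoodForm.of_isSymm ⟨fun u v => by rw [hf.bil_apply, hf.bil_apply]; exact (hf.symm u v).symm⟩
    ⟨fun u hu => hf.ext fun v => by rw [hf.form.zero_left]; exact hu v,
     fun v hv => hf.ext fun u => by rw [hf.form.zero_left, hf.symm u v]; exact hv u⟩ hf.two

theorem refl_apply (u x : Fin n → F) : refl hf u x = x - (2 / f u u * f x u) • u := by
  simp only [refl, LinearMap.sub_apply, LinearMap.id_apply, LinearMap.smul_apply, rk1_apply, smul_smul]

theorem refl_iso {u : Fin n → F} (hu : f u u ≠ 0) : IsIso f (refl hf u) := fun x y => by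
  have h : 2 / f u u * f u u = 2 := div_mul_cancel₀ _ hu
  have e : f u y = f y u := hf.symm y u
  simp only [hf.refl_apply, hf.form.sub_left, hf.form.sub_right, hf.form.smul_left, hf.smul_right]
  rw [e]
  linear_combination (2 / f u u * f x u * f y u) * h

theorem refl_self {u : Fin n → F} (hu : f u u ≠ 0) : refl hf u u = -u := by
  rw [hf.refl_apply, div_mul_cancel₀ _ hu]
  module

theorem refl_fix (u : Fin n → F) {x : Fin n → F} (h : f x u = 0) : refl hf u x = x := by
  rw [hf.refl_apply, h, mul_zero, zero_smul, sub_zero]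

theorem refl_refl {u : Fin n → F} (hu : f u u ≠ 0) (x : Fin n → F) : refl hf u (refl hf u x) = x := by
  rw [hf.refl_apply u x, map_sub, map_smul, hf.refl_self hu, hf.refl_apply u x, smul_neg, sub_neg_eq_add,
    sub_add_cancel]

theorem sieg_apply (z w x : Fin n → F) :
    sieg hf z w x = x + f x z • w - f x w • z - (f w w / 2 * f x z) • z := by
  simp only [sieg, LinearMap.sub_apply, LinearMap.add_apply, LinearMap.id_apply, LinearMap.smul_apply, rk1_apply,
    smul_smul]

theorem sieg_iso {z w : Fin n → F} (hz : f z z = 0) (hzw : f z w = 0) : IsIso f (sieg hf z w) := fun x y => by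
  simp only [hf.sieg_apply, hf.form.add_left, hf.form.add_right, hf.form.sub_left, hf.form.sub_right,
    hf.form.smul_left, hf.smul_right, hz, hzw, show f w z = 0 by rw [hf.symm z w]; exact hzw]
  linear_combination (f x z) * hf.symm y w - (f x w) * hf.symm y z - f w w / 2 * f x z * hf.symm y z
    - f x z * f y z * div_mul_cancel₀ (f w w) hf.two

theorem sieg_adj (z w x y : Fin n → F) : f (sieg hf z w x) y = f x (sieg hf z (-w) y) := by
  simp only [hf.sieg_apply, hf.form.add_left, hf.form.add_right, hf.form.sub_left, hf.form.sub_right,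
    hf.form.smul_left, hf.smul_right, ← neg_one_smul F w]
  rw [hf.symm y w, hf.symm y z]
  ring

theorem sieg_neg {z w : Fin n → F} (hz : f z z = 0) (hzw : f z w = 0) (x : Fin n → F) :
    sieg hf z (-w) (sieg hf z w x) = x := by
  refine hf.ext fun u => ?_
  rw [hf.sieg_adj, neg_neg, hf.sieg_iso hz hzw]

variable [Finite F]

theorem exists_adj (L : (Fin n → F) →ₗ[F] (Fin n → F)) :
    ∃ L' : (Fin n → F) →ₗ[F] (Fin n → F), ∀ u v, f u (L' v) = f (L u) v := by
  let C : (Fin n → F) →ₗ[F] (Fin n → F) :=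
    { toFun := cov f
      map_add' := hf.form.cov_add
      map_smul' := fun l c => by rw [hf.form.cov_smul] }
  let E := LinearEquiv.ofBijective C ⟨hf.form.cov_injective, fun ψ => hf.form.exists_cov ψ⟩
  refine ⟨E.symm.toLinearMap ∘ₗ (Matrix.mulVecLin (LinearMap.toMatrix' L)ᵀ) ∘ₗ C, fun u v => ?_⟩
  have h : cov f (E.symm ((LinearMap.toMatrix' L)ᵀ *ᵥ cov f v)) = (LinearMap.toMatrix' L)ᵀ *ᵥ cov f v :=
    E.apply_symm_apply _
  show f u (E.symm ((LinearMap.toMatrix' L)ᵀ *ᵥ cov f v)) = f (L u) v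
  rw [← hf.form.dot_cov, h, mulVec_transpose, dotProduct_comm, ← dotProduct_mulVec, dotProduct_comm,
    LinearMap.toMatrix'_mulVec, hf.form.dot_cov]

theorem exists_orth {j : ℕ} (u : Fin j → Fin n → F) (T : Submodule F (Fin n → F))
    (h : j + Module.finrank F T < n) : ∃ v, (∀ i, f v (u i) = 0) ∧ v ∉ T := by
  obtain ⟨φ, hφ, hφT⟩ := exists_perp (fun i => cov f (u i)) T h
  exact ⟨φ, fun i => by rw [← hf.form.dot_cov, dotProduct_comm]; exact hφ i, hφT⟩

theorem exists_dual_out {T : Submodule F (Fin n → F)} {p : Fin n → F} (hp : p ∉ T) :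
    ∃ w, (∀ t ∈ T, f w t = 0) ∧ f w p = 1 := by
  obtain ⟨φ, hφ0, hφ1⟩ := exists_sep hp
  obtain ⟨w, rfl⟩ := hf.form.exists_cov φ
  exact ⟨w, fun t ht => by rw [hf.symm t w, ← hf.form.dot_cov]; exact hφ0 t ht,
    by rw [hf.symm p w, ← hf.form.dot_cov]; exact hφ1⟩

/-- A singular vector in a subspace of dimension at least `3`. -/
theorem exists_sing {K : Submodule F (Fin n → F)} (h : 3 ≤ Module.finrank F K) :
    ∃ z ∈ K, z ≠ 0 ∧ f z z = 0 := by
  let L : (Fin (Module.finrank F K) → F) →ₗ[F] (Fin n → F) :=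
    K.subtype.comp (Module.finBasis F K).equivFun.symm.toLinearMap
  have hL : Function.Injective L :=
    Subtype.val_injective.comp (Module.finBasis F K).equivFun.symm.injective
  obtain ⟨x, hx0, hx⟩ := FormMax.OrthSL.exists_zero_fin hf.two h
    ((LinearMap.BilinMap.toQuadraticMap hf.bil).comp L)
  exact ⟨L x, ((Module.finBasis F K).equivFun.symm x).2, fun e => hx0 (hL (by rw [e, map_zero])), hx⟩

/-- A singular partner of a singular vector, orthogonal to a given orthogonal vector. -/
theorem exists_partner {z w : Fin n → F} (hz : f z z = 0) (hzw : f z w = 0) (hw : z ∉ F ∙ w) :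
    ∃ z', f z' z' = 0 ∧ f z z' = 1 ∧ f w z' = 0 := by
  obtain ⟨v, hv0, hv1⟩ := hf.exists_dual_out hw
  refine ⟨v - (f v v / 2) • z, ?_, ?_, ?_⟩
  · simp only [hf.form.sub_left, hf.form.sub_right, hf.form.smul_left, hf.smul_right, hz]
    rw [hf.symm v z, hv1]
    linear_combination -div_mul_cancel₀ (f v v) hf.two
  · rw [hf.form.sub_right, hf.smul_right, hz, hf.symm v z, hv1, mul_zero, sub_zero]
  · rw [hf.form.sub_right, hf.smul_right, hf.symm v w, hv0 w (Submodule.mem_span_singleton_self w),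
      hf.symm z w, hzw, mul_zero, sub_zero]

theorem exists_partner_self {z : Fin n → F} (hz0 : z ≠ 0) (hz : f z z = 0) :
    ∃ z', f z' z' = 0 ∧ f z z' = 1 := by
  obtain ⟨z', h1, h2, -⟩ := hf.exists_partner (w := 0) hz (hf.form.zero_right z)
    (by rw [Submodule.span_zero_singleton]; simpa using hz0)
  exact ⟨z', h1, h2⟩

/-- Siegel maps are commutators of isometries. -/
theorem sieg_comm {z w : Fin n → F} (hz : f z z = 0) (hzw : f z w = 0) : IsComm f (sieg hf z w) := by
  by_cases hw : z ∈ F ∙ w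
  · refine ⟨LinearMap.id, LinearMap.id, fun _ _ => rfl, fun _ _ => rfl, fun x => ?_⟩
    simp only [LinearMap.id_apply]
    obtain ⟨l, hl⟩ := Submodule.mem_span_singleton.1 hw
    by_cases hl0 : l = 0
    · rw [← hl, hl0, zero_smul, hf.sieg_apply]
      simp [hf.form.zero_right]
    · have hw' : w = l⁻¹ • z := by rw [← hl, smul_smul, inv_mul_cancel₀ hl0, one_smul]
      rw [hf.sieg_apply, hw', hf.form.smul_left, hf.smul_right, hf.smul_right, hz, smul_smul]
      module
  obtain ⟨z', hz', hzz', hwz'⟩ := hf.exists_partner hz hzw hw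
  have hz'z : f z' z = 1 := by rw [hf.symm z z']; exact hzz'
  have hwz : f w z = 0 := by rw [hf.symm z w]; exact hzw
  let p : (Fin n → F) →ₗ[F] (Fin n → F) :=
    LinearMap.id - (2 : F) • rk1 hf.form z z' - (2 : F) • rk1 hf.form z' z
  have hp : ∀ x, p x = x - (2 * f x z') • z - (2 * f x z) • z' := fun x => by
    simp only [p, LinearMap.sub_apply, LinearMap.id_apply, LinearMap.smul_apply, rk1_apply, smul_smul]
  have hpi : IsIso f p := fun x y => by
    simp only [hp, hf.form.sub_left, hf.form.sub_right, hf.form.smul_left, hf.smul_right, hz, hz', hzz', hz'z]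
    rw [hf.symm y z, hf.symm y z']
    ring
  set w' := (-(2 : F)⁻¹) • w with hw'
  have hzw' : f z w' = 0 := by rw [hw', hf.smul_right, hzw, mul_zero]
  refine ⟨p, sieg hf z w', hpi, hf.sieg_iso hz hzw', fun x => ?_⟩
  have h2 := hf.two
  simp only [hp, hf.sieg_apply, hw', map_sub, map_add, map_smul, hf.form.sub_left, hf.form.add_left,
    hf.form.smul_left, hf.smul_right, hz, hz', hzz', hz'z, hzw, hwz, hwz', show f z' w = 0 by rw [hf.symm w z']; exact hwz']
  match_scalars <;> field_simp <;> ring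

/-- The torus of a hyperbolic pair, for square values, is a commutator of isometries. -/
theorem exists_torus {z z' : Fin n → F} (hz : f z z = 0) (hz' : f z' z' = 0) (hzz' : f z z' = 1) {ν : F}
    (hν : ν ≠ 0) : ∃ α, IsComm f α ∧ IsIso f α ∧ α z = (ν * ν) • z ∧
      ∀ x, f x z = 0 → f x z' = 0 → α x = x := by
  have hz'z : f z' z = 1 := by rw [hf.symm z z']; exact hzz'
  let tor : F → (Fin n → F) →ₗ[F] (Fin n → F) := fun t =>
    LinearMap.id + (t - 1) • rk1 hf.form z z' + (t⁻¹ - 1) • rk1 hf.form z' z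
  have ht : ∀ t x, tor t x = x + ((t - 1) * f x z') • z + ((t⁻¹ - 1) * f x z) • z' := fun t x => by
    simp only [tor, LinearMap.add_apply, LinearMap.id_apply, LinearMap.smul_apply, rk1_apply, smul_smul]
  have hti : ∀ t, t ≠ 0 → IsIso f (tor t) := fun t h0 x y => by
    simp only [ht, hf.form.add_left, hf.form.add_right, hf.form.smul_left, hf.smul_right, hz, hz', hzz', hz'z]
    rw [hf.symm y z, hf.symm y z']
    field_simp
    ring
  have hne : f (z - z') (z - z') ≠ 0 := by
    rw [hf.form.sub_left, hf.form.sub_right, hf.form.sub_right, hz, hz', hzz', hz'z]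
    intro e; exact hf.two (by linear_combination -e)
  have hνν := mul_ne_zero hν hν
  refine ⟨tor (ν * ν), ⟨tor ν, refl hf (z - z'), hti ν hν, hf.refl_iso hne, fun x => ?_⟩, hti _ hνν, ?_, fun x h1 h2 => ?_⟩
  · have h2 := hf.two
    have hn : (-2 : F) ≠ 0 := neg_ne_zero.2 hf.two
    simp only [ht, hf.refl_apply, map_add, map_sub, map_smul, hf.form.add_left, hf.form.sub_left, hf.form.sub_right,
      hf.form.add_right, hf.form.smul_left, hf.smul_right, hz, hz', hzz', hz'z]
    rw [show (0 : F) - 1 - (1 - 0) = -2 by ring]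
    match_scalars <;> field_simp <;> ring
  · rw [ht, hzz', hz, mul_one, mul_zero, zero_smul, add_zero, ← one_smul F z]
    module
  · rw [ht, h1, h2, mul_zero, mul_zero, zero_smul, zero_smul, add_zero, add_zero]

/-- A non-degenerate subspace is not split by a proper subspace containing all its anisotropic vectors up to
orthogonality. -/
theorem split_eq {T R : Submodule F (Fin n → F)}
    (hT : ∀ x ∈ T, (∀ y ∈ T, f x y = 0) → x = 0)
    (hd : 5 ≤ Nat.card F ∨ 3 ≤ Module.finrank F T) (hR : R ≤ T) (hne : R ≠ ⊥)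
    (h : ∀ v ∈ T, f v v ≠ 0 → v ∈ R ∨ ∀ x ∈ R, f v x = 0) : R = T := by
  refine le_antisymm hR fun p hp => ?_
  by_contra hpR
  obtain ⟨x₀, hx₀, hx₀0⟩ := Submodule.exists_mem_ne_zero_of_ne_bot hne
  obtain ⟨φ, hφR, hφp⟩ := exists_sep hpR
  obtain ⟨p₂, hp₂, hp₂x⟩ : ∃ p₂ ∈ T, f p₂ x₀ ≠ 0 := by
    by_contra hno
    push Not at hno
    exact hx₀0 (hT x₀ (hR hx₀) fun y hy => by rw [hf.symm y x₀]; exact hno y hy)
  have key : ∀ v ∈ T, v ⬝ᵥ φ ≠ 0 → f v x₀ ≠ 0 → f v v = 0 := fun v hv h1 h2 => by
    by_contra hvv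
    rcases h v hv hvv with h' | h'
    · exact h1 (hφR v h')
    · exact h2 (h' x₀ hx₀)
  obtain ⟨y, hy, hy1, hy2⟩ : ∃ y ∈ T, y ⬝ᵥ φ ≠ 0 ∧ f y x₀ ≠ 0 := by
    by_cases h2 : f p x₀ = 0
    swap
    · exact ⟨p, hp, by rw [hφp]; exact one_ne_zero, h2⟩
    by_cases h1 : p₂ ⬝ᵥ φ = 0
    swap
    · exact ⟨p₂, hp₂, h1, hp₂x⟩
    exact ⟨p + p₂, T.add_mem hp hp₂, by rw [add_dotProduct, hφp, h1, add_zero]; exact one_ne_zero,
      by rw [hf.form.add_left, h2, zero_add]; exact hp₂x⟩
  have hline : ∀ x t, f x x = 0 → f (x + t) (x + t) = 0 → 2 * f x t + f t t = 0 := fun x t h1 h2 => by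
    rw [hf.form.add_left, hf.form.add_right, hf.form.add_right, h1, hf.symm x t] at h2
    linear_combination h2
  -- along a line through an outside point only few parameters are bad
  have hgood : ∀ (x v : Fin n → F) (k : Finset F), 2 < k.card →
      (v ⬝ᵥ φ ≠ 0 ∨ x ⬝ᵥ φ ≠ 0) → (f v x₀ ≠ 0 ∨ f x x₀ ≠ 0) →
      ∃ t ∈ k, (x + t • v) ⬝ᵥ φ ≠ 0 ∧ f (x + t • v) x₀ ≠ 0 := by
    classical
    intro x v k hk h1 h2
    by_contra hno
    push Not at hno
    have : k ⊆ {-(x ⬝ᵥ φ) / (v ⬝ᵥ φ), -f x x₀ / f v x₀} := fun t ht => by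
      rw [Finset.mem_insert, Finset.mem_singleton]
      by_cases h3 : (x + t • v) ⬝ᵥ φ = 0
      · rw [add_dotProduct, smul_dotProduct, smul_eq_mul] at h3
        left
        have hv : v ⬝ᵥ φ ≠ 0 := fun e => by
          rw [e, mul_zero, add_zero] at h3
          exact h1.elim (· e) (· h3)
        rw [eq_div_iff hv]; linear_combination h3
      · have h4 := hno t ht h3
        rw [hf.form.add_left, hf.form.smul_left] at h4
        right
        have hv : f v x₀ ≠ 0 := fun e => by
          rw [e, mul_zero, add_zero] at h4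
          exact h2.elim (· e) (· h4)
        rw [eq_div_iff hv]; linear_combination h4
    have := (Finset.card_le_card this).trans Finset.card_le_two
    omega
  classical
  rcases hd with hd | hd
  · obtain ⟨v, hv, hvv⟩ : ∃ v ∈ T, f v v ≠ 0 := by
      by_contra hno
      push Not at hno
      refine hy1 ?_
      rw [hT y hy fun z hz => ?_, zero_dotProduct]
      have := hline y z (hno y hy) (hno _ (T.add_mem hy hz))
      rw [hno z hz, add_zero] at this
      exact (mul_eq_zero.1 this).resolve_left hf.two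
    let := Fintype.ofFinite F
    have hk : 2 < ((Finset.univ : Finset F) \ {0, -(2 * f y v) / f v v}).card := by
      have h1 := Finset.le_card_sdiff ({0, -(2 * f y v) / f v v} : Finset F) Finset.univ
      have h2 : ({0, -(2 * f y v) / f v v} : Finset F).card ≤ 2 := Finset.card_le_two
      rw [Finset.card_univ, ← Nat.card_eq_fintype_card] at h1
      omega
    obtain ⟨t, ht, h1, h2⟩ := hgood y v _ hk (Or.inr hy1) (Or.inr hy2)
    have ht' := (Finset.mem_sdiff.1 ht).2
    rw [Finset.mem_insert, Finset.mem_singleton] at ht'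
    push Not at ht'
    have := hline y (t • v) (key y hy hy1 hy2) (key _ (T.add_mem hy (T.smul_mem t hv)) h1 h2)
    rw [hf.smul_right, hf.form.smul_left, hf.smul_right] at this
    refine ht'.2 ?_
    rw [eq_div_iff hvv]
    exact mul_left_cancel₀ ht'.1 (by linear_combination this)
  · obtain ⟨t, ⟨ht, ht1, ht2⟩, ht0⟩ : ∃ t, (t ∈ T ∧ t ⬝ᵥ φ = 0 ∧ f t x₀ = 0) ∧ t ≠ 0 := by
      obtain ⟨t, h1, h2⟩ := exists_ker_notMem ((dots ![φ, cov f x₀]).comp T.subtype) ⊥
        (by rw [finrank_bot, Module.finrank_fin_fun]; omega)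
      have h3 : ∀ i, ![φ, cov f x₀] i ⬝ᵥ (t : Fin n → F) = 0 := fun i => congrFun h1 i
      refine ⟨t, ⟨t.2, ?_, ?_⟩, fun e => h2 ?_⟩
      · rw [dotProduct_comm]; exact h3 0
      · rw [← hf.form.dot_cov, dotProduct_comm]; exact h3 1
      · exact (Submodule.mem_bot F).2 (Subtype.ext e)
    have hout : ∀ z ∈ T, z ⬝ᵥ φ ≠ 0 → f z x₀ ≠ 0 → f z t = 0 := fun z hz h1 h2 => by
      have e1 := hline z t (key z hz h1 h2) (key _ (T.add_mem hz ht)
        (by rwa [add_dotProduct, ht1, add_zero]) (by rwa [hf.form.add_left, ht2, add_zero]))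
      have e2 := hline z ((-1 : F) • t) (key z hz h1 h2) (key _ (T.add_mem hz (T.smul_mem _ ht))
        (by rwa [add_dotProduct, smul_dotProduct, ht1, smul_zero, add_zero])
        (by rwa [hf.form.add_left, hf.form.smul_left, ht2, mul_zero, add_zero]))
      rw [hf.smul_right, hf.form.smul_left, hf.smul_right] at e2
      refine (mul_eq_zero.1 ?_).resolve_left (mul_ne_zero hf.two hf.two)
      linear_combination e1 - e2
    refine ht0 (hT t ht fun x hx => ?_)
    have hk : 2 < ({0, 1, -1} : Finset F).card := by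
      have h1 : (1 : F) ∉ ({-1} : Finset F) := fun e => hf.two (by
        rw [Finset.mem_singleton] at e; linear_combination e)
      have h0 : (0 : F) ∉ ({1, -1} : Finset F) := by simp
      rw [Finset.card_insert_of_notMem h0, Finset.card_insert_of_notMem h1, Finset.card_singleton]
      omega
    obtain ⟨k, -, h1, h2⟩ := hgood x y _ hk (Or.inl hy1) (Or.inl hy2)
    have := hout _ (T.add_mem hx (T.smul_mem k hy)) h1 h2
    rw [hf.form.add_left, hf.form.smul_left, hout y hy hy1 hy2, mul_zero, add_zero] at this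
    rw [hf.symm x t]; exact this

theorem span_aniso (hn : 3 ≤ n) (R : Submodule F (Fin n → F)) (h : ∀ v, f v v ≠ 0 → v ∈ R) (x : Fin n → F) :
    x ∈ R := by
  have hd : 5 ≤ Nat.card F ∨ 3 ≤ Module.finrank F (⊤ : Submodule F (Fin n → F)) :=
    Or.inr (by rw [finrank_top, Module.finrank_fin_fun]; exact hn)
  by_cases hne : R = ⊥
  · have hq : ∀ v, f v v = 0 := fun v => by
      by_contra hv
      have := h v hv
      rw [hne, Submodule.mem_bot] at this
      exact hv (by rw [this, hf.form.zero_left])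
    have : x = 0 := hf.ext fun u => by
      have h1 := hq (x + u)
      rw [hf.form.add_left, hf.form.add_right, hf.form.add_right, hq, hq, hf.symm x u] at h1
      rw [hf.form.zero_left]
      exact (mul_eq_zero.1 (show 2 * f x u = 0 by linear_combination h1)).resolve_left hf.two
    rw [this]; exact R.zero_mem
  · rw [hf.split_eq (T := ⊤) (fun y _ hy => hf.ext fun u => by rw [hy u Submodule.mem_top, hf.form.zero_left]) hd
      le_top hne fun v _ hv => Or.inl (h v hv)]
    exact Submodule.mem_top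

end IsSym

end Cfsg.Agent.Lib.TensorOrth
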