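import Cfsg.Agent.Lib.TensorOrth.Space

/-!
Siegel maps are commutators of commutators; singular and anisotropic vectors of a symmetric space.
-/

set_option autoImplicit false
set_option linter.unusedSectionVars false

namespace Cfsg.Agent.Lib.TensorOrth

open Matrix Cfsg.Agent.Lib Cfsg.Agent.Lib.TensorMax Cfsg.Agent.Lib.TensorForm

variable {F : Type*} [Field F] {n : ℕ}

theorem IsSym.injective' {f : (Fin n → F) → (Fin n → F) → F} (hf : IsSym f)
    {α : (Fin n → F) →ₗ[F] (Fin n → F)} (h : IsIso f α) : Function.Injective α := fun x y e =>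
  hf.ext fun u => by rw [← h x u, ← h y u, e]

namespace IsSym

variable {f : (Fin n → F) → (Fin n → F) → F} (hf : IsSym f)
include hf

theorem comm_iso {α : (Fin n → F) →ₗ[F] (Fin n → F)} (h : IsComm f α) : IsIso f α := by
  obtain ⟨p, q, hp, hq, hpq⟩ := h
  intro x y
  obtain ⟨x', rfl⟩ := LinearMap.injective_iff_surjective.1
    (show Function.Injective (q.comp p) from (hf.injective' hq).comp (hf.injective' hp)) x
  obtain ⟨y', rfl⟩ := LinearMap.injective_iff_surjective.1
    (show Function.Injective (q.comp p) from (hf.injective' hq).comp (hf.injective' hp)) y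
  rw [LinearMap.comp_apply, LinearMap.comp_apply, hpq, hpq, hp, hq, hq, hp]

theorem sieg_map {α : (Fin n → F) →ₗ[F] (Fin n → F)} (h : IsIso f α) (z w x : Fin n → F) :
    α (sieg hf z w x) = sieg hf (α z) (α w) (α x) := by
  rw [hf.sieg_apply, hf.sieg_apply, h, h, h, map_sub, map_sub, map_add, map_smul, map_smul, map_smul]

theorem sieg_smul (l : F) (z w x : Fin n → F) : sieg hf (l • z) w x = sieg hf z (l • w) x := by
  simp only [hf.sieg_apply, hf.form.smul_left, hf.smul_right, smul_smul]
  module

theorem sieg_add {z w v : Fin n → F} (hz : f z z = 0) (hzw : f z w = 0) (hzv : f z v = 0) (x : Fin n → F) :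
    sieg hf z w (sieg hf z v x) = sieg hf z (w + v) x := by
  have hvz : f v z = 0 := by rw [hf.symm z v]; exact hzv
  have hvw : f v w = f w v := hf.symm w v
  simp only [hf.sieg_apply, hf.form.add_left, hf.form.sub_left, hf.form.smul_left, hf.form.add_right, hz, hzw,
    hvz, hvw]
  have h2 := hf.two
  match_scalars <;> field_simp <;> ring

theorem sieg_zero (z x : Fin n → F) : sieg hf z 0 x = x := by
  rw [hf.sieg_apply]
  simp [hf.form.zero_right]

theorem sieg_self {z : Fin n → F} (hz : f z z = 0) (l : F) (x : Fin n → F) : sieg hf z (l • z) x = x := by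
  rw [hf.sieg_apply, hf.form.smul_left, hf.smul_right, hf.smul_right, hz]
  module

variable [Finite F]

theorem exists_aniso_orth (hn : 3 ≤ n) {z : Fin n → F} (hz0 : z ≠ 0) (hz : f z z = 0) :
    ∃ w, f w z = 0 ∧ f w w ≠ 0 := by
  by_contra hno
  push Not at hno
  obtain ⟨p, hp, hpz⟩ := hf.exists_orth ![z] (F ∙ z) (by rw [finrank_span_singleton hz0]; omega)
  obtain ⟨w, hw0, hw1⟩ := hf.exists_dual_out hpz
  have hwz := hw0 z (Submodule.mem_span_singleton_self z)
  have hpz' : f p z = 0 := hp 0
  have := hf.polarise (hno w hwz) (hno p hpz')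
    (hno _ (by rw [hf.form.add_left, hwz, hpz', add_zero]))
  rw [this] at hw1
  exact zero_ne_one hw1

theorem exists_sing_both (hn : 3 ≤ n) {x y : Fin n → F} (hx0 : x ≠ 0) (hx : f x x = 0) (hy0 : y ≠ 0) (hy : f y y = 0) :
    ∃ v, f v v = 0 ∧ f v x ≠ 0 ∧ f v y ≠ 0 := by
  by_cases hxy : f x y = 0
  swap
  · obtain ⟨w, hw⟩ : ∃ w, f w x = 0 ∧ f w y = 0 ∧ f w w ≠ 0 := by
      by_contra hno
      push Not at hno
      obtain ⟨w, hw, hw0⟩ := hf.exists_orth ![x, y] ⊥ (by rw [finrank_bot]; omega)
      refine hw0 ((Submodule.mem_bot F).2 (hf.ext fun u => ?_))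
      have hwx : f w x = 0 := hw 0
      have hwy : f w y = 0 := hw 1
      have hyx : f y x = f x y := hf.symm x y
      set u' := u - (f u y / f x y) • x - (f u x / f x y) • y with hu'
      have a0 : f u' x = 0 := by
        simp only [hu', hf.form.sub_left, hf.form.smul_left, hx, hyx, div_mul_cancel₀ _ hxy]; ring
      have a1 : f u' y = 0 := by
        simp only [hu', hf.form.sub_left, hf.form.smul_left, hy, div_mul_cancel₀ _ hxy]; ring
      have h := hf.polarise (hno w hwx hwy) (hno u' a0 a1) (hno _ (by rw [hf.form.add_left, hwx, a0, add_zero])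
        (by rw [hf.form.add_left, hwy, a1, add_zero]))
      simp only [hu', hf.form.sub_right, hf.smul_right, hwx, hwy, mul_zero, sub_zero] at h
      rw [hf.form.zero_left]; exact h
    obtain ⟨hwx, hwy, hww⟩ := hw
    have h2 := hf.two
    refine ⟨x + w - (f w w / (2 * f x y)) • y, ?_, ?_, ?_⟩
    · simp only [hf.form.sub_left, hf.form.sub_right, hf.form.add_left, hf.form.add_right, hf.form.smul_left,
        hf.smul_right, hx, hy, hwx, hwy, hf.symm x y, hf.symm w x, hf.symm w y]
      field_simp
      ring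
    · rw [hf.form.sub_left, hf.form.add_left, hf.form.smul_left, hx, hwx, hf.symm x y, add_zero, zero_sub]
      exact neg_ne_zero.2 (mul_ne_zero (div_ne_zero hww (mul_ne_zero hf.two hxy)) hxy)
    · rw [hf.form.sub_left, hf.form.add_left, hf.form.smul_left, hy, hwy, add_zero, mul_zero, sub_zero]
      exact hxy
  by_cases hdep : x ∈ F ∙ y
  · obtain ⟨v, hv, hyv⟩ := hf.exists_partner_self hy0 hy
    obtain ⟨t, ht⟩ := Submodule.mem_span_singleton.1 hdep
    have hvy : f v y = 1 := by rw [hf.symm y v]; exact hyv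
    refine ⟨v, hv, ?_, by rw [hvy]; exact one_ne_zero⟩
    rw [← ht, hf.smul_right, hvy, mul_one]
    exact fun e => hx0 (by rw [← ht, e, zero_smul])
  have hdep' : y ∉ F ∙ x := fun hmem => by
    obtain ⟨t, ht⟩ := Submodule.mem_span_singleton.1 hmem
    exact hdep (Submodule.mem_span_singleton.2 ⟨t⁻¹, by
      rw [← ht, smul_smul, inv_mul_cancel₀ (fun e => hy0 (by rw [← ht, e, zero_smul])), one_smul]⟩)
  obtain ⟨v₁, h10, h11⟩ := hf.exists_dual_out hdep
  obtain ⟨v₂, h20, h21⟩ := hf.exists_dual_out hdep'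
  set v := v₁ + v₂ with hv
  have hvx : f v x = 1 := by rw [hv, hf.form.add_left, h11, h20 x (Submodule.mem_span_singleton_self x), add_zero]
  have hvy : f v y = 1 := by rw [hv, hf.form.add_left, h21, h10 y (Submodule.mem_span_singleton_self y), zero_add]
  refine ⟨v - (f v v / 2) • x, ?_, ?_, ?_⟩
  · simp only [hf.form.sub_left, hf.form.sub_right, hf.form.smul_left, hf.smul_right, hx]
    rw [hf.symm v x, hvx]
    linear_combination -div_mul_cancel₀ (f v v) hf.two
  · rw [hf.form.sub_left, hf.form.smul_left, hvx, hx, mul_zero, sub_zero]; exact one_ne_zero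
  · rw [hf.form.sub_left, hf.form.smul_left, hvy, hxy, mul_zero, sub_zero]; exact one_ne_zero

/-- Linear maps agreeing on singular vectors agree. -/
theorem ext_sing {W : Type*} [AddCommGroup W] [Module F W] {L L' : (Fin n → F) →ₗ[F] W} (hn : 3 ≤ n)
    (h : ∀ z, z ≠ 0 → f z z = 0 → L z = L' z) (u : Fin n → F) : L u = L' u := by
  have h' : ∀ z, f z z = 0 → L z = L' z := fun z hz => by
    by_cases h0 : z = 0
    · rw [h0, map_zero, map_zero]
    · exact h z h0 hz
  obtain ⟨z, -, hz0, hz⟩ := hf.exists_sing (K := ⊤) (by rw [finrank_top, Module.finrank_fin_fun]; exact hn)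
  have h1 : ∀ u, f u z ≠ 0 → L u = L' u := fun u hu => by
    have hs : f (u - (f u u / (2 * f u z)) • z) (u - (f u u / (2 * f u z)) • z) = 0 := by
      simp only [hf.form.sub_left, hf.form.sub_right, hf.form.smul_left, hf.smul_right, hz, hf.symm u z]
      field_simp [hf.two, hu]
      ring
    have e := h' _ hs
    rwa [map_sub, map_sub, map_smul, map_smul, h z hz0 hz, sub_left_inj] at e
  by_cases hu : f u z = 0
  swap
  · exact h1 u hu
  obtain ⟨z', -, hzz'⟩ := hf.exists_partner_self hz0 hz
  have hz'z : f z' z = 1 := by rw [hf.symm z z']; exact hzz'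
  have e := h1 (u + z') (by rw [hf.form.add_left, hu, hz'z, zero_add]; exact one_ne_zero)
  rwa [map_add, map_add, h1 z' (by rw [hz'z]; exact one_ne_zero), add_left_inj] at e

/-- An anisotropic vector orthogonal to a hyperbolic pair and an orthogonal anisotropic vector. -/
theorem exists_aniso_perp (hn : 4 ≤ n) {z z' w : Fin n → F} (hz : f z z = 0) (hz' : f z' z' = 0)
    (hzz' : f z z' = 1) (hwz : f w z = 0) (hwz' : f w z' = 0) (hw : f w w ≠ 0) :
    ∃ e, f e z = 0 ∧ f e z' = 0 ∧ f e w = 0 ∧ f e e ≠ 0 := by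
  by_contra hno
  push Not at hno
  obtain ⟨e, he, he0⟩ := hf.exists_orth ![z, z', w] ⊥ (by rw [finrank_bot]; omega)
  refine he0 ((Submodule.mem_bot F).2 (hf.ext fun u => ?_))
  have h0 : f e z = 0 := he 0
  have h1 : f e z' = 0 := he 1
  have h2 : f e w = 0 := he 2
  have hz'z : f z' z = 1 := by rw [hf.symm z z']; exact hzz'
  have hzw : f z w = 0 := by rw [hf.symm w z]; exact hwz
  have hz'w : f z' w = 0 := by rw [hf.symm w z']; exact hwz'
  set u' := u - f u z' • z - f u z • z' - (f u w / f w w) • w with hu'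
  have a0 : f u' z = 0 := by
    simp only [hu', hf.form.sub_left, hf.form.smul_left, hz, hz'z, hwz]; ring
  have a1 : f u' z' = 0 := by
    simp only [hu', hf.form.sub_left, hf.form.smul_left, hz', hzz', hwz']; ring
  have a2 : f u' w = 0 := by
    simp only [hu', hf.form.sub_left, hf.form.smul_left, hzw, hz'w, div_mul_cancel₀ _ hw]; ring
  have h := hf.polarise (hno e h0 h1 h2) (hno u' a0 a1 a2) (hno _ (by rw [hf.form.add_left, h0, a0, add_zero])
    (by rw [hf.form.add_left, h1, a1, add_zero]) (by rw [hf.form.add_left, h2, a2, add_zero]))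
  simp only [hu', hf.form.sub_right, hf.smul_right, h0, h1, h2, mul_zero, sub_zero] at h
  rw [hf.form.zero_left]; exact h

/-- The same with one vector more. -/
theorem exists_aniso_perp₂ (hn : 5 ≤ n) {z z' w d : Fin n → F} (hz : f z z = 0) (hz' : f z' z' = 0)
    (hzz' : f z z' = 1) (hwz : f w z = 0) (hwz' : f w z' = 0) (hw : f w w ≠ 0) (hdz : f d z = 0)
    (hdz' : f d z' = 0) (hdw : f d w = 0) (hd : f d d ≠ 0) :
    ∃ e, f e z = 0 ∧ f e z' = 0 ∧ f e w = 0 ∧ f e d = 0 ∧ f e e ≠ 0 := by
  by_contra hno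
  push Not at hno
  obtain ⟨e, he, he0⟩ := hf.exists_orth ![z, z', w, d] ⊥ (by rw [finrank_bot]; omega)
  refine he0 ((Submodule.mem_bot F).2 (hf.ext fun u => ?_))
  have h0 : f e z = 0 := he 0
  have h1 : f e z' = 0 := he 1
  have h2 : f e w = 0 := he 2
  have h3 : f e d = 0 := he 3
  have hz'z : f z' z = 1 := by rw [hf.symm z z']; exact hzz'
  have hzw : f z w = 0 := by rw [hf.symm w z]; exact hwz
  have hz'w : f z' w = 0 := by rw [hf.symm w z']; exact hwz'
  have hzd : f z d = 0 := by rw [hf.symm d z]; exact hdz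
  have hz'd : f z' d = 0 := by rw [hf.symm d z']; exact hdz'
  have hwd : f w d = 0 := by rw [hf.symm d w]; exact hdw
  set u' := u - f u z' • z - f u z • z' - (f u w / f w w) • w - (f u d / f d d) • d with hu'
  have a0 : f u' z = 0 := by
    simp only [hu', hf.form.sub_left, hf.form.smul_left, hz, hz'z, hwz, hdz]; ring
  have a1 : f u' z' = 0 := by
    simp only [hu', hf.form.sub_left, hf.form.smul_left, hz', hzz', hwz', hdz']; ring
  have a2 : f u' w = 0 := by
    simp only [hu', hf.form.sub_left, hf.form.smul_left, hzw, hz'w, hdw, div_mul_cancel₀ _ hw]; ring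
  have a3 : f u' d = 0 := by
    simp only [hu', hf.form.sub_left, hf.form.smul_left, hzd, hz'd, hwd, div_mul_cancel₀ _ hd]; ring
  have h := hf.polarise (hno e h0 h1 h2 h3) (hno u' a0 a1 a2 a3) (hno _ (by rw [hf.form.add_left, h0, a0, add_zero])
    (by rw [hf.form.add_left, h1, a1, add_zero]) (by rw [hf.form.add_left, h2, a2, add_zero])
    (by rw [hf.form.add_left, h3, a3, add_zero]))
  simp only [hu', hf.form.sub_right, hf.smul_right, h0, h1, h2, h3, mul_zero, sub_zero] at h
  rw [hf.form.zero_left]; exact h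

/-- An orthogonal vector of equal norm, `q = 3`. -/
theorem exists_twin (h3 : Nat.card F = 3) (hn : 4 ≤ n)
    (minus : n = 4 → ∀ z y, z ≠ 0 → f z z = 0 → f y y = 0 → f z y = 0 → y ∈ F ∙ z)
    {z z' w : Fin n → F} (hz : f z z = 0) (hz' : f z' z' = 0) (hzz' : f z z' = 1) (hwz : f w z = 0)
    (hwz' : f w z' = 0) (hw : f w w ≠ 0) :
    ∃ e, f e z = 0 ∧ f e z' = 0 ∧ f e w = 0 ∧ f e e = f w w := by
  classical
  have := Fintype.ofFinite F
  have hval : ∀ x : F, x ≠ 0 → x = 1 ∨ x = -1 := fun x hx => by
    have hone : (1 : F) ≠ -1 := fun e => hf.two (by linear_combination e)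
    have hu : ({0, 1, -1} : Finset F) = Finset.univ := by
      refine Finset.eq_univ_of_card _ ?_
      rw [← Nat.card_eq_fintype_card, h3, Finset.card_insert_of_notMem (by simp),
        Finset.card_insert_of_notMem (by simpa using hone), Finset.card_singleton]
    have := hu ▸ Finset.mem_univ x
    simpa [hx] using this
  have hthree : (3 : F) = 0 := by
    have h := FiniteField.cast_card_eq_zero F
    rw [← Nat.card_eq_fintype_card, h3] at h
    simpa using h
  have hor : ∀ x : F, x ≠ 0 → x = f w w ∨ x = -f w w := fun x hx => by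
    rcases hval x hx with rfl | rfl <;> rcases hval _ hw with h | h <;> rw [h] <;> simp
  obtain ⟨e, he0, he1, he2, he⟩ := hf.exists_aniso_perp hn hz hz' hzz' hwz hwz' hw
  rcases hor _ he with he' | he'
  · exact ⟨e, he0, he1, he2, he'⟩
  by_cases h4 : n = 4
  · exfalso
    have hz0 : z ≠ 0 := fun e0 => by rw [e0, hf.form.zero_left] at hzz'; exact zero_ne_one hzz'
    have hmem := minus h4 z (w + e) hz0 hz
      (by rw [hf.form.add_left, hf.form.add_right, hf.form.add_right, he', hf.symm e w, he2]; ring)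
      (by rw [hf.symm (w + e) z, hf.form.add_left, hwz, he0, add_zero])
    obtain ⟨t, ht⟩ := Submodule.mem_span_singleton.1 hmem
    have h := congrArg (fun x => f x w) ht
    simp only [hf.form.smul_left, hf.form.add_left, he2, add_zero, hf.symm w z, hwz, mul_zero] at h
    exact hw h.symm
  obtain ⟨d, hd0, hd1, hd2, hde, hd⟩ :=
    hf.exists_aniso_perp₂ (by omega) hz hz' hzz' hwz hwz' hw he0 he1 he2 he
  rcases hor _ hd with hd' | hd'
  · exact ⟨d, hd0, hd1, hd2, hd'⟩
  refine ⟨e + d, by rw [hf.form.add_left, he0, hd0, add_zero], by rw [hf.form.add_left, he1, hd1, add_zero],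
    by rw [hf.form.add_left, he2, hd2, add_zero], ?_⟩
  rw [hf.form.add_left, hf.form.add_right, hf.form.add_right, he', hd', hf.symm d e, hde]
  linear_combination (-f w w) * hthree

/-- A property of products and of commutators of commutators holds for Siegel maps. -/
theorem sieg_induction (hn : 3 ≤ n) (field : 5 ≤ Nat.card F ∨ 4 ≤ n)
    (minus : n = 4 → ∀ z y, z ≠ 0 → f z z = 0 → f y y = 0 → f z y = 0 → y ∈ F ∙ z)
    {P : ((Fin n → F) →ₗ[F] (Fin n → F)) → Prop}
    (hcomp : ∀ α β, P α → P β → P (α.comp β))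
    (hcomm : ∀ a b a' b' : (Fin n → F) →ₗ[F] (Fin n → F), IsComm f a → IsComm f b → (∀ x, a (a' x) = x) → (∀ x, b (b' x) = x) →
      P (a.comp (b.comp (a'.comp b'))))
    {z w : Fin n → F} (hz0 : z ≠ 0) (hz : f z z = 0) (hzw : f z w = 0) : P (sieg hf z w) := by
  have hid : P LinearMap.id := by
    have h := hcomm LinearMap.id LinearMap.id LinearMap.id LinearMap.id
      ⟨LinearMap.id, LinearMap.id, fun _ _ => rfl, fun _ _ => rfl, fun _ => rfl⟩
      ⟨LinearMap.id, LinearMap.id, fun _ _ => rfl, fun _ _ => rfl, fun _ => rfl⟩ (fun _ => rfl) (fun _ => rfl)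
    simpa using h
  -- conjugation by a commutator moving `z` to a multiple
  have hmain : ∀ (k : (Fin n → F) →ₗ[F] (Fin n → F)) (s : F) (v : Fin n → F), IsComm f k → k z = s • z →
      f z v = 0 → P (sieg hf z (s • k v - v)) := by
    intro k s v hk hkz hv
    let ke := LinearEquiv.ofBijective k ⟨hf.injective' (hf.comm_iso hk),
      LinearMap.injective_iff_surjective.1 (hf.injective' (hf.comm_iso hk))⟩
    have hk' : ∀ x, k (ke.symm x) = x := fun x => ke.apply_symm_apply x
    have hzn : f z (-v) = 0 := by rw [← neg_one_smul F v, hf.smul_right, hv, mul_zero]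
    have h := hcomm k (sieg hf z v) ke.symm.toLinearMap (sieg hf z (-v)) hk (hf.sieg_comm hz hv) hk' fun x => by
      have := hf.sieg_neg hz hzn x
      rwa [neg_neg] at this
    have hskv : f z (s • k v) = 0 := by
      have := hf.comm_iso hk z v
      rwa [hkz, hv, hf.form.smul_left, ← hf.smul_right] at this
    have e : k.comp ((sieg hf z v).comp (ke.symm.toLinearMap.comp (sieg hf z (-v)))) = sieg hf z (s • k v - v) :=
      LinearMap.ext fun x => by
        show k (sieg hf z v (ke.symm (sieg hf z (-v) x))) = _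
        rw [hf.sieg_map (hf.comm_iso hk), hk', hkz, hf.sieg_smul, hf.sieg_add hz hskv hzn, ← sub_eq_add_neg]
    rwa [e] at h
  by_cases hdep : w ∈ F ∙ z
  · obtain ⟨l, rfl⟩ := Submodule.mem_span_singleton.1 hdep
    rw [show sieg hf z (l • z) = LinearMap.id from LinearMap.ext fun x => hf.sieg_self hz l x]
    exact hid
  have hzFw : z ∉ F ∙ w := fun hmem => by
    obtain ⟨t, ht⟩ := Submodule.mem_span_singleton.1 hmem
    exact hdep (Submodule.mem_span_singleton.2 ⟨t⁻¹, by
      rw [← ht, smul_smul, inv_mul_cancel₀ (fun e => hz0 (by rw [← ht, e, zero_smul])), one_smul]⟩)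
  obtain ⟨z', hz', hzz', hwz'⟩ := hf.exists_partner hz hzw hzFw
  have hwz : f w z = 0 := by rw [hf.symm z w]; exact hzw
  by_cases h5 : 5 ≤ Nat.card F
  · obtain ⟨ν, hν0, hν⟩ : ∃ ν : F, ν ≠ 0 ∧ ν * ν ≠ 1 := by
      classical
      have := Fintype.ofFinite F
      obtain ⟨ν, -, hν⟩ := Finset.exists_mem_notMem_of_card_lt_card
        (show ({0, 1, -1} : Finset F).card < (Finset.univ : Finset F).card by
          have h3 : ({0, 1, -1} : Finset F).card ≤ 3 := Finset.card_le_three
          rw [Finset.card_univ, ← Nat.card_eq_fintype_card]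
          omega)
      simp only [Finset.mem_insert, Finset.mem_singleton, not_or] at hν
      refine ⟨ν, hν.1, fun e => ?_⟩
      rcases mul_self_eq_one_iff.1 e with h | h
      · exact hν.2.1 h
      · exact hν.2.2 h
    obtain ⟨k, hk, -, hkz, hkfix⟩ := hf.exists_torus hz hz' hzz' hν0
    have hkw : k w = w := hkfix w hwz hwz'
    have h := hmain k (ν * ν) ((ν * ν - 1)⁻¹ • w) hk hkz (by rw [hf.smul_right, hzw, mul_zero])
    rwa [map_smul, hkw, smul_smul, ← sub_smul,
      show ν * ν * (ν * ν - 1)⁻¹ - (ν * ν - 1)⁻¹ = 1 by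
        rw [← sub_one_mul, mul_inv_cancel₀ (sub_ne_zero.2 hν)], one_smul] at h
  have h4 : 4 ≤ n := field.resolve_left h5
  have h3 : Nat.card F = 3 := by
    obtain ⟨p, hp⟩ := CharP.exists F
    have hpp : p.Prime := CharP.char_is_prime F p
    have := Fintype.ofFinite F
    obtain ⟨k, hpk, hk⟩ := FiniteField.card F p
    rw [← Nat.card_eq_fintype_card] at hk
    have hp2 : p ≠ 2 := fun e => hf.two (by subst e; exact_mod_cast (CharP.cast_eq_zero F 2))
    have hp3 : 3 ≤ p := by have := hpp.two_le; omega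
    have hle : p ≤ p ^ (k : ℕ) := Nat.le_self_pow k.ne_zero p
    have : p = 3 := by
      rcases (show p = 3 ∨ p = 4 by omega) with h | h
      · exact h
      · subst h; norm_num at hpp
    subst this
    rcases Nat.lt_or_ge (k : ℕ) 2 with hk2 | hk2
    · have : (k : ℕ) = 1 := by have := k.pos; omega
      rw [hk, this, pow_one]
    · have := Nat.pow_le_pow_right (show 1 ≤ 3 by omega) hk2
      omega
  -- anisotropic `w`
  have haniso : ∀ v, f v z = 0 → f v z' = 0 → f v v ≠ 0 → P (sieg hf z v) := by
    intro v hvz hvz' hv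
    obtain ⟨e, he0, he1, he2, hee⟩ := hf.exists_twin h3 h4 minus hz hz' hzz' hvz hvz' hv
    have hzv : f z v = 0 := by rw [hf.symm v z]; exact hvz
    have hvw' : f v e = 0 := by rw [hf.symm e v]; exact he2
    have hne : f (v + e) (v + e) ≠ 0 := by
      rw [hf.form.add_left, hf.form.add_right, hf.form.add_right, hvw', he2, hee, add_zero, zero_add, ← two_mul]
      exact mul_ne_zero hf.two hv
    let k : (Fin n → F) →ₗ[F] (Fin n → F) :=
      (refl hf v).comp ((refl hf (v + e)).comp ((refl hf v).comp (refl hf (v + e))))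
    have hk : IsComm f k := ⟨refl hf v, refl hf (v + e), hf.refl_iso hv, hf.refl_iso hne, fun x => by
      show refl hf v (refl hf (v + e) (refl hf v (refl hf (v + e) (refl hf (v + e) (refl hf v x))))) = _
      rw [hf.refl_refl hne, hf.refl_refl hv]⟩
    have hzve : f z (v + e) = 0 := by rw [hf.form.add_right, hzv, hf.symm e z, he0, add_zero]
    have hkz : k z = (1 : F) • z := by
      show refl hf v (refl hf (v + e) (refl hf v (refl hf (v + e) z))) = _
      rw [hf.refl_fix _ hzve, hf.refl_fix _ hzv, hf.refl_fix _ hzve, hf.refl_fix _ hzv, one_smul]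
    have h1 : refl hf (v + e) v = -e := by
      rw [hf.refl_apply, hf.form.add_right v v e, hvw', add_zero, hf.form.add_left, hf.form.add_right,
        hf.form.add_right, hvw', he2, hee, add_zero, zero_add, ← two_mul,
        show 2 / (2 * f v v) * f v v = 1 by field_simp [hf.two], one_smul]
      module
    have hkv : k v = -v := by
      show refl hf v (refl hf (v + e) (refl hf v (refl hf (v + e) v))) = _
      rw [h1, map_neg, hf.refl_fix v he2, map_neg, map_neg,
        show refl hf (v + e) e = -v from by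
          have := congrArg (refl hf (v + e)) h1
          rw [hf.refl_refl hne, map_neg] at this
          exact neg_eq_iff_eq_neg.1 this.symm,
        map_neg, hf.refl_self hv, neg_neg]
    have h := hmain k 1 (-(2 : F)⁻¹ • v) hk hkz (by rw [hf.smul_right, hzv, mul_zero])
    rwa [one_smul, map_smul, hkv, show (-(2 : F)⁻¹) • (-v) - (-(2 : F)⁻¹) • v = v from by
      have h2 := hf.two
      match_scalars; field_simp; ring] at h
  by_cases hww : f w w = 0
  swap
  · exact haniso w hwz hwz' hww
  -- a singular `w` is the sum of two anisotropic ones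
  have hT : w ∉ F ∙ z ⊔ F ∙ z' := fun hmem => by
    obtain ⟨p, hp, q, hq, rfl⟩ := Submodule.mem_sup.1 hmem
    obtain ⟨s, rfl⟩ := Submodule.mem_span_singleton.1 hp
    obtain ⟨t, rfl⟩ := Submodule.mem_span_singleton.1 hq
    rw [hf.form.add_left, hf.form.smul_left, hf.form.smul_left, hz, hf.symm z z', hzz', mul_zero, zero_add,
      mul_one] at hwz
    exact hdep (Submodule.mem_span_singleton.2 ⟨s, by rw [hwz, zero_smul, add_zero]⟩)
  obtain ⟨x, hx0, hx1⟩ := hf.exists_dual_out hT
  have hxz : f x z = 0 := hx0 z (Submodule.mem_sup_left (Submodule.mem_span_singleton_self z))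
  have hxz' : f x z' = 0 := hx0 z' (Submodule.mem_sup_right (Submodule.mem_span_singleton_self z'))
  set x' := x - (f x x / 2) • w with hx'
  have a1 : f x' w = 1 := by rw [hx', hf.form.sub_left, hf.form.smul_left, hww, mul_zero, sub_zero, hx1]
  have a2 : f x' x' = 0 := by
    simp only [hx', hf.form.sub_left, hf.form.sub_right, hf.form.smul_left, hf.smul_right, hww]
    rw [hf.symm x w, hx1]
    linear_combination -div_mul_cancel₀ (f x x) hf.two
  have a3 : f x' z = 0 := by rw [hx', hf.form.sub_left, hf.form.smul_left, hxz, hwz, mul_zero, sub_zero]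
  have a4 : f x' z' = 0 := by rw [hx', hf.form.sub_left, hf.form.smul_left, hxz', hwz', mul_zero, sub_zero]
  have key : ∀ t : F, t ≠ 0 → P (sieg hf z ((2 : F)⁻¹ • w + t • x')) := fun t ht => haniso _
    (by rw [hf.form.add_left, hf.form.smul_left, hf.form.smul_left, hwz, a3, mul_zero, mul_zero, add_zero])
    (by rw [hf.form.add_left, hf.form.smul_left, hf.form.smul_left, hwz', a4, mul_zero, mul_zero, add_zero])
    (by
      simp only [hf.form.add_left, hf.form.add_right, hf.form.smul_left, hf.smul_right, hww, a1, a2]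
      rw [hf.symm x' w, a1]
      intro e
      exact ht (by linear_combination e - t * mul_inv_cancel₀ hf.two))
  have h := hcomp _ _ (key 1 one_ne_zero) (key (-1) (neg_ne_zero.2 one_ne_zero))
  have hperp : ∀ t : F, f z ((2 : F)⁻¹ • w + t • x') = 0 := fun t => by
    rw [hf.form.add_right, hf.smul_right, hf.smul_right, hzw, hf.symm x' z, a3, mul_zero, mul_zero, add_zero]
  have e : (sieg hf z ((2 : F)⁻¹ • w + (1 : F) • x')).comp (sieg hf z ((2 : F)⁻¹ • w + (-1 : F) • x')) =
      sieg hf z w := LinearMap.ext fun v => by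
    rw [LinearMap.comp_apply, hf.sieg_add hz (hperp 1) (hperp (-1))]
    congr 2
    have h2 := hf.two
    match_scalars <;> field_simp <;> ring
  rwa [e] at h

end IsSym

end Cfsg.Agent.Lib.TensorOrth
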