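import Cfsg.Agent.Lib.TensorOrth.Basic
import Cfsg.Agent.Lib.TensorOrth.Space2
import Cfsg.Agent.Lib.TensorForm.Normal

/-!
If fixers of singular pure spaces are Kronecker, so are the elements mapping a singular pure space to a pure
space, or a sum of two of them to such a sum.
-/

set_option autoImplicit false
set_option linter.unusedSectionVars false

namespace Cfsg.Agent.Lib.TensorOrth

open Matrix Cfsg.Agent.Lib Cfsg.Agent.Lib.TensorMax Cfsg.Agent.Lib.TensorForm

variable {F : Type*} [Field F] {a b : ℕ}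

/-- Fixers of singular pure spaces are Kronecker. -/
def FixKron (fW : (Fin b → F) → (Fin b → F) → F) (M : Subgroup (GL (Fin a × Fin b) F)) : Prop :=
  ∀ c, c ≠ 0 → fW c c = 0 → ∀ g ∈ M, (∀ u : Fin a → F, op g (vecMulVec u c) = vecMulVec u c) →
    g ∈ Cfsg.Geo.kroneckerSubgroup a b F

/-- Radical elements of singular pure spaces are Kronecker. -/
def RadKron (fW : (Fin b → F) → (Fin b → F) → F) (M : Subgroup (GL (Fin a × Fin b) F)) : Prop :=
  ∀ c, c ≠ 0 → fW c c = 0 → ∀ g ∈ M, (∀ u : Fin a → F, op g (vecMulVec u c) = vecMulVec u c) →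
    (∀ (u : Fin a → F) e, fW e c = 0 → op g (vecMulVec u e) - vecMulVec u e ∈ LinearMap.range (pl a c)) →
    g ∈ Cfsg.Geo.kroneckerSubgroup a b F

theorem FixKron.radKron {fW : (Fin b → F) → (Fin b → F) → F} {M : Subgroup (GL (Fin a × Fin b) F)}
    (K : FixKron fW M) : RadKron fW M := fun c hc0 hc g hg hfix _ => K c hc0 hc g hg hfix

/-- Left multiplication. -/
def lft (α : (Fin a → F) →ₗ[F] (Fin a → F)) : Matrix (Fin a) (Fin b) F →ₗ[F] Matrix (Fin a) (Fin b) F where
  toFun X := LinearMap.toMatrix' α * X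
  map_add' := Matrix.mul_add _
  map_smul' l X := Matrix.mul_smul _ l X

/-- Contraction of the first factor. -/
def rowc (φ : Fin a → F) : Matrix (Fin a) (Fin b) F →ₗ[F] (Fin b → F) where
  toFun X := φ ᵥ* X
  map_add' X Y := vecMul_add X Y φ
  map_smul' l X := vecMul_smul φ l X

theorem rowc_apply (φ : Fin a → F) (X : Matrix (Fin a) (Fin b) F) : rowc φ X = φ ᵥ* X := rfl

theorem lft_pure (α : (Fin a → F) →ₗ[F] (Fin a → F)) (u : Fin a → F) (e : Fin b → F) :
    lft α (vecMulVec u e) = vecMulVec (α u) e := by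
  show LinearMap.toMatrix' α * vecMulVec u e = _
  rw [mul_vecMulVec, LinearMap.toMatrix'_mulVec]

theorem lft_comp (α β : (Fin a → F) →ₗ[F] (Fin a → F)) (X : Matrix (Fin a) (Fin b) F) :
    lft (α.comp β) X = lft α (lft β X) := by
  refine lin_ext (L := lft (α.comp β)) (L' := (lft α).comp (lft β)) (fun u e => ?_) X
  rw [lft_pure, LinearMap.comp_apply, LinearMap.comp_apply, lft_pure, lft_pure]

theorem lft_id (X : Matrix (Fin a) (Fin b) F) : lft LinearMap.id X = X := by
  refine lin_ext (L := lft LinearMap.id) (L' := LinearMap.id) (fun u e => ?_) X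
  rw [lft_pure]; rfl

theorem lft_mul (α : (Fin a → F) →ₗ[F] (Fin a → F)) (X : Matrix (Fin a) (Fin b) F)
    (G : Matrix (Fin b) (Fin b) F) : lft α (X * G) = lft α X * G := (Matrix.mul_assoc _ X G).symm

theorem pure_sub_left (x y : Fin a → F) (v : Fin b → F) :
    vecMulVec (x - y) v = vecMulVec x v - vecMulVec y v := map_sub (pl a v) x y

/-- Conjugation of an endomorphism by an equivalence. -/
def cj (α : (Fin a → F) ≃ₗ[F] (Fin a → F)) (L : (Fin a → F) →ₗ[F] (Fin a → F)) :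
    (Fin a → F) →ₗ[F] (Fin a → F) :=
  α.toLinearMap ∘ₗ L ∘ₗ α.symm.toLinearMap

theorem cj_apply (α : (Fin a → F) ≃ₗ[F] (Fin a → F)) (L : (Fin a → F) →ₗ[F] (Fin a → F)) (u : Fin a → F) :
    cj α L (α u) = α (L u) := by
  show α (L (α.symm (α u))) = _
  rw [LinearEquiv.symm_apply_apply]

theorem cj_comp (α : (Fin a → F) ≃ₗ[F] (Fin a → F)) (L L' : (Fin a → F) →ₗ[F] (Fin a → F)) :
    cj α (L.comp L') = (cj α L).comp (cj α L') := LinearMap.ext fun u => by
  show α (L (L' (α.symm u))) = α (L (α.symm (α (L' (α.symm u)))))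
  rw [LinearEquiv.symm_apply_apply]

namespace OOSetup

variable {fU : (Fin a → F) → (Fin a → F) → F} {fW : (Fin b → F) → (Fin b → F) → F}
  {Q : QuadraticForm F (Fin a × Fin b → F)} {M : Subgroup (GL (Fin a × Fin b) F)}
  (S : OOSetup fU fW Q M)
include S

theorem kap_of_map {g : GL (Fin a × Fin b) F} (hg : g ∈ M) {c d : Fin b → F}
    {α : (Fin a → F) → (Fin a → F)} (hα : ∀ u, op g (vecMulVec u c) = vecMulVec (α u) d)
    (X : Matrix (Fin a) (Fin b) F) (u : Fin a → F) :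
    fU (kap fW d (op g X)) (α u) = fU (kap fW c X) u := by
  rw [← S.B_pure, ← hα, S.iso hg, S.B_pure]

theorem exists_uu : ∃ u u' : Fin a → F, fU u u' ≠ 0 := by
  obtain ⟨u, hu⟩ : ∃ u : Fin a → F, u ≠ 0 :=
    ⟨Pi.single ⟨0, by have := S.three_le; omega⟩ 1, by simp⟩
  exact ⟨u, S.symU.form.nondeg u hu⟩

variable [Finite F]

/-- An element mapping a pure space at `c` to itself induces a tensor map on the orthogonal, mod that space. -/
theorem levi_self (K : RadKron fW M) {c : Fin b → F} (hc0 : c ≠ 0) (hc : fW c c = 0)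
    {g : GL (Fin a × Fin b) F} (hg : g ∈ M) (α : (Fin a → F) ≃ₗ[F] (Fin a → F))
    (hα : ∀ u, op g (vecMulVec u c) = vecMulVec (α u) c) {e : Fin b → F} (he : fW e c = 0) :
    ∃ d, fW d c = 0 ∧ ∀ u, ∃ m, op g (vecMulVec u e) = vecMulVec (α u) d + vecMulVec (α m) c := by
  have ha := S.three_le
  obtain ⟨u₀, hu₀⟩ : ∃ u₀ : Fin a → F, α u₀ ≠ 0 := by
    obtain ⟨u, u', hu⟩ := S.exists_uu
    exact ⟨u, fun e => hu (by rw [α.map_eq_zero_iff.1 e, S.symU.form.zero_left])⟩
  obtain ⟨φ, hφ⟩ := exists_dot_one hu₀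
  obtain ⟨φc, hφc⟩ := exists_dot_one hc0
  have hkc' : ∀ e, fW e c = 0 → ∀ u, kap fW c (op g (vecMulVec u e)) = 0 := fun e he u => S.symU.ext fun u' => by
    obtain ⟨w, rfl⟩ := α.surjective u'
    rw [S.kap_of_map hg hα, S.kap_pure, he, zero_smul, S.symU.form.zero_left, S.symU.form.zero_left]
  have hkc := hkc' e he
  have key : ∀ v, fW v c = 0 → ∃ l : F, ∀ u, kap fW v (op g (vecMulVec u e)) = l • α u := by
    intro v hv
    have hcv : fW c v = 0 := by rw [S.symW.symm v c]; exact hv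
    obtain ⟨h, hh, -, hhX⟩ := S.exists_E hc hcv
    have hfix : ∀ u, op (g⁻¹ * h * g) (vecMulVec u c) = vecMulVec u c := fun u => by
      rw [op_mul, op_mul, hα, hhX]
      simp only [S.kap_pure, hc, hcv, zero_smul, pure_zero_left, smul_zero, add_zero, sub_zero]
      rw [← hα, op_inv_op]
    have hrad : ∀ u e', fW e' c = 0 →
        op (g⁻¹ * h * g) (vecMulVec u e') - vecMulVec u e' ∈ LinearMap.range (pl a c) := fun u e' he' => by
      obtain ⟨w, hw⟩ := α.surjective (kap fW v (op g (vecMulVec u e')))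
      refine ⟨-w, ?_⟩
      rw [op_mul, op_mul, hhX, hkc' e' he', pure_zero_left, pure_zero_left, smul_zero, add_zero, sub_zero, ← hw,
        ← hα, ← map_sub, op_inv_op, pl_apply, pure_neg_left, sub_sub_cancel_left]
    obtain ⟨G, hG⟩ := exists_right_mul (by omega) hc0
      (K c hc0 hc _ (M.mul_mem (M.mul_mem (M.inv_mem hg) hh) hg) hfix hrad) hfix
    refine ⟨-((e ᵥ* G - e) ⬝ᵥ φc), fun u => ?_⟩
    obtain ⟨w, hw⟩ := α.surjective (kap fW v (op g (vecMulVec u e)))
    have h1 := congrArg (op g) (hG (vecMulVec u e))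
    rw [op_mul, op_mul, op_op_inv, hhX, hkc, pure_zero_left, pure_zero_left, smul_zero, add_zero, sub_zero,
      ← hw, ← hα, ← map_sub, vecMulVec_mul] at h1
    have h2 := congrArg (fun Z => Z *ᵥ φc) (op_injective g h1)
    simp only [sub_mulVec, pure_mulVec, hφc, one_smul] at h2
    rw [← hw, sub_dotProduct, ← map_smul, neg_smul, sub_smul, ← h2]
    congr 1
    abel
  choose! l hl using key
  refine ⟨φ ᵥ* op g (vecMulVec u₀ e), ?_, fun u => ?_⟩
  · rw [← S.symW.form.dot_cov, ← dotProduct_mulVec]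
    show φ ⬝ᵥ kap fW c (op g (vecMulVec u₀ e)) = 0
    rw [hkc, dotProduct_zero]
  · have hd : ∀ v, fW v c = 0 → fW (φ ᵥ* op g (vecMulVec u₀ e)) v = l v := fun v hv => by
      rw [← S.symW.form.dot_cov, ← dotProduct_mulVec]
      show φ ⬝ᵥ kap fW v (op g (vecMulVec u₀ e)) = _
      rw [hl v hv, dotProduct_smul, dotProduct_comm φ, hφ, smul_eq_mul, mul_one]
    obtain ⟨m, hm⟩ : op g (vecMulVec u e) - vecMulVec (α u) (φ ᵥ* op g (vecMulVec u₀ e)) ∈
        LinearMap.range (pl a c) := mem_pl_of_kill hc0 fun ψ hψ => by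
      obtain ⟨v, rfl⟩ := S.symW.form.exists_cov ψ
      rw [S.symW.form.dot_cov] at hψ
      have hv : fW v c = 0 := by rw [S.symW.symm c v]; exact hψ
      show kap fW v _ = 0
      rw [map_sub, hl v hv, S.kap_pure, hd v hv, sub_self]
    refine ⟨α.symm m, ?_⟩
    rw [LinearEquiv.apply_symm_apply, ← pl_apply c m, hm, add_sub_cancel]

/-- The twist of a commutator of `U` by an element stabilising a pure space. -/
theorem exists_twist (K : RadKron fW M) {c : Fin b → F} (hc0 : c ≠ 0) (hc : fW c c = 0)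
    {g : GL (Fin a × Fin b) F} (hg : g ∈ M) (α : (Fin a → F) ≃ₗ[F] (Fin a → F))
    (hα : ∀ u, op g (vecMulVec u c) = vecMulVec (α u) c) {μ : F} (hμ : μ ≠ 0)
    (hsim : ∀ u v, fU (α u) (α v) = μ * fU u v) {α₀ : (Fin a → F) →ₗ[F] (Fin a → F)} (h₀ : IsComm fU α₀) :
    ∃ G : Matrix (Fin b) (Fin b) F, (∀ X, op g (lft α₀ (X * G)) = lft (cj α α₀) (op g X)) ∧ c ᵥ* G = c ∧
      (∀ e, fW e c = 0 → e ᵥ* G - e ∈ F ∙ c) ∧ ∀ e e', fW (e ᵥ* G) (e' ᵥ* G) = fW e e' := by
  have ha := S.three_le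
  obtain ⟨k, hk, -, hkX, -⟩ := S.exists_commU h₀
  have hcj : IsComm fU (cj α α₀) := by
    obtain ⟨p, q, hp, hq, hpq⟩ := h₀
    have hiso : ∀ L, IsIso fU L → IsIso fU (cj α L) := fun L hL x y => by
      obtain ⟨x, rfl⟩ := α.surjective x
      obtain ⟨y, rfl⟩ := α.surjective y
      rw [cj_apply, cj_apply, hsim, hsim, hL]
    refine ⟨cj α p, cj α q, hiso p hp, hiso q hq, fun x => ?_⟩
    obtain ⟨x, rfl⟩ := α.surjective x
    simp only [cj_apply, hpq]
  obtain ⟨k', hk', -, hk'X, -⟩ := S.exists_commU hcj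
  have hkl : ∀ X, op k X = lft α₀ X := lin_ext fun u e => by rw [hkX, lft_pure]
  have hk'l : ∀ X, op k' X = lft (cj α α₀) X := lin_ext fun u e => by rw [hk'X, lft_pure]
  have hfix : ∀ u, op (k⁻¹ * g⁻¹ * k' * g) (vecMulVec u c) = vecMulVec u c := fun u => by
    rw [op_mul, op_mul, op_mul, hα, hk'X, cj_apply, ← hα, op_inv_op, ← hkX, op_inv_op]
  have hxM : k⁻¹ * g⁻¹ * k' * g ∈ M := M.mul_mem (M.mul_mem (M.mul_mem (M.inv_mem hk) (M.inv_mem hg)) hk') hg
  have hrad : ∀ u e, fW e c = 0 →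
      op (k⁻¹ * g⁻¹ * k' * g) (vecMulVec u e) - vecMulVec u e ∈ LinearMap.range (pl a c) := fun u e he => by
    obtain ⟨d, -, hd⟩ := S.levi_self K hc0 hc hg α hα he
    obtain ⟨m, hm⟩ := hd u
    obtain ⟨m', hm'⟩ := hd (α₀ u)
    obtain ⟨n, hn⟩ := LinearMap.injective_iff_surjective.1 (S.symU.injective' (S.symU.comm_iso h₀)) (α₀ m - m')
    refine ⟨n, ?_⟩
    rw [pl_apply, eq_sub_iff_add_eq]
    refine op_injective k (op_injective g ?_)
    rw [op_mul, op_mul, op_mul, op_op_inv, op_op_inv, map_add, hkX, hkX, hn, map_add, hm, map_add, hk'X, hk'X,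
      cj_apply, cj_apply, hα, hm', map_sub, pure_sub_left]
    abel
  obtain ⟨G, hG⟩ := exists_right_mul (by omega) hc0 (K c hc0 hc _ hxM hfix hrad) hfix
  have hrel : ∀ X, op g (lft α₀ (X * G)) = lft (cj α α₀) (op g X) := fun X => by
    rw [← hG, ← hkl, ← hk'l, op_mul, op_mul, op_mul, op_op_inv, op_op_inv]
  obtain ⟨u, u', huu⟩ := S.exists_uu
  have hu0 : u ≠ 0 := fun e => huu (by rw [e, S.symU.form.zero_left])
  refine ⟨G, hrel, ?_, fun e he => ?_, fun e e' => ?_⟩
  · have h := hfix u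
    rw [hG, vecMulVec_mul] at h
    obtain ⟨φ, hφ⟩ := exists_dot_one hu0
    have h' := congrArg (fun Z => φ ᵥ* Z) h
    simpa [vecMul_pure, dotProduct_comm φ, hφ] using h'
  · obtain ⟨n, hn⟩ := hrad u e he
    obtain ⟨φ, hφ⟩ := exists_dot_one hu0
    rw [hG, vecMulVec_mul, pl_apply, ← pure_sub_right] at hn
    have h' := congrArg (fun Z => φ ᵥ* Z) hn
    simp only [vecMul_pure, dotProduct_comm φ u, hφ, one_smul] at h'
    exact Submodule.mem_span_singleton.2 ⟨_, h'⟩
  · have h := S.iso hxM (vecMulVec u e) (vecMulVec u' e')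
    rw [hG, hG, vecMulVec_mul, vecMulVec_mul, S.B_pure_pure, S.B_pure_pure] at h
    exact mul_right_cancel₀ huu h

theorem twist_comm {c : Fin b → F} (hc0 : c ≠ 0) (hc : fW c c = 0) {G G' : Matrix (Fin b) (Fin b) F}
    (h1 : c ᵥ* G = c) (h2 : ∀ e, fW e c = 0 → e ᵥ* G - e ∈ F ∙ c)
    (h3 : ∀ e e', fW (e ᵥ* G) (e' ᵥ* G) = fW e e')
    (h1' : c ᵥ* G' = c) (h2' : ∀ e, fW e c = 0 → e ᵥ* G' - e ∈ F ∙ c)
    (h3' : ∀ e e', fW (e ᵥ* G') (e' ᵥ* G') = fW e e') : G * G' = G' * G := by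
  have hf := S.symW
  obtain ⟨e₀, -, he₀⟩ := hf.exists_partner_self hc0 hc
  have hec : fW e₀ c = 1 := by rw [hf.symm c e₀]; exact he₀
  have key : ∀ e, fW e c = 0 → e ᵥ* G ᵥ* G' = e ᵥ* G' ᵥ* G := fun e he => by
    obtain ⟨l, hl⟩ := Submodule.mem_span_singleton.1 (h2 e he)
    obtain ⟨l', hl'⟩ := Submodule.mem_span_singleton.1 (h2' e he)
    rw [eq_add_of_sub_eq' hl.symm, eq_add_of_sub_eq' hl'.symm, add_vecMul, add_vecMul, smul_vecMul, smul_vecMul,
      h1', h1, eq_add_of_sub_eq' hl.symm, eq_add_of_sub_eq' hl'.symm]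
    abel
  have hval : ∀ H H' : Matrix (Fin b) (Fin b) F, c ᵥ* H = c → c ᵥ* H' = c →
      (∀ e, fW e c = 0 → e ᵥ* H' - e ∈ F ∙ c) → (∀ e e', fW (e ᵥ* H) (e' ᵥ* H) = fW e e') →
      (∀ e e', fW (e ᵥ* H') (e' ᵥ* H') = fW e e') →
      e₀ ᵥ* H ᵥ* H' = e₀ ᵥ* H' + (e₀ ᵥ* H - e₀) - fW (e₀ ᵥ* H - e₀) (e₀ ᵥ* H' - e₀) • c := by
    intro H H' hH hH' hH2 hH3 hH3'
    set D := e₀ ᵥ* H - e₀ with hD
    have hDc : fW D c = 0 := by
      rw [hD, hf.form.sub_left]
      nth_rw 1 [← hH]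
      rw [hH3, sub_self]
    obtain ⟨l, hl⟩ := Submodule.mem_span_singleton.1 (hH2 D hDc)
    have h := hH3' D e₀
    rw [eq_add_of_sub_eq' hl.symm, show e₀ ᵥ* H' = e₀ + (e₀ ᵥ* H' - e₀) by abel, hf.form.add_left,
      hf.form.add_right, hf.form.add_right, hf.form.smul_left, hf.form.smul_left, he₀] at h
    have h0 : fW c (e₀ ᵥ* H' - e₀) = 0 := by
      rw [hf.form.sub_right]
      nth_rw 1 [← hH']
      rw [hH3', sub_self]
    rw [h0, mul_zero, add_zero, mul_one] at h
    rw [show e₀ ᵥ* H = e₀ + D by rw [hD]; abel, add_vecMul, eq_add_of_sub_eq' hl.symm,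
      show l = -fW D (e₀ ᵥ* H' - e₀) by linear_combination h, neg_smul]
    abel
  refine Matrix.ext_iff_vecMul.2 fun e => ?_
  rw [← vecMul_vecMul, ← vecMul_vecMul]
  have he : fW (e - fW e c • e₀) c = 0 := by rw [hf.form.sub_left, hf.form.smul_left, hec, mul_one, sub_self]
  rw [show e = (e - fW e c • e₀) + fW e c • e₀ by rw [sub_add_cancel], add_vecMul, add_vecMul, add_vecMul, add_vecMul,
    smul_vecMul, smul_vecMul, smul_vecMul, smul_vecMul, key _ he, hval G G' h1 h1' h2' h3 h3',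
    hval G' G h1' h1 h2 h3' h3, hf.symm (e₀ ᵥ* G - e₀) (e₀ ᵥ* G' - e₀)]
  congr 2
  abel

/-- An element mapping a singular pure space to itself is Kronecker. -/
theorem kron_of_self (K : RadKron fW M) {c : Fin b → F} (hc0 : c ≠ 0) (hc : fW c c = 0)
    {g : GL (Fin a × Fin b) F} (hg : g ∈ M) (α : (Fin a → F) ≃ₗ[F] (Fin a → F))
    (hα : ∀ u, op g (vecMulVec u c) = vecMulVec (α u) c) : g ∈ Cfsg.Geo.kroneckerSubgroup a b F := by
  have ha := S.three_le
  -- a similitude
  obtain ⟨μ, hμ, hsim⟩ : ∃ μ : F, μ ≠ 0 ∧ ∀ u v, fU (α u) (α v) = μ * fU u v := by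
    obtain ⟨e, he, hee⟩ := S.symW.exists_aniso_orth (by have := S.five_le; omega) hc0 hc
    obtain ⟨d, hdc, hd⟩ := S.levi_self K hc0 hc hg α hα he
    have hcd : fW c d = 0 := by rw [S.symW.symm d c]; exact hdc
    have h : ∀ u v, fW d d * fU (α u) (α v) = fW e e * fU u v := fun u v => by
      obtain ⟨m, hm⟩ := hd u
      obtain ⟨m', hm'⟩ := hd v
      have h := S.iso hg (vecMulVec u e) (vecMulVec v e)
      rw [hm, hm', S.B_add_left, S.B_add_right, S.B_add_right, S.B_pure_pure, S.B_pure_pure, S.B_pure_pure,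
        S.B_pure_pure, S.B_pure_pure, hdc, hcd, hc, zero_mul, zero_mul, zero_mul, add_zero, add_zero, add_zero] at h
      exact h
    obtain ⟨u, u', huu⟩ := S.exists_uu
    have hdd : fW d d ≠ 0 := fun e0 => mul_ne_zero hee huu (by rw [← h, e0, zero_mul])
    exact ⟨fW e e / fW d d, div_ne_zero hee hdd, fun u v => by
      rw [div_mul_eq_mul_div, eq_div_iff hdd, mul_comm, h]⟩
  -- the commutators of `U` are carried over
  let P : ((Fin a → F) →ₗ[F] (Fin a → F)) → Prop := fun γ => ∀ X, op g (lft γ X) = lft (cj α γ) (op g X)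
  have hP : ∀ z w, z ≠ 0 → fU z z = 0 → fU z w = 0 → P (sieg S.symU z w) := by
    refine fun z w hz0 hz hzw => S.symU.sieg_induction ha S.field S.minus (P := P)
      (fun γ δ h h' X => by rw [lft_comp, h, h', cj_comp, lft_comp]) (fun p q p' q' hp hq hp' hq' X => ?_) hz0 hz hzw
    obtain ⟨G, hG, g1, g2, g3⟩ := S.exists_twist K hc0 hc hg α hα hμ hsim hp
    obtain ⟨G', hG', g1', g2', g3'⟩ := S.exists_twist K hc0 hc hg α hα hμ hsim hq
    have hpq : ∀ Y, op g (lft (p.comp q) (Y * (G' * G))) = lft (cj α (p.comp q)) (op g Y) := fun Y => by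
      rw [← Matrix.mul_assoc, lft_comp, lft_mul q, hG, hG', cj_comp, lft_comp]
    have hqp : ∀ Y, op g (lft (q.comp p) (Y * (G' * G))) = lft (cj α (q.comp p)) (op g Y) := fun Y => by
      rw [S.twist_comm hc0 hc g1' g2' g3' g1 g2 g3, ← Matrix.mul_assoc, lft_comp, lft_mul p, hG', hG, cj_comp,
        lft_comp]
    have hid : (q.comp p).comp (p'.comp q') = LinearMap.id := LinearMap.ext fun x => by
      show q (p (p' (q' x))) = x
      rw [hp', hq']
    obtain ⟨Y, hY⟩ : ∃ Y, op g Y = lft (cj α (p'.comp q')) (op g X) := ⟨_, op_op_inv g _⟩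
    have hX : X = lft (q.comp p) (Y * (G' * G)) := op_injective g (by
      rw [hqp, hY, ← lft_comp, ← cj_comp, hid,
        show cj α LinearMap.id = LinearMap.id from LinearMap.ext fun x => α.apply_symm_apply x, lft_id])
    rw [show p.comp (q.comp (p'.comp q')) = (p.comp q).comp (p'.comp q') from rfl]
    conv_rhs => rw [cj_comp, lft_comp, ← hY, ← hpq]
    congr 1
    conv_lhs => rw [hX, ← lft_comp]
    congr 1
    have hid' : (p'.comp q').comp (q.comp p) = LinearMap.id := (LinearMap.comp_eq_id_comm F _).1 hid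
    rw [LinearMap.comp_assoc, hid', LinearMap.comp_id]
  -- singular vectors
  have hrank : ∀ z, z ≠ 0 → fU z z = 0 → ∀ X,
      op g (vecMulVec z (cov fU z ᵥ* X)) = μ⁻¹ • vecMulVec (α z) (cov fU (α z) ᵥ* op g X) := by
    intro z hz0 hz X
    obtain ⟨w, hwz, hw⟩ := S.symU.exists_aniso_orth ha hz0 hz
    have hzw : fU z w = 0 := by rw [S.symU.symm w z]; exact hwz
    have hzw' : fU z (-w) = 0 := by rw [← neg_one_smul F w, S.symU.smul_right, hzw, mul_zero]
    have e1 : ∀ Y : Matrix (Fin a) (Fin b) F, lft (sieg S.symU z w) Y + lft (sieg S.symU z (-w)) Y - (2 : F) • Y =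
        (-fU w w) • vecMulVec z (cov fU z ᵥ* Y) := by
      refine lin_ext (L := lft (sieg S.symU z w) + lft (sieg S.symU z (-w)) - (2 : F) • LinearMap.id)
        (L' := (-fU w w) • (plL b z).comp (rowc (cov fU z))) fun u e => ?_
      simp only [LinearMap.sub_apply, LinearMap.add_apply, LinearMap.smul_apply, LinearMap.id_apply, LinearMap.comp_apply,
        lft_pure, plL_apply, rowc_apply, vecMul_pure, dotProduct_comm (cov fU z) u, S.symU.form.dot_cov,
        pure_smul_right, smul_smul]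
      rw [← pure_smul_left, ← pure_smul_left, ← pure_add_left, ← pure_sub_left]
      congr 1
      rw [S.symU.sieg_apply, S.symU.sieg_apply, ← neg_one_smul F w, S.symU.smul_right, S.symU.form.smul_left,
        S.symU.smul_right]
      have h2 := S.two
      match_scalars <;> field_simp <;> ring
    have e2 : ∀ Y : Matrix (Fin a) (Fin b) F,
        lft (cj α (sieg S.symU z w)) Y + lft (cj α (sieg S.symU z (-w))) Y - (2 : F) • Y =
        (-fU w w) • μ⁻¹ • vecMulVec (α z) (cov fU (α z) ᵥ* Y) := by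
      refine lin_ext (L := lft (cj α (sieg S.symU z w)) + lft (cj α (sieg S.symU z (-w))) - (2 : F) • LinearMap.id)
        (L' := (-fU w w) • μ⁻¹ • (plL b (α z)).comp (rowc (cov fU (α z)))) fun u e => ?_
      obtain ⟨u, rfl⟩ := α.surjective u
      simp only [LinearMap.sub_apply, LinearMap.add_apply, LinearMap.smul_apply, LinearMap.id_apply, LinearMap.comp_apply,
        lft_pure, cj_apply, plL_apply, rowc_apply, vecMul_pure, dotProduct_comm (cov fU (α z)) (α u),
        S.symU.form.dot_cov, hsim, pure_smul_right, smul_smul]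
      rw [← pure_smul_left, ← pure_smul_left, ← pure_add_left, ← pure_sub_left, ← map_add, ← map_smul, ← map_smul,
        ← map_sub]
      congr 2
      rw [S.symU.sieg_apply, S.symU.sieg_apply, ← neg_one_smul F w, S.symU.smul_right, S.symU.form.smul_left,
        S.symU.smul_right]
      have h2 := S.two
      match_scalars <;> field_simp <;> ring
    have h := congrArg (op g) (e1 X)
    rw [map_sub, map_add, map_smul, map_smul, hP z w hz0 hz hzw, hP z (-w) hz0 hz hzw', e2] at h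
    exact (smul_right_injective _ (neg_ne_zero.2 hw) h).symm
  obtain ⟨z₀, -, hz₀0, hz₀⟩ := S.symU.exists_sing (K := ⊤) (by rw [finrank_top, Module.finrank_fin_fun]; exact ha)
  obtain ⟨p₀, -, hzp⟩ := S.symU.exists_partner_self hz₀0 hz₀
  have hpz : fU p₀ z₀ = 1 := by rw [S.symU.symm z₀ p₀]; exact hzp
  let G₀ : (Fin b → F) →ₗ[F] (Fin b → F) := μ⁻¹ • ((rowc (cov fU (α z₀))).comp ((op g).comp (plL b p₀)))
  have h0 : ∀ e, op g (vecMulVec z₀ e) = vecMulVec (α z₀) (G₀ e) := fun e => by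
    have h := hrank z₀ hz₀0 hz₀ (vecMulVec p₀ e)
    rwa [vecMul_pure, dotProduct_comm, S.symU.form.dot_cov, hpz, one_smul, ← pure_smul_right] at h
  have hstep : ∀ z z', z ≠ 0 → fU z z = 0 → fU z' z' = 0 → fU z' z ≠ 0 →
      (∀ e, op g (vecMulVec z' e) = vecMulVec (α z') (G₀ e)) →
      ∀ e, op g (vecMulVec z e) = vecMulVec (α z) (G₀ e) := fun z z' hz0 hz _ hne hz' e => by
    have h := hrank z hz0 hz (vecMulVec z' e)
    rw [vecMul_pure, dotProduct_comm, S.symU.form.dot_cov, hz', vecMul_pure, dotProduct_comm (cov fU (α z)),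
      S.symU.form.dot_cov, hsim, pure_smul_right, pure_smul_right, map_smul, smul_smul, ← mul_assoc,
      inv_mul_cancel₀ hμ, one_mul] at h
    exact smul_right_injective _ hne h
  have hall : ∀ u e, op g (vecMulVec u e) = vecMulVec (α u) (G₀ e) := fun u e => by
    refine S.symU.ext_sing ha (L := (op g).comp (pl a e)) (L' := (pl a (G₀ e)).comp α.toLinearMap) (fun z hz0 hz => ?_) u
    obtain ⟨v, hv, hv1, hv2⟩ := S.symU.exists_sing_both ha hz₀0 hz₀ hz0 hz
    have hv0 : v ≠ 0 := fun e0 => hv1 (by rw [e0, S.symU.form.zero_left])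
    exact hstep z v hz0 hz hv hv2
      (hstep v z₀ hv0 hv hz₀ (by rw [S.symU.symm v z₀]; exact hv1) h0) e
  obtain ⟨u, u', huu⟩ := S.exists_uu
  have hu0 : u ≠ 0 := fun e => huu (by rw [e, S.symU.form.zero_left])
  have hG₀ : Function.Injective G₀ := fun p q e => by
    obtain ⟨φ, hφ⟩ := exists_dot_one hu0
    have h : vecMulVec u p = vecMulVec u q := op_injective g (by rw [hall, hall, e])
    have h' := congrArg (fun Z => φ ᵥ* Z) h
    simpa [vecMul_pure, dotProduct_comm φ, hφ] using h'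
  obtain ⟨t, ht, -, htX⟩ := exists_kron_of (LinearMap.toMatrix' α.toLinearMap) (LinearMap.toMatrix' G₀)
    (det_ne_zero_of_injective α.injective) (det_ne_zero_of_injective hG₀)
  have e : g = t := ext_op (lin_ext fun x y => by
    rw [hall, htX, LinearMap.toMatrix'_mulVec, LinearMap.toMatrix'_mulVec]; rfl)
  rw [e]; exact ht

/-- If radical elements are Kronecker, so are all fixers. -/
theorem fixKron_of_radKron (K : RadKron fW M) : FixKron fW M := fun c hc0 hc g hg hfix =>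
  S.kron_of_self K hc0 hc hg (LinearEquiv.refl F _) hfix

/-- An element mapping a singular pure space to a pure space is Kronecker. -/
theorem kron_of_map (K : FixKron fW M) {c d : Fin b → F} (hc0 : c ≠ 0) (hc : fW c c = 0) (hd0 : d ≠ 0)
    {g : GL (Fin a × Fin b) F} (hg : g ∈ M) (h : ∀ u, op g (vecMulVec u c) ∈ LinearMap.range (pl a d)) :
    g ∈ Cfsg.Geo.kroneckerSubgroup a b F := by
  obtain ⟨φd, hφd⟩ := exists_dot_one hd0
  let α : (Fin a → F) →ₗ[F] (Fin a → F) := (contr a φd).comp ((op g).comp (pl a c))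
  have hα : ∀ u, op g (vecMulVec u c) = vecMulVec (α u) d := fun u => by
    obtain ⟨v, hv⟩ := h u
    rw [pl_apply] at hv
    show _ = vecMulVec (op g (vecMulVec u c) *ᵥ φd) d
    rw [← hv, pure_mulVec, hφd, one_smul]
  have hinj : Function.Injective α := fun x y e => pl_injective hc0 (op_injective g (by
    rw [pl_apply, pl_apply, hα, hα, e]))
  have hd : fW d d = 0 := by
    obtain ⟨u, u', huu⟩ := S.exists_uu
    obtain ⟨p, rfl⟩ := LinearMap.injective_iff_surjective.1 hinj u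
    obtain ⟨p', rfl⟩ := LinearMap.injective_iff_surjective.1 hinj u'
    have h := S.iso hg (vecMulVec p c) (vecMulVec p' c)
    rw [hα, hα, S.B_pure_pure, S.B_pure_pure, hc, zero_mul] at h
    exact (mul_eq_zero.1 h).resolve_right huu
  obtain ⟨k, hk, hkk, β, -, hkX, t, ht, hβd⟩ := S.exists_moveW hd0 hd hc0 hc
  let αe := LinearEquiv.ofBijective (t • α)
    ⟨fun x y e => hinj (smul_right_injective _ ht e),
      LinearMap.injective_iff_surjective.1 fun x y e => hinj (smul_right_injective _ ht e)⟩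
  have h1 := S.kron_of_self K.radKron hc0 hc (M.mul_mem hk hg) αe fun u => by
    show op (k * g) _ = vecMulVec (t • α u) c
    rw [op_mul, hα, hkX, hβd, pure_smul_right, pure_smul_left]
  have e : g = k⁻¹ * (k * g) := (inv_mul_cancel_left k g).symm
  rw [e]
  exact mul_mem (inv_mem hkk) h1

/-- An element mapping a sum of singular pure spaces into such a sum is Kronecker. -/
theorem kron_of_planes (K : FixKron fW M) {ℓ J : Submodule F (Fin b → F)} {c c' v : Fin b → F}
    (hcℓ : c ∈ ℓ) (hc0 : c ≠ 0) (hℓ : ∀ x ∈ ℓ, ∀ y ∈ ℓ, fW x y = 0)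
    (hc'J : c' ∈ J) (hc'0 : c' ≠ 0) (hc' : fW c' c' = 0)
    (hv : ∀ x ∈ ℓ, fW v x = 0) (hvℓ : v ∉ ℓ) {g : GL (Fin a × Fin b) F} (hg : g ∈ M)
    (h1 : ∀ u, ∀ x ∈ ℓ, ∀ w, (∀ j ∈ J, fW w j = 0) → kap fW w (op g (vecMulVec u x)) = 0)
    (h2 : ∀ u, ∀ j ∈ J, ∀ w, (∀ x ∈ ℓ, fW w x = 0) → kap fW w (op g⁻¹ (vecMulVec u j)) = 0) :
    g ∈ Cfsg.Geo.kroneckerSubgroup a b F := by
  have ha := S.three_le
  have hc : fW c c = 0 := hℓ c hcℓ c hcℓ
  have hcv : fW c v = 0 := by rw [S.symW.symm v c]; exact hv c hcℓ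
  obtain ⟨h, hh, -, hhX⟩ := S.exists_E hc hcv
  have hfix : ∀ u, op (g * h * g⁻¹) (vecMulVec u c') = vecMulVec u c' := fun u => by
    rw [op_mul, op_mul, hhX, h2 u c' hc'J c (fun x hx => hℓ c hcℓ x hx), h2 u c' hc'J v hv]
    simp only [pure_zero_left, smul_zero, add_zero, sub_zero, op_op_inv]
  have hM : g * h * g⁻¹ ∈ M := M.mul_mem (M.mul_mem hg hh) (M.inv_mem hg)
  obtain ⟨G, hG⟩ := exists_right_mul (by omega) hc'0 (K c' hc'0 hc' _ hM hfix) hfix
  have hperp : ∀ u e, (∀ j ∈ J, fW e j = 0) → ∀ x ∈ ℓ, kap fW x (op g⁻¹ (vecMulVec u e)) = 0 :=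
    fun u e he x hx => S.symU.ext fun y => by
      rw [S.symU.form.zero_left, ← S.B_pure, ← S.iso hg, op_op_inv, S.B_pure_left, h1 y x hx e he,
        S.symU.form.zero_left]
  have himg : ∀ u e, (∀ j ∈ J, fW e j = 0) → vecMulVec u (e ᵥ* G - e) ∈ wsub g c := fun u e he => by
    refine ⟨-kap fW v (op g⁻¹ (vecMulVec u e)), ?_⟩
    have h := hG (vecMulVec u e)
    rw [op_mul, op_mul, hhX, hperp u e he c hcℓ, pure_zero_left, pure_zero_left, smul_zero, add_zero, sub_zero,
      map_sub, op_op_inv, vecMulVec_mul] at h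
    rw [LinearMap.comp_apply, map_neg, map_neg, pl_apply, pure_sub_right, ← h]
    abel
  obtain ⟨e, he, hne⟩ : ∃ e, (∀ j ∈ J, fW e j = 0) ∧ e ᵥ* G - e ≠ 0 := by
    by_contra hno
    push Not at hno
    obtain ⟨e₁, he₁, he₁v⟩ := S.symW.exists_dual_out hvℓ
    obtain ⟨u, u', huu⟩ := S.exists_uu
    set X := vecMulVec u e₁ with hX
    have hrow : ∀ i, ∀ j ∈ J, fW (op g X i) j = 0 := fun i j hj => by
      rw [← S.symW.form.dot_cov]
      refine congrFun (show kap fW j (op g X) = 0 from S.symU.ext fun y => ?_) i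
      have h0 : ∀ w, (∀ x ∈ ℓ, fW w x = 0) → kap fW w (op g⁻¹ (vecMulVec y j)) = 0 := h2 y j hj
      rw [S.symU.form.zero_left, ← S.B_pure, ← S.iso (M.inv_mem hg), op_inv_op, S.B_pure_left, h0 e₁ he₁,
        S.symU.form.zero_left]
    have hfixX : op (g * h * g⁻¹) (op g X) = op g X := by
      rw [hG]
      refine Matrix.ext fun i j => ?_
      have hi := sub_eq_zero.1 (hno (op g X i) (hrow i))
      exact congrFun hi j
    rw [op_mul, op_mul, op_inv_op, hhX] at hfixX
    have h3 := op_injective g hfixX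
    simp only [hX, S.kap_pure, he₁ c hcℓ, he₁v, zero_smul, one_smul, pure_zero_left, smul_zero, add_zero,
      sub_zero, sub_eq_self] at h3
    have hu0 : u ≠ 0 := fun e => huu (by rw [e, S.symU.form.zero_left])
    exact hu0 (pl_injective hc0 (h3.trans (map_zero (pl a c)).symm))
  have hle : LinearMap.range (pl a (e ᵥ* G - e)) ≤ wsub g c := by
    rintro _ ⟨u, rfl⟩
    exact himg u e he
  have heq := Submodule.eq_of_le_of_finrank_eq hle (by rw [finrank_range_pl hne, finrank_wsub g hc0])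
  exact S.kron_of_map K hc0 hc hne hg fun u => heq ▸ ⟨u, rfl⟩

end OOSetup

end Cfsg.Agent.Lib.TensorOrth
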